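import Cfsg.Agent.Co1Mult96.Data
import Cfsg.Agent.SporStruct.CoCheck
import Cfsg.Agent.SporStruct.OutCo1Mono
import Cfsg.Agent.Lib.Golay.Mult.Tables

/-!
Elements of Co0 from signed permutations, tables and words in them.
-/

set_option autoImplicit false

namespace Cfsg.Agent.Co1Mult96

open Cfsg Cfsg.Agent.Leech Cfsg.Agent.SporStruct.CoMatrix Cfsg.Agent.SporStruct.OutCo1
open Cfsg.Agent.Golay (Tab isPermTab checkAut inCode permOf tab_permOf toSet)

/-- Every table passes the test of `exists_elem`. -/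
noncomputable def tabsOK (T : List (List (List ℤ))) : Bool :=
  T.all fun t => checkMap t && checkMap (transpL t)

/-- Every signed permutation gives an automorphism. -/
def monosOK (P : List (List ℕ × ℕ)) : Bool :=
  P.all fun p => isPermTab p.1 && checkAut p.1 && inCode p.2

theorem exists_list : ∀ T : List (List (List ℤ)), tabsOK T = true → ∃ L : List Co0, L.map rows = T
  | [], _ => ⟨[], rfl⟩
  | t :: T, h => by
    simp only [tabsOK, List.all_cons, Bool.and_eq_true] at h
    obtain ⟨g, hg⟩ := exists_elem h.1.1 h.1.2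
    obtain ⟨L, hL⟩ := exists_list T h.2
    exact ⟨g :: L, by rw [List.map_cons, hg, hL]⟩

theorem exists_monos : ∀ P : List (List ℕ × ℕ), monosOK P = true →
    ∃ L : List Co0, L.map rows = P.map sMat
  | [], _ => ⟨[], rfl⟩
  | p :: P, h => by
    simp only [monosOK, List.all_cons, Bool.and_eq_true] at h
    obtain ⟨⟨⟨hp, hA⟩, hc⟩, hP⟩ := h
    obtain ⟨L, hL⟩ := exists_monos P hP
    refine ⟨mono ⟨_, (tab_permOf hp).mem_M24 hA⟩ (toSet_mem_code hc) :: L, ?_⟩
    rw [List.map_cons, List.map_cons, hL, rows_mono (tab_permOf hp) (toSet_mem_code hc)]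

theorem exists_words {B T : List (List (List ℤ))} {W : List (List ℕ)} (hB : ∃ L : List Co0, L.map rows = B)
    (h : (W.map (evalP B) == T) = true) : ∃ L : List Co0, L.map rows = T := by
  obtain ⟨L, rfl⟩ := hB
  refine ⟨W.map (word L), ?_⟩
  rw [← beq_iff_eq.1 h, List.map_map]
  exact List.map_congr_left fun w _ => (evalP_word L w).symm

theorem exists_append {B C : List (List (List ℤ))} (hB : ∃ L : List Co0, L.map rows = B)
    (hC : ∃ L : List Co0, L.map rows = C) : ∃ L : List Co0, L.map rows = B ++ C := by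
  obtain ⟨L, rfl⟩ := hB
  obtain ⟨M, rfl⟩ := hC
  exact ⟨L ++ M, List.map_append⟩

end Cfsg.Agent.Co1Mult96
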