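import Cfsg.Agent.Co1Mult96.Base
import Cfsg.Agent.SporStruct.OutCo1Data

/-!
Kernel check of tables.
-/

set_option autoImplicit false

namespace Cfsg.Agent.Co1Mult96

open Cfsg.Agent.SporStruct

theorem rawB_ok : tabsOK (fiveRawB) = true := by decide +kernel

end Cfsg.Agent.Co1Mult96
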