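import Cfsg.Agent.Co1Mult96.RawA
import Cfsg.Agent.Co1Mult96.RawB
import Cfsg.Agent.Co1Mult96.RawC
import Cfsg.Agent.Co1Mult96.RawD

/-!
Kernel checks of the tables, and their meaning in Co0.
-/

set_option autoImplicit false

namespace Cfsg.Agent.Co1Mult96

open Cfsg Cfsg.Agent.Leech Cfsg.Agent.SporStruct Cfsg.Agent.SporStruct.CoMatrix
open Cfsg.Agent.Golay (pt idx idx_lt)

/-- The generators behind the tables for the prime 3. -/
def threeBase : List (List (List ℤ)) := [OutCo1.cTab] ++ threeMonos.map OutCo1.sMat

/-- The generators behind the tables for the prime 5. -/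
def fiveBase : List (List (List ℤ)) := fiveMonos.map OutCo1.sMat ++ (fiveRawA ++ fiveRawB)

/-- The generators behind the tables for the prime 7. -/
def sevenBase : List (List (List ℤ)) := sevenMonos.map OutCo1.sMat ++ sevenRaw

/-- All relations hold. -/
noncomputable def eqsOK (T : List (List (List ℤ))) (E : List (List ℕ × List ℕ)) : Bool :=
  E.all fun e => evalP T e.1 == evalP T e.2

/-- The vector `k` lies in the lattice, is fixed by the first `n` tables other than `k` and moved
by the table `k`. -/
noncomputable def vecOK (T : List (List (List ℤ))) (V : List (List ℤ)) (n : ℕ) : Bool :=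
  (List.range n).all fun k => decide ((V.getD k []).length = 24) && inLB (V.getD k []) &&
    ((List.range n).all fun i => (mapV (T.getD i idMat) (V.getD k []) == V.getD k []) == !(i == k))

theorem monos_ok : monosOK threeMonos = true ∧ monosOK fiveMonos = true ∧
    monosOK sevenMonos = true := by decide +kernel

theorem three_words : (threeWords.map (evalP threeBase) == threeTabs) = true := by decide +kernel

theorem three_eqsOK : eqsOK threeTabs threeEqs = true := by decide +kernel

theorem three_vecOK : vecOK threeTabs threeVecs 6 = true := by decide +kernel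

theorem five_words : (fiveWords.map (evalP fiveBase) == fiveTabs) = true := by decide +kernel

theorem five_eqsOK : eqsOK fiveTabs fiveEqs = true := by decide +kernel

theorem five_vecOK : vecOK fiveTabs fiveVecs 3 = true := by decide +kernel

theorem seven_words : (sevenWords.map (evalP sevenBase) == sevenTabs) = true := by decide +kernel

theorem seven_eqsOK : eqsOK sevenTabs sevenEqs = true := by decide +kernel

theorem seven_vecOK : vecOK sevenTabs sevenVecs 2 = true := by decide +kernel

theorem exists_three : ∃ L : List Co0, L.map rows = threeTabs :=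
  exists_words (exists_append (exists_list _ rawD_ok) (exists_monos _ monos_ok.1)) three_words

theorem exists_five : ∃ L : List Co0, L.map rows = fiveTabs :=
  exists_words (exists_append (exists_monos _ monos_ok.2.1)
    (exists_append (exists_list _ rawA_ok) (exists_list _ rawB_ok))) five_words

theorem exists_seven : ∃ L : List Co0, L.map rows = sevenTabs :=
  exists_words (exists_append (exists_monos _ monos_ok.2.2) (exists_list _ rawC_ok)) seven_words

theorem word_eq {T : List (List (List ℤ))} {E : List (List ℕ × List ℕ)} (h : eqsOK T E = true)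
    {L : List Co0} (hL : L.map rows = T) {u v : List ℕ} (huv : (u, v) ∈ E) :
    word L u = word L v := by
  have := beq_iff_eq.1 (List.all_eq_true.1 h _ huv)
  subst hL
  rw [evalP_word, evalP_word] at this
  exact rows_injective this

theorem rows_getD_tabs {T : List (List (List ℤ))} {L : List Co0} (hL : L.map rows = T) (i : ℕ) :
    rows (L.getD i 1) = T.getD i idMat := by
  rw [← hL, ← rows_one, List.getD_map]

theorem exists_vec {T : List (List (List ℤ))} {V : List (List ℤ)} {n : ℕ} (h : vecOK T V n = true)
    {L : List Co0} (hL : L.map rows = T) (k : Fin n) :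
    ∃ w : leechLattice, (∀ i : Fin n, i ≠ k → L.getD i.val 1 • w = w) ∧ L.getD k.val 1 • w ≠ w := by
  simp only [vecOK, List.all_eq_true, List.mem_range, Bool.and_eq_true, decide_eq_true_eq,
    beq_iff_eq] at h
  obtain ⟨⟨hlen, hin⟩, hi⟩ := h k.val k.isLt
  set v := V.getD k.val [] with hv
  have hmem : vecP v ∈ leechLattice := by
    rw [← inLB_vecL, vecL_vecP hlen]
    exact hin
  refine ⟨⟨vecP v, hmem⟩, fun i hik => ?_, fun e => ?_⟩
  · refine Subtype.ext (vecL_inj ?_)
    rw [← mapV_rows, rows_getD_tabs hL, vecL_vecP hlen]
    have := hi i.val i.isLt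
    rw [beq_eq_false_iff_ne.2 (fun e => hik (Fin.ext e))] at this
    simpa using this
  · have := hi k.val k.isLt
    simp only [beq_self_eq_true, Bool.not_true, beq_eq_false_iff_ne] at this
    apply this
    rw [← rows_getD_tabs hL, ← vecL_vecP hlen, mapV_rows (L.getD k.val 1) ⟨vecP v, hmem⟩, e]

end Cfsg.Agent.Co1Mult96
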