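import Mathlib.Data.Nat.Notation
import Mathlib.Data.Int.Notation

/-!
Tables for the odd Sylow subgroups of the largest Conway group and for its monomial subgroup.
-/

set_option autoImplicit false
set_option maxRecDepth 100000

namespace Cfsg.Agent.Co1Mult96

/-- Tables. -/
def threeTabs : List (List (List ℤ)) := [
  [[6,2,0,0,0,0,2,-2,2,0,0,0,2,0,0,0,2,0,0,0,0,0,2,0],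
    [2,6,0,0,0,0,-2,2,-2,0,0,0,-2,0,0,0,-2,0,0,0,0,0,-2,0],
    [0,0,-2,2,2,-2,0,0,0,2,-2,2,0,2,2,-2,0,-2,2,-2,2,2,0,2],
    [0,0,2,-2,2,-2,0,0,0,2,-2,2,0,2,2,2,0,2,2,2,-2,-2,0,-2],
    [0,0,2,2,-2,2,0,0,0,2,-2,-2,0,2,-2,-2,0,2,2,2,-2,2,0,2],
    [0,0,2,2,-2,2,0,0,0,-2,-2,2,0,-2,2,2,0,2,2,-2,2,2,0,-2],
    [2,-2,0,0,0,0,6,2,-2,0,0,0,-2,0,0,0,-2,0,0,0,0,0,-2,0],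
    [2,-2,0,0,0,0,-2,2,-2,0,0,0,-2,0,0,0,-2,0,0,0,0,0,6,0],
    [2,-2,0,0,0,0,-2,2,6,0,0,0,-2,0,0,0,-2,0,0,0,0,0,-2,0],
    [0,0,2,2,2,2,0,0,0,-2,2,2,0,2,-2,-2,0,-2,2,2,2,-2,0,-2],
    [0,0,2,2,2,-2,0,0,0,-2,2,2,0,-2,2,-2,0,2,-2,2,-2,2,0,2],
    [0,0,-2,-2,2,2,0,0,0,-2,2,2,0,2,-2,2,0,2,2,-2,-2,2,0,2],
    [2,-2,0,0,0,0,-2,2,-2,0,0,0,6,0,0,0,-2,0,0,0,0,0,-2,0],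
    [0,0,2,2,2,2,0,0,0,2,2,-2,0,-2,2,2,0,-2,2,-2,-2,-2,0,2],
    [0,0,-2,-2,2,2,0,0,0,2,2,-2,0,-2,2,-2,0,2,2,2,2,2,0,-2],
    [0,0,2,-2,2,2,0,0,0,2,-2,2,0,-2,-2,2,0,-2,-2,2,2,2,0,2],
    [2,-2,0,0,0,0,-2,2,-2,0,0,0,-2,0,0,0,6,0,0,0,0,0,-2,0],
    [0,0,2,-2,-2,2,0,0,0,2,2,2,0,2,2,-2,0,2,-2,-2,2,-2,0,2],
    [0,0,2,2,2,-2,0,0,0,2,2,-2,0,2,-2,2,0,2,-2,-2,2,2,0,-2],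
    [0,0,2,-2,-2,-2,0,0,0,-2,2,-2,0,2,2,2,0,-2,2,2,2,2,0,2],
    [0,0,-2,2,2,2,0,0,0,-2,-2,-2,0,2,2,2,0,2,-2,2,2,-2,0,2],
    [0,0,-2,2,-2,2,0,0,0,2,2,2,0,2,2,2,0,-2,-2,2,-2,2,0,-2],
    [-2,2,0,0,0,0,2,6,2,0,0,0,2,0,0,0,2,0,0,0,0,0,2,0],
    [0,0,-2,2,-2,-2,0,0,0,2,2,2,0,-2,-2,2,0,2,2,2,2,-2,0,2]],
  [[6,2,0,2,0,2,0,0,2,2,0,0,2,0,0,0,0,0,0,0,-2,0,0,0],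
    [2,6,0,-2,0,-2,0,0,-2,-2,0,0,-2,0,0,0,0,0,0,0,2,0,0,0],
    [0,0,-2,0,2,0,2,2,0,0,2,-2,0,2,-2,2,2,2,2,2,0,-2,-2,-2],
    [2,-2,0,6,0,-2,0,0,-2,-2,0,0,-2,0,0,0,0,0,0,0,2,0,0,0],
    [0,0,2,0,-2,0,2,-2,0,0,-2,-2,0,2,-2,-2,2,2,2,2,0,2,2,2],
    [-2,2,0,2,0,2,0,0,2,2,0,0,2,0,0,0,0,0,0,0,6,0,0,0],
    [0,0,2,0,2,0,-2,2,0,0,-2,2,0,2,-2,2,2,-2,2,-2,0,2,2,-2],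
    [0,0,-2,0,2,0,-2,2,0,0,2,-2,0,2,2,-2,2,2,-2,-2,0,2,2,2],
    [2,-2,0,-2,0,-2,0,0,6,-2,0,0,-2,0,0,0,0,0,0,0,2,0,0,0],
    [2,-2,0,-2,0,-2,0,0,-2,6,0,0,-2,0,0,0,0,0,0,0,2,0,0,0],
    [0,0,-2,0,2,0,2,2,0,0,2,2,0,-2,-2,-2,-2,-2,2,2,0,2,2,2],
    [0,0,2,0,2,0,-2,-2,0,0,2,2,0,2,-2,2,-2,2,-2,2,0,-2,2,2],
    [2,-2,0,-2,0,-2,0,0,-2,-2,0,0,6,0,0,0,0,0,0,0,2,0,0,0],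
    [0,0,2,0,2,0,2,-2,0,0,2,-2,0,-2,2,2,2,-2,2,-2,0,-2,2,2],
    [0,0,2,0,2,0,2,2,0,0,-2,-2,0,-2,2,2,-2,2,-2,2,0,2,2,-2],
    [0,0,-2,0,2,0,-2,-2,0,0,-2,2,0,-2,2,2,2,2,2,2,0,2,-2,2],
    [0,0,2,0,2,0,2,-2,0,0,2,2,0,2,2,-2,-2,2,2,-2,0,2,-2,-2],
    [0,0,-2,0,-2,0,2,2,0,0,-2,2,0,2,2,2,-2,2,2,-2,0,-2,2,2],
    [0,0,2,0,2,0,2,2,0,0,-2,2,0,2,2,-2,2,-2,-2,2,0,-2,-2,2],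
    [0,0,-2,0,-2,0,2,-2,0,0,2,2,0,2,2,2,2,-2,-2,2,0,2,2,-2],
    [2,-2,0,-2,0,6,0,0,-2,-2,0,0,-2,0,0,0,0,0,0,0,2,0,0,0],
    [0,0,2,0,-2,0,-2,2,0,0,2,-2,0,2,2,2,-2,-2,2,2,0,2,-2,2],
    [0,0,2,0,-2,0,-2,2,0,0,2,2,0,-2,2,-2,2,2,2,2,0,-2,2,-2],
    [0,0,2,0,-2,0,2,2,0,0,2,2,0,-2,-2,2,2,2,-2,-2,0,2,-2,2]],
  [[-2,0,-2,-2,-2,2,0,2,0,0,2,0,0,0,0,2,-2,2,-2,2,2,2,2,2],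
    [0,6,0,0,0,0,-2,0,-2,-2,0,2,-2,-2,2,0,0,0,0,0,0,0,0,0],
    [-2,0,-2,2,2,2,0,2,0,0,2,0,0,0,0,2,2,2,2,2,-2,-2,-2,-2],
    [-2,0,2,-2,2,2,0,2,0,0,2,0,0,0,0,-2,2,-2,2,-2,2,2,-2,2],
    [-2,0,2,2,-2,2,0,-2,0,0,-2,0,0,0,0,-2,2,2,2,2,-2,2,2,2],
    [-2,0,-2,-2,-2,2,0,-2,0,0,-2,0,0,0,0,2,2,-2,2,-2,2,-2,2,-2],
    [0,-2,0,0,0,0,6,0,-2,-2,0,2,-2,-2,2,0,0,0,0,0,0,0,0,0],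
    [-2,0,-2,-2,2,-2,0,2,0,0,-2,0,0,0,0,-2,-2,2,2,-2,-2,2,2,-2],
    [0,-2,0,0,0,0,-2,0,6,-2,0,2,-2,-2,2,0,0,0,0,0,0,0,0,0],
    [0,-2,0,0,0,0,-2,0,-2,6,0,2,-2,-2,2,0,0,0,0,0,0,0,0,0],
    [-2,0,-2,-2,2,-2,0,-2,0,0,2,0,0,0,0,-2,2,-2,-2,2,-2,-2,2,2],
    [0,-2,0,0,0,0,-2,0,-2,-2,0,2,-2,-2,-6,0,0,0,0,0,0,0,0,0],
    [0,-2,0,0,0,0,-2,0,-2,-2,0,2,6,-2,2,0,0,0,0,0,0,0,0,0],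
    [0,-2,0,0,0,0,-2,0,-2,-2,0,2,-2,6,2,0,0,0,0,0,0,0,0,0],
    [0,-2,0,0,0,0,-2,0,-2,-2,0,-6,-2,-2,2,0,0,0,0,0,0,0,0,0],
    [-2,0,-2,2,2,2,0,-2,0,0,-2,0,0,0,0,2,-2,-2,-2,-2,-2,2,-2,2],
    [-2,0,2,2,2,-2,0,2,0,0,-2,0,0,0,0,2,-2,-2,2,2,2,-2,2,2],
    [-2,0,-2,2,-2,-2,0,2,0,0,-2,0,0,0,0,-2,2,2,-2,-2,2,-2,-2,2],
    [-2,0,2,2,2,-2,0,-2,0,0,2,0,0,0,0,2,2,2,-2,-2,2,2,2,-2],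
    [-2,0,-2,2,-2,-2,0,-2,0,0,2,0,0,0,0,-2,-2,-2,2,2,2,2,-2,-2],
    [-2,0,2,-2,2,2,0,-2,0,0,-2,0,0,0,0,-2,-2,2,-2,2,2,-2,-2,-2],
    [-2,0,2,-2,-2,-2,0,2,0,0,-2,0,0,0,0,2,2,-2,-2,2,-2,2,-2,-2],
    [-2,0,2,2,-2,2,0,2,0,0,2,0,0,0,0,-2,-2,-2,-2,-2,-2,-2,2,-2],
    [-2,0,2,-2,-2,-2,0,-2,0,0,2,0,0,0,0,2,-2,2,2,-2,-2,-2,-2,2]],
  [[6,2,0,0,0,0,2,0,2,2,0,0,0,0,0,-2,0,0,2,0,0,2,0,0],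
    [2,6,0,0,0,0,-2,0,-2,-2,0,0,0,0,0,2,0,0,-2,0,0,-2,0,0],
    [0,0,-2,2,2,-2,0,-2,0,0,-2,2,2,2,2,0,2,-2,0,-2,2,0,2,2],
    [0,0,2,-2,2,2,0,2,0,0,2,-2,2,2,-2,0,2,-2,0,-2,2,0,-2,2],
    [0,0,2,2,-2,2,0,-2,0,0,-2,-2,2,2,-2,0,2,2,0,2,-2,0,2,2],
    [0,0,2,-2,-2,2,0,2,0,0,-2,2,2,2,2,0,-2,-2,0,2,2,0,2,-2],
    [2,-2,0,0,0,0,6,0,-2,-2,0,0,0,0,0,2,0,0,-2,0,0,-2,0,0],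
    [0,0,2,-2,2,2,0,2,0,0,-2,2,-2,-2,2,0,2,2,0,-2,-2,0,2,2],
    [2,-2,0,0,0,0,-2,0,6,-2,0,0,0,0,0,2,0,0,-2,0,0,-2,0,0],
    [2,-2,0,0,0,0,-2,0,-2,6,0,0,0,0,0,2,0,0,-2,0,0,-2,0,0],
    [0,0,2,-2,2,-2,0,-2,0,0,2,2,-2,2,-2,0,-2,2,0,2,2,0,2,2],
    [0,0,-2,2,2,2,0,2,0,0,2,2,2,-2,-2,0,-2,-2,0,2,-2,0,2,2],
    [0,0,2,2,2,-2,0,2,0,0,2,-2,-2,2,2,0,2,-2,0,2,-2,0,2,-2],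
    [0,0,2,2,2,-2,0,2,0,0,-2,2,2,-2,-2,0,2,2,0,2,2,0,-2,-2],
    [0,0,-2,2,2,2,0,2,0,0,-2,-2,-2,2,2,0,-2,2,0,2,2,0,-2,2],
    [2,-2,0,0,0,0,-2,0,-2,-2,0,0,0,0,0,2,0,0,-2,0,0,6,0,0],
    [0,0,2,2,2,2,0,-2,0,0,2,2,2,2,2,0,-2,2,0,-2,-2,0,-2,-2],
    [0,0,2,2,-2,-2,0,2,0,0,2,-2,2,-2,2,0,-2,2,0,-2,2,0,2,2],
    [2,-2,0,0,0,0,-2,0,-2,-2,0,0,0,0,0,2,0,0,6,0,0,-2,0,0],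
    [0,0,2,2,-2,2,0,-2,0,0,2,2,-2,-2,2,0,2,-2,0,2,2,0,-2,2],
    [0,0,-2,-2,2,2,0,-2,0,0,2,-2,2,-2,2,0,2,2,0,2,2,0,2,-2],
    [-2,2,0,0,0,0,2,0,2,2,0,0,0,0,0,6,0,0,2,0,0,2,0,0],
    [0,0,-2,2,-2,2,0,2,0,0,2,2,-2,2,-2,0,2,2,0,-2,2,0,2,-2],
    [0,0,-2,-2,-2,-2,0,2,0,0,2,2,2,2,2,0,2,2,0,2,-2,0,-2,2]],
  [[6,0,2,0,0,0,2,0,2,2,-2,0,2,0,0,0,0,0,0,2,0,0,0,0],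
    [0,-2,0,2,2,2,0,-2,0,0,0,-2,0,2,2,2,2,-2,2,0,2,2,-2,-2],
    [2,0,6,0,0,0,-2,0,-2,-2,2,0,-2,0,0,0,0,0,0,-2,0,0,0,0],
    [0,2,0,-2,2,-2,0,-2,0,0,0,2,0,2,2,2,2,2,2,0,-2,-2,2,-2],
    [0,2,0,2,-2,2,0,-2,0,0,0,-2,0,2,-2,-2,2,2,2,0,-2,2,2,2],
    [0,-2,0,2,-2,2,0,2,0,0,0,2,0,2,-2,2,2,2,-2,0,2,-2,2,-2],
    [2,0,-2,0,0,0,6,0,-2,-2,2,0,-2,0,0,0,0,0,0,-2,0,0,0,0],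
    [0,2,0,2,2,2,0,2,0,0,0,-2,0,-2,2,2,-2,2,-2,0,-2,2,2,-2],
    [2,0,-2,0,0,0,-2,0,6,-2,2,0,-2,0,0,0,0,0,0,-2,0,0,0,0],
    [2,0,-2,0,0,0,-2,0,-2,6,2,0,-2,0,0,0,0,0,0,-2,0,0,0,0],
    [2,0,-2,0,0,0,-2,0,-2,-2,2,0,-2,0,0,0,0,0,0,6,0,0,0,0],
    [0,2,0,-2,2,2,0,-2,0,0,0,2,0,-2,-2,2,2,-2,-2,0,2,2,2,2],
    [2,0,-2,0,0,0,-2,0,-2,-2,2,0,6,0,0,0,0,0,0,-2,0,0,0,0],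
    [0,2,0,2,2,-2,0,2,0,0,0,2,0,-2,-2,-2,2,2,2,0,2,2,-2,-2],
    [0,-2,0,-2,2,-2,0,2,0,0,0,-2,0,2,2,-2,2,2,-2,0,2,2,2,2],
    [0,-2,0,-2,2,2,0,2,0,0,0,2,0,2,-2,2,-2,2,2,0,-2,2,-2,2],
    [0,2,0,2,2,-2,0,2,0,0,0,-2,0,2,-2,2,-2,-2,2,0,2,-2,2,2],
    [0,2,0,-2,-2,2,0,2,0,0,0,-2,0,-2,2,2,2,2,2,0,2,-2,-2,2],
    [0,2,0,2,2,2,0,2,0,0,0,2,0,2,2,-2,2,-2,-2,0,-2,-2,-2,2],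
    [-2,0,2,0,0,0,2,0,2,2,6,0,2,0,0,0,0,0,0,2,0,0,0,0],
    [0,-2,0,2,2,2,0,-2,0,0,0,2,0,-2,2,-2,-2,2,2,0,2,-2,2,2],
    [0,-2,0,2,-2,-2,0,2,0,0,0,2,0,-2,2,2,2,-2,2,0,-2,2,2,2],
    [0,2,0,-2,-2,2,0,2,0,0,0,2,0,2,2,-2,-2,-2,2,0,2,2,2,-2],
    [0,2,0,2,-2,-2,0,-2,0,0,0,2,0,2,2,2,-2,2,-2,0,2,2,-2,2]],
  [[6,2,0,0,2,0,2,0,0,2,0,0,2,0,0,0,0,2,0,0,0,0,0,-2],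
    [2,6,0,0,-2,0,-2,0,0,-2,0,0,-2,0,0,0,0,-2,0,0,0,0,0,2],
    [0,0,-2,2,0,2,0,2,2,0,2,-2,0,2,-2,2,2,0,2,2,-2,-2,-2,0],
    [0,0,2,-2,0,-2,0,-2,2,0,-2,2,0,2,2,2,2,0,2,2,-2,-2,2,0],
    [2,-2,0,0,6,0,-2,0,0,-2,0,0,-2,0,0,0,0,-2,0,0,0,0,0,2],
    [0,0,-2,2,0,2,0,-2,-2,0,-2,2,0,2,-2,2,-2,0,2,2,2,2,2,0],
    [2,-2,0,0,-2,0,6,0,0,-2,0,0,-2,0,0,0,0,-2,0,0,0,0,0,2],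
    [0,0,-2,2,0,-2,0,2,-2,0,2,2,0,-2,2,2,2,0,2,-2,-2,2,2,0],
    [0,0,2,2,0,2,0,2,-2,0,-2,-2,0,2,2,-2,2,0,2,-2,2,-2,2,0],
    [2,-2,0,0,-2,0,-2,0,0,6,0,0,-2,0,0,0,0,-2,0,0,0,0,0,2],
    [0,0,-2,2,0,-2,0,2,2,0,2,2,0,2,2,-2,-2,0,-2,2,2,-2,2,0],
    [0,0,2,-2,0,2,0,2,2,0,2,2,0,-2,-2,2,-2,0,2,-2,2,-2,2,0],
    [2,-2,0,0,-2,0,-2,0,0,-2,0,0,6,0,0,0,0,-2,0,0,0,0,0,2],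
    [0,0,2,2,0,-2,0,2,2,0,-2,2,0,-2,-2,-2,2,0,2,2,2,2,-2,0],
    [0,0,2,-2,0,-2,0,2,-2,0,2,-2,0,2,2,2,-2,0,2,2,2,2,-2,0],
    [0,0,-2,-2,0,2,0,2,2,0,-2,2,0,2,2,2,2,0,-2,-2,2,2,-2,0],
    [0,0,2,2,0,2,0,-2,2,0,2,2,0,2,2,-2,-2,0,2,-2,-2,2,-2,0],
    [-2,2,0,0,2,0,2,0,0,2,0,0,2,0,0,0,0,2,0,0,0,0,0,6],
    [0,0,2,2,0,-2,0,-2,2,0,2,-2,0,2,-2,2,2,0,-2,-2,2,2,2,0],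
    [0,0,-2,-2,0,2,0,-2,2,0,2,-2,0,-2,2,-2,2,0,2,2,2,2,2,0],
    [0,0,2,2,0,2,0,-2,-2,0,2,2,0,-2,2,2,2,0,-2,2,2,-2,-2,0],
    [0,0,2,2,0,2,0,2,2,0,-2,-2,0,-2,2,2,-2,0,-2,2,-2,2,2,0],
    [0,0,2,-2,0,2,0,2,-2,0,2,2,0,2,-2,-2,2,0,-2,2,-2,2,2,0],
    [2,-2,0,0,-2,0,-2,0,0,-2,0,0,-2,0,0,0,0,6,0,0,0,0,0,2]],
  [[-8,0,0,0,0,0,0,0,0,0,0,0,0,0,0,0,0,0,0,0,0,0,0,0],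
    [0,-8,0,0,0,0,0,0,0,0,0,0,0,0,0,0,0,0,0,0,0,0,0,0],
    [0,0,-8,0,0,0,0,0,0,0,0,0,0,0,0,0,0,0,0,0,0,0,0,0],
    [0,0,0,-8,0,0,0,0,0,0,0,0,0,0,0,0,0,0,0,0,0,0,0,0],
    [0,0,0,0,-8,0,0,0,0,0,0,0,0,0,0,0,0,0,0,0,0,0,0,0],
    [0,0,0,0,0,8,0,0,0,0,0,0,0,0,0,0,0,0,0,0,0,0,0,0],
    [0,0,0,0,0,0,-8,0,0,0,0,0,0,0,0,0,0,0,0,0,0,0,0,0],
    [0,0,0,0,0,0,0,8,0,0,0,0,0,0,0,0,0,0,0,0,0,0,0,0],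
    [0,0,0,0,0,0,0,0,-8,0,0,0,0,0,0,0,0,0,0,0,0,0,0,0],
    [0,0,0,0,0,0,0,0,0,-8,0,0,0,0,0,0,0,0,0,0,0,0,0,0],
    [0,0,0,0,0,0,0,0,0,0,8,0,0,0,0,0,0,0,0,0,0,0,0,0],
    [0,0,0,0,0,0,0,0,0,0,0,8,0,0,0,0,0,0,0,0,0,0,0,0],
    [0,0,0,0,0,0,0,0,0,0,0,0,-8,0,0,0,0,0,0,0,0,0,0,0],
    [0,0,0,0,0,0,0,0,0,0,0,0,0,-8,0,0,0,0,0,0,0,0,0,0],
    [0,0,0,0,0,0,0,0,0,0,0,0,0,0,8,0,0,0,0,0,0,0,0,0],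
    [0,0,0,0,0,0,0,0,0,0,0,0,0,0,0,8,0,0,0,0,0,0,0,0],
    [0,0,0,0,0,0,0,0,0,0,0,0,0,0,0,0,-8,0,0,0,0,0,0,0],
    [0,0,0,0,0,0,0,0,0,0,0,0,0,0,0,0,0,8,0,0,0,0,0,0],
    [0,0,0,0,0,0,0,0,0,0,0,0,0,0,0,0,0,0,-8,0,0,0,0,0],
    [0,0,0,0,0,0,0,0,0,0,0,0,0,0,0,0,0,0,0,8,0,0,0,0],
    [0,0,0,0,0,0,0,0,0,0,0,0,0,0,0,0,0,0,0,0,8,0,0,0],
    [0,0,0,0,0,0,0,0,0,0,0,0,0,0,0,0,0,0,0,0,0,8,0,0],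
    [0,0,0,0,0,0,0,0,0,0,0,0,0,0,0,0,0,0,0,0,0,0,8,0],
    [0,0,0,0,0,0,0,0,0,0,0,0,0,0,0,0,0,0,0,0,0,0,0,8]],
  [[0,0,-8,0,0,0,0,0,0,0,0,0,0,0,0,0,0,0,0,0,0,0,0,0],
    [0,0,0,0,0,0,0,0,0,0,0,0,0,0,0,0,8,0,0,0,0,0,0,0],
    [0,0,0,0,0,0,0,0,0,8,0,0,0,0,0,0,0,0,0,0,0,0,0,0],
    [0,8,0,0,0,0,0,0,0,0,0,0,0,0,0,0,0,0,0,0,0,0,0,0],
    [0,0,0,0,0,0,0,0,0,0,0,0,0,0,0,0,0,0,8,0,0,0,0,0],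
    [0,0,0,0,0,0,0,0,0,0,0,0,0,0,0,0,0,0,0,0,0,0,-8,0],
    [0,0,0,0,0,0,0,0,0,0,0,0,8,0,0,0,0,0,0,0,0,0,0,0],
    [0,0,0,0,0,0,0,0,0,0,0,0,0,0,0,8,0,0,0,0,0,0,0,0],
    [0,0,0,0,8,0,0,0,0,0,0,0,0,0,0,0,0,0,0,0,0,0,0,0],
    [-8,0,0,0,0,0,0,0,0,0,0,0,0,0,0,0,0,0,0,0,0,0,0,0],
    [0,0,0,0,0,0,0,0,0,0,0,-8,0,0,0,0,0,0,0,0,0,0,0,0],
    [0,0,0,0,0,0,0,0,0,0,0,0,0,0,-8,0,0,0,0,0,0,0,0,0],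
    [0,0,0,0,0,0,0,0,0,0,0,0,0,8,0,0,0,0,0,0,0,0,0,0],
    [0,0,0,0,0,0,8,0,0,0,0,0,0,0,0,0,0,0,0,0,0,0,0,0],
    [0,0,0,0,0,0,0,0,0,0,8,0,0,0,0,0,0,0,0,0,0,0,0,0],
    [0,0,0,0,0,0,0,0,0,0,0,0,0,0,0,0,0,8,0,0,0,0,0,0],
    [0,0,0,8,0,0,0,0,0,0,0,0,0,0,0,0,0,0,0,0,0,0,0,0],
    [0,0,0,0,0,0,0,8,0,0,0,0,0,0,0,0,0,0,0,0,0,0,0,0],
    [0,0,0,0,0,0,0,0,8,0,0,0,0,0,0,0,0,0,0,0,0,0,0,0],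
    [0,0,0,0,0,0,0,0,0,0,0,0,0,0,0,0,0,0,0,0,-8,0,0,0],
    [0,0,0,0,0,0,0,0,0,0,0,0,0,0,0,0,0,0,0,0,0,0,0,-8],
    [0,0,0,0,0,8,0,0,0,0,0,0,0,0,0,0,0,0,0,0,0,0,0,0],
    [0,0,0,0,0,0,0,0,0,0,0,0,0,0,0,0,0,0,0,0,0,-8,0,0],
    [0,0,0,0,0,0,0,0,0,0,0,0,0,0,0,0,0,0,0,8,0,0,0,0]],
  [[0,0,0,0,0,0,0,0,0,-8,0,0,0,0,0,0,0,0,0,0,0,0,0,0],
    [0,0,8,0,0,0,0,0,0,0,0,0,0,0,0,0,0,0,0,0,0,0,0,0],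
    [0,0,0,0,0,0,0,0,0,0,0,0,0,0,0,0,8,0,0,0,0,0,0,0],
    [0,0,0,0,0,0,8,0,0,0,0,0,0,0,0,0,0,0,0,0,0,0,0,0],
    [0,0,0,0,8,0,0,0,0,0,0,0,0,0,0,0,0,0,0,0,0,0,0,0],
    [0,0,0,0,0,0,0,0,0,0,-8,0,0,0,0,0,0,0,0,0,0,0,0,0],
    [0,0,0,0,0,0,0,0,0,0,0,0,0,8,0,0,0,0,0,0,0,0,0,0],
    [0,0,0,0,0,0,0,8,0,0,0,0,0,0,0,0,0,0,0,0,0,0,0,0],
    [0,0,0,0,0,0,0,0,8,0,0,0,0,0,0,0,0,0,0,0,0,0,0,0],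
    [0,0,0,0,0,0,0,0,0,0,0,0,8,0,0,0,0,0,0,0,0,0,0,0],
    [0,0,0,0,0,0,0,0,0,0,0,0,0,0,0,8,0,0,0,0,0,0,0,0],
    [0,0,0,0,0,0,0,0,0,0,0,0,0,0,0,0,0,0,0,0,0,0,-8,0],
    [-8,0,0,0,0,0,0,0,0,0,0,0,0,0,0,0,0,0,0,0,0,0,0,0],
    [0,0,0,8,0,0,0,0,0,0,0,0,0,0,0,0,0,0,0,0,0,0,0,0],
    [0,0,0,0,0,0,0,0,0,0,0,0,0,0,8,0,0,0,0,0,0,0,0,0],
    [0,0,0,0,0,-8,0,0,0,0,0,0,0,0,0,0,0,0,0,0,0,0,0,0],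
    [0,8,0,0,0,0,0,0,0,0,0,0,0,0,0,0,0,0,0,0,0,0,0,0],
    [0,0,0,0,0,0,0,0,0,0,0,-8,0,0,0,0,0,0,0,0,0,0,0,0],
    [0,0,0,0,0,0,0,0,0,0,0,0,0,0,0,0,0,0,8,0,0,0,0,0],
    [0,0,0,0,0,0,0,0,0,0,0,0,0,0,0,0,0,0,0,0,0,0,0,8],
    [0,0,0,0,0,0,0,0,0,0,0,0,0,0,0,0,0,0,0,-8,0,0,0,0],
    [0,0,0,0,0,0,0,0,0,0,0,0,0,0,0,0,0,0,0,0,0,8,0,0],
    [0,0,0,0,0,0,0,0,0,0,0,0,0,0,0,0,0,8,0,0,0,0,0,0],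
    [0,0,0,0,0,0,0,0,0,0,0,0,0,0,0,0,0,0,0,0,-8,0,0,0]],
  [[0,0,0,0,0,0,-8,0,0,0,0,0,0,0,0,0,0,0,0,0,0,0,0,0],
    [0,0,0,0,0,0,0,0,0,8,0,0,0,0,0,0,0,0,0,0,0,0,0,0],
    [0,0,0,0,0,0,0,0,0,0,0,0,8,0,0,0,0,0,0,0,0,0,0,0],
    [0,0,8,0,0,0,0,0,0,0,0,0,0,0,0,0,0,0,0,0,0,0,0,0],
    [0,0,0,0,8,0,0,0,0,0,0,0,0,0,0,0,0,0,0,0,0,0,0,0],
    [0,0,0,0,0,0,0,0,0,0,0,0,0,0,0,-8,0,0,0,0,0,0,0,0],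
    [0,0,0,0,0,0,0,0,0,0,0,0,0,0,0,0,8,0,0,0,0,0,0,0],
    [0,0,0,0,0,0,0,0,0,0,0,0,0,0,8,0,0,0,0,0,0,0,0,0],
    [0,0,0,0,0,0,0,0,8,0,0,0,0,0,0,0,0,0,0,0,0,0,0,0],
    [0,0,0,0,0,0,0,0,0,0,0,0,0,8,0,0,0,0,0,0,0,0,0,0],
    [0,0,0,0,0,-8,0,0,0,0,0,0,0,0,0,0,0,0,0,0,0,0,0,0],
    [0,0,0,0,0,0,0,0,0,0,0,0,0,0,0,0,0,0,0,0,0,0,-8,0],
    [0,0,0,8,0,0,0,0,0,0,0,0,0,0,0,0,0,0,0,0,0,0,0,0],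
    [0,8,0,0,0,0,0,0,0,0,0,0,0,0,0,0,0,0,0,0,0,0,0,0],
    [0,0,0,0,0,0,0,0,0,0,0,0,0,0,0,0,0,0,0,0,0,-8,0,0],
    [0,0,0,0,0,0,0,0,0,0,8,0,0,0,0,0,0,0,0,0,0,0,0,0],
    [-8,0,0,0,0,0,0,0,0,0,0,0,0,0,0,0,0,0,0,0,0,0,0,0],
    [0,0,0,0,0,0,0,0,0,0,0,-8,0,0,0,0,0,0,0,0,0,0,0,0],
    [0,0,0,0,0,0,0,0,0,0,0,0,0,0,0,0,0,0,8,0,0,0,0,0],
    [0,0,0,0,0,0,0,0,0,0,0,0,0,0,0,0,0,0,0,8,0,0,0,0],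
    [0,0,0,0,0,0,0,0,0,0,0,0,0,0,0,0,0,0,0,0,8,0,0,0],
    [0,0,0,0,0,0,0,-8,0,0,0,0,0,0,0,0,0,0,0,0,0,0,0,0],
    [0,0,0,0,0,0,0,0,0,0,0,0,0,0,0,0,0,8,0,0,0,0,0,0],
    [0,0,0,0,0,0,0,0,0,0,0,0,0,0,0,0,0,0,0,0,0,0,0,8]],
  [[0,0,0,0,0,0,0,0,0,8,0,0,0,0,0,0,0,0,0,0,0,0,0,0],
    [0,0,0,0,0,0,0,0,0,0,0,0,0,0,0,0,-8,0,0,0,0,0,0,0],
    [0,0,-8,0,0,0,0,0,0,0,0,0,0,0,0,0,0,0,0,0,0,0,0,0],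
    [0,0,0,-8,0,0,0,0,0,0,0,0,0,0,0,0,0,0,0,0,0,0,0,0],
    [0,0,0,0,0,0,0,0,-8,0,0,0,0,0,0,0,0,0,0,0,0,0,0,0],
    [0,0,0,0,0,0,0,0,0,0,0,0,0,0,0,0,0,0,0,0,0,0,-8,0],
    [0,0,0,0,0,0,0,0,0,0,0,0,0,-8,0,0,0,0,0,0,0,0,0,0],
    [0,0,0,0,0,0,0,8,0,0,0,0,0,0,0,0,0,0,0,0,0,0,0,0],
    [0,0,0,0,-8,0,0,0,0,0,0,0,0,0,0,0,0,0,0,0,0,0,0,0],
    [8,0,0,0,0,0,0,0,0,0,0,0,0,0,0,0,0,0,0,0,0,0,0,0],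
    [0,0,0,0,0,0,0,0,0,0,0,-8,0,0,0,0,0,0,0,0,0,0,0,0],
    [0,0,0,0,0,0,0,0,0,0,-8,0,0,0,0,0,0,0,0,0,0,0,0,0],
    [0,0,0,0,0,0,0,0,0,0,0,0,-8,0,0,0,0,0,0,0,0,0,0,0],
    [0,0,0,0,0,0,-8,0,0,0,0,0,0,0,0,0,0,0,0,0,0,0,0,0],
    [0,0,0,0,0,0,0,0,0,0,0,0,0,0,8,0,0,0,0,0,0,0,0,0],
    [0,0,0,0,0,0,0,0,0,0,0,0,0,0,0,0,0,8,0,0,0,0,0,0],
    [0,-8,0,0,0,0,0,0,0,0,0,0,0,0,0,0,0,0,0,0,0,0,0,0],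
    [0,0,0,0,0,0,0,0,0,0,0,0,0,0,0,8,0,0,0,0,0,0,0,0],
    [0,0,0,0,0,0,0,0,0,0,0,0,0,0,0,0,0,0,-8,0,0,0,0,0],
    [0,0,0,0,0,0,0,0,0,0,0,0,0,0,0,0,0,0,0,0,-8,0,0,0],
    [0,0,0,0,0,0,0,0,0,0,0,0,0,0,0,0,0,0,0,-8,0,0,0,0],
    [0,0,0,0,0,0,0,0,0,0,0,0,0,0,0,0,0,0,0,0,0,8,0,0],
    [0,0,0,0,0,-8,0,0,0,0,0,0,0,0,0,0,0,0,0,0,0,0,0,0],
    [0,0,0,0,0,0,0,0,0,0,0,0,0,0,0,0,0,0,0,0,0,0,0,8]],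
  [[0,0,0,0,0,0,-8,0,0,0,0,0,0,0,0,0,0,0,0,0,0,0,0,0],
    [0,0,0,0,0,0,0,0,0,0,0,0,8,0,0,0,0,0,0,0,0,0,0,0],
    [0,0,0,0,0,0,0,0,0,8,0,0,0,0,0,0,0,0,0,0,0,0,0,0],
    [0,8,0,0,0,0,0,0,0,0,0,0,0,0,0,0,0,0,0,0,0,0,0,0],
    [0,0,0,0,0,0,0,0,8,0,0,0,0,0,0,0,0,0,0,0,0,0,0,0],
    [0,0,0,0,0,0,0,0,0,0,0,0,0,0,0,0,0,0,0,0,0,0,-8,0],
    [0,0,0,0,0,0,0,0,0,0,0,0,0,0,0,0,8,0,0,0,0,0,0,0],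
    [0,0,0,0,0,0,0,0,0,0,0,0,0,0,8,0,0,0,0,0,0,0,0,0],
    [0,0,0,0,8,0,0,0,0,0,0,0,0,0,0,0,0,0,0,0,0,0,0,0],
    [0,0,0,8,0,0,0,0,0,0,0,0,0,0,0,0,0,0,0,0,0,0,0,0],
    [0,0,0,0,0,0,0,0,0,0,0,-8,0,0,0,0,0,0,0,0,0,0,0,0],
    [0,0,0,0,0,0,0,0,0,0,0,0,0,0,0,-8,0,0,0,0,0,0,0,0],
    [0,0,0,0,0,0,0,0,0,0,0,0,0,8,0,0,0,0,0,0,0,0,0,0],
    [0,0,8,0,0,0,0,0,0,0,0,0,0,0,0,0,0,0,0,0,0,0,0,0],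
    [0,0,0,0,0,0,0,0,0,0,0,0,0,0,0,0,0,0,0,0,0,-8,0,0],
    [0,0,0,0,0,0,0,0,0,0,0,0,0,0,0,0,0,8,0,0,0,0,0,0],
    [-8,0,0,0,0,0,0,0,0,0,0,0,0,0,0,0,0,0,0,0,0,0,0,0],
    [0,0,0,0,0,-8,0,0,0,0,0,0,0,0,0,0,0,0,0,0,0,0,0,0],
    [0,0,0,0,0,0,0,0,0,0,0,0,0,0,0,0,0,0,8,0,0,0,0,0],
    [0,0,0,0,0,0,0,0,0,0,0,0,0,0,0,0,0,0,0,0,0,0,0,8],
    [0,0,0,0,0,0,0,0,0,0,0,0,0,0,0,0,0,0,0,0,8,0,0,0],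
    [0,0,0,0,0,0,0,-8,0,0,0,0,0,0,0,0,0,0,0,0,0,0,0,0],
    [0,0,0,0,0,0,0,0,0,0,8,0,0,0,0,0,0,0,0,0,0,0,0,0],
    [0,0,0,0,0,0,0,0,0,0,0,0,0,0,0,0,0,0,0,8,0,0,0,0]],
  [[0,8,0,0,0,0,0,0,0,0,0,0,0,0,0,0,0,0,0,0,0,0,0,0],
    [0,0,0,0,0,0,0,0,-8,0,0,0,0,0,0,0,0,0,0,0,0,0,0,0],
    [0,0,0,0,0,0,0,0,0,0,0,0,0,-8,0,0,0,0,0,0,0,0,0,0],
    [0,0,0,0,0,0,0,0,0,-8,0,0,0,0,0,0,0,0,0,0,0,0,0,0],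
    [0,0,-8,0,0,0,0,0,0,0,0,0,0,0,0,0,0,0,0,0,0,0,0,0],
    [0,0,0,0,0,-8,0,0,0,0,0,0,0,0,0,0,0,0,0,0,0,0,0,0],
    [0,0,0,0,0,0,0,0,0,0,0,0,0,0,0,0,-8,0,0,0,0,0,0,0],
    [0,0,0,0,0,0,0,8,0,0,0,0,0,0,0,0,0,0,0,0,0,0,0,0],
    [0,0,0,0,0,0,0,0,0,0,0,0,-8,0,0,0,0,0,0,0,0,0,0,0],
    [0,0,0,-8,0,0,0,0,0,0,0,0,0,0,0,0,0,0,0,0,0,0,0,0],
    [0,0,0,0,0,0,0,0,0,0,0,0,0,0,0,0,0,8,0,0,0,0,0,0],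
    [0,0,0,0,0,0,0,0,0,0,0,0,0,0,0,0,0,0,0,0,0,-8,0,0],
    [8,0,0,0,0,0,0,0,0,0,0,0,0,0,0,0,0,0,0,0,0,0,0,0],
    [0,0,0,0,0,0,0,0,0,0,0,0,0,0,0,0,0,0,-8,0,0,0,0,0],
    [0,0,0,0,0,0,0,0,0,0,8,0,0,0,0,0,0,0,0,0,0,0,0,0],
    [0,0,0,0,0,0,0,0,0,0,0,0,0,0,-8,0,0,0,0,0,0,0,0,0],
    [0,0,0,0,0,0,-8,0,0,0,0,0,0,0,0,0,0,0,0,0,0,0,0,0],
    [0,0,0,0,0,0,0,0,0,0,0,0,0,0,0,-8,0,0,0,0,0,0,0,0],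
    [0,0,0,0,-8,0,0,0,0,0,0,0,0,0,0,0,0,0,0,0,0,0,0,0],
    [0,0,0,0,0,0,0,0,0,0,0,8,0,0,0,0,0,0,0,0,0,0,0,0],
    [0,0,0,0,0,0,0,0,0,0,0,0,0,0,0,0,0,0,0,0,-8,0,0,0],
    [0,0,0,0,0,0,0,0,0,0,0,0,0,0,0,0,0,0,0,0,0,0,0,8],
    [0,0,0,0,0,0,0,0,0,0,0,0,0,0,0,0,0,0,0,0,0,0,8,0],
    [0,0,0,0,0,0,0,0,0,0,0,0,0,0,0,0,0,0,0,-8,0,0,0,0]],
  [[0,0,0,0,0,0,0,0,0,0,0,0,0,0,0,0,-8,0,0,0,0,0,0,0],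
    [0,0,0,0,0,0,8,0,0,0,0,0,0,0,0,0,0,0,0,0,0,0,0,0],
    [0,0,0,0,0,0,0,0,0,0,0,0,0,0,0,0,0,0,8,0,0,0,0,0],
    [0,0,0,0,8,0,0,0,0,0,0,0,0,0,0,0,0,0,0,0,0,0,0,0],
    [0,0,0,8,0,0,0,0,0,0,0,0,0,0,0,0,0,0,0,0,0,0,0,0],
    [0,0,0,0,0,0,0,0,0,0,0,0,0,0,0,0,0,0,0,0,0,-8,0,0],
    [0,8,0,0,0,0,0,0,0,0,0,0,0,0,0,0,0,0,0,0,0,0,0,0],
    [0,0,0,0,0,0,0,8,0,0,0,0,0,0,0,0,0,0,0,0,0,0,0,0],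
    [0,0,0,0,0,0,0,0,8,0,0,0,0,0,0,0,0,0,0,0,0,0,0,0],
    [0,0,0,0,0,0,0,0,0,8,0,0,0,0,0,0,0,0,0,0,0,0,0,0],
    [0,0,0,0,0,0,0,0,0,0,0,0,0,0,0,0,0,-8,0,0,0,0,0,0],
    [0,0,0,0,0,0,0,0,0,0,0,0,0,0,-8,0,0,0,0,0,0,0,0,0],
    [0,0,0,0,0,0,0,0,0,0,0,0,8,0,0,0,0,0,0,0,0,0,0,0],
    [0,0,0,0,0,0,0,0,0,0,0,0,0,8,0,0,0,0,0,0,0,0,0,0],
    [0,0,0,0,0,0,0,0,0,0,0,-8,0,0,0,0,0,0,0,0,0,0,0,0],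
    [0,0,0,0,0,0,0,0,0,0,0,0,0,0,0,0,0,0,0,0,0,0,0,8],
    [-8,0,0,0,0,0,0,0,0,0,0,0,0,0,0,0,0,0,0,0,0,0,0,0],
    [0,0,0,0,0,0,0,0,0,0,-8,0,0,0,0,0,0,0,0,0,0,0,0,0],
    [0,0,8,0,0,0,0,0,0,0,0,0,0,0,0,0,0,0,0,0,0,0,0,0],
    [0,0,0,0,0,0,0,0,0,0,0,0,0,0,0,0,0,0,0,8,0,0,0,0],
    [0,0,0,0,0,0,0,0,0,0,0,0,0,0,0,0,0,0,0,0,8,0,0,0],
    [0,0,0,0,0,-8,0,0,0,0,0,0,0,0,0,0,0,0,0,0,0,0,0,0],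
    [0,0,0,0,0,0,0,0,0,0,0,0,0,0,0,0,0,0,0,0,0,0,8,0],
    [0,0,0,0,0,0,0,0,0,0,0,0,0,0,0,8,0,0,0,0,0,0,0,0]],
  [[0,0,0,0,0,0,0,0,8,0,0,0,0,0,0,0,0,0,0,0,0,0,0,0],
    [8,0,0,0,0,0,0,0,0,0,0,0,0,0,0,0,0,0,0,0,0,0,0,0],
    [0,0,0,0,0,0,0,0,0,0,0,0,0,-8,0,0,0,0,0,0,0,0,0,0],
    [0,0,-8,0,0,0,0,0,0,0,0,0,0,0,0,0,0,0,0,0,0,0,0,0],
    [0,0,0,-8,0,0,0,0,0,0,0,0,0,0,0,0,0,0,0,0,0,0,0,0],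
    [0,0,0,0,0,0,0,0,0,0,0,0,0,0,0,0,0,0,0,8,0,0,0,0],
    [0,-8,0,0,0,0,0,0,0,0,0,0,0,0,0,0,0,0,0,0,0,0,0,0],
    [0,0,0,0,0,0,0,0,0,0,0,0,0,0,0,0,0,0,0,0,0,0,-8,0],
    [0,0,0,0,0,0,-8,0,0,0,0,0,0,0,0,0,0,0,0,0,0,0,0,0],
    [0,0,0,0,0,0,0,0,0,-8,0,0,0,0,0,0,0,0,0,0,0,0,0,0],
    [0,0,0,0,0,0,0,0,0,0,0,0,0,0,-8,0,0,0,0,0,0,0,0,0],
    [0,0,0,0,0,0,0,0,0,0,0,0,0,0,0,0,0,-8,0,0,0,0,0,0],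
    [0,0,0,0,0,0,0,0,0,0,0,0,-8,0,0,0,0,0,0,0,0,0,0,0],
    [0,0,0,0,-8,0,0,0,0,0,0,0,0,0,0,0,0,0,0,0,0,0,0,0],
    [0,0,0,0,0,0,0,0,0,0,0,0,0,0,0,0,0,0,0,0,0,0,0,8],
    [0,0,0,0,0,0,0,0,0,0,0,0,0,0,0,0,0,0,0,0,0,8,0,0],
    [0,0,0,0,0,0,0,0,0,0,0,0,0,0,0,0,-8,0,0,0,0,0,0,0],
    [0,0,0,0,0,-8,0,0,0,0,0,0,0,0,0,0,0,0,0,0,0,0,0,0],
    [0,0,0,0,0,0,0,0,0,0,0,0,0,0,0,0,0,0,-8,0,0,0,0,0],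
    [0,0,0,0,0,0,0,0,0,0,0,8,0,0,0,0,0,0,0,0,0,0,0,0],
    [0,0,0,0,0,0,0,0,0,0,8,0,0,0,0,0,0,0,0,0,0,0,0,0],
    [0,0,0,0,0,0,0,0,0,0,0,0,0,0,0,8,0,0,0,0,0,0,0,0],
    [0,0,0,0,0,0,0,-8,0,0,0,0,0,0,0,0,0,0,0,0,0,0,0,0],
    [0,0,0,0,0,0,0,0,0,0,0,0,0,0,0,0,0,0,0,0,-8,0,0,0]],
  [[0,0,0,0,0,0,0,0,-8,0,0,0,0,0,0,0,0,0,0,0,0,0,0,0],
    [0,0,0,0,0,0,0,0,0,0,0,0,0,0,0,0,8,0,0,0,0,0,0,0],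
    [0,0,0,0,0,0,0,0,0,8,0,0,0,0,0,0,0,0,0,0,0,0,0,0],
    [0,0,0,0,0,0,0,0,0,0,0,0,0,0,0,0,0,0,8,0,0,0,0,0],
    [0,0,0,0,0,0,0,0,0,0,0,0,0,8,0,0,0,0,0,0,0,0,0,0],
    [0,0,0,0,0,0,0,0,0,0,0,0,0,0,-8,0,0,0,0,0,0,0,0,0],
    [-8,0,0,0,0,0,0,0,0,0,0,0,0,0,0,0,0,0,0,0,0,0,0,0],
    [0,0,0,0,0,0,0,-8,0,0,0,0,0,0,0,0,0,0,0,0,0,0,0,0],
    [0,0,0,0,0,0,0,0,0,0,0,0,8,0,0,0,0,0,0,0,0,0,0,0],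
    [0,0,8,0,0,0,0,0,0,0,0,0,0,0,0,0,0,0,0,0,0,0,0,0],
    [0,0,0,0,0,0,0,0,0,0,8,0,0,0,0,0,0,0,0,0,0,0,0,0],
    [0,0,0,0,0,0,0,0,0,0,0,0,0,0,0,0,0,0,0,0,-8,0,0,0],
    [0,0,0,0,0,0,8,0,0,0,0,0,0,0,0,0,0,0,0,0,0,0,0,0],
    [0,0,0,8,0,0,0,0,0,0,0,0,0,0,0,0,0,0,0,0,0,0,0,0],
    [0,0,0,0,0,0,0,0,0,0,0,0,0,0,0,0,0,0,0,0,0,0,0,8],
    [0,0,0,0,0,0,0,0,0,0,0,0,0,0,0,0,0,-8,0,0,0,0,0,0],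
    [0,8,0,0,0,0,0,0,0,0,0,0,0,0,0,0,0,0,0,0,0,0,0,0],
    [0,0,0,0,0,0,0,0,0,0,0,8,0,0,0,0,0,0,0,0,0,0,0,0],
    [0,0,0,0,8,0,0,0,0,0,0,0,0,0,0,0,0,0,0,0,0,0,0,0],
    [0,0,0,0,0,0,0,0,0,0,0,0,0,0,0,0,0,0,0,8,0,0,0,0],
    [0,0,0,0,0,0,0,0,0,0,0,0,0,0,0,8,0,0,0,0,0,0,0,0],
    [0,0,0,0,0,-8,0,0,0,0,0,0,0,0,0,0,0,0,0,0,0,0,0,0],
    [0,0,0,0,0,0,0,0,0,0,0,0,0,0,0,0,0,0,0,0,0,0,-8,0],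
    [0,0,0,0,0,0,0,0,0,0,0,0,0,0,0,0,0,0,0,0,0,8,0,0]],
  [[0,8,0,0,0,0,0,0,0,0,0,0,0,0,0,0,0,0,0,0,0,0,0,0],
    [8,0,0,0,0,0,0,0,0,0,0,0,0,0,0,0,0,0,0,0,0,0,0,0],
    [0,0,0,-8,0,0,0,0,0,0,0,0,0,0,0,0,0,0,0,0,0,0,0,0],
    [0,0,-8,0,0,0,0,0,0,0,0,0,0,0,0,0,0,0,0,0,0,0,0,0],
    [0,0,0,0,-8,0,0,0,0,0,0,0,0,0,0,0,0,0,0,0,0,0,0,0],
    [0,0,0,0,0,0,0,0,0,0,0,0,0,0,-8,0,0,0,0,0,0,0,0,0],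
    [0,0,0,0,0,0,-8,0,0,0,0,0,0,0,0,0,0,0,0,0,0,0,0,0],
    [0,0,0,0,0,0,0,8,0,0,0,0,0,0,0,0,0,0,0,0,0,0,0,0],
    [0,0,0,0,0,0,0,0,0,0,0,0,0,0,0,0,-8,0,0,0,0,0,0,0],
    [0,0,0,0,0,0,0,0,0,-8,0,0,0,0,0,0,0,0,0,0,0,0,0,0],
    [0,0,0,0,0,0,0,0,0,0,8,0,0,0,0,0,0,0,0,0,0,0,0,0],
    [0,0,0,0,0,0,0,0,0,0,0,8,0,0,0,0,0,0,0,0,0,0,0,0],
    [0,0,0,0,0,0,0,0,0,0,0,0,-8,0,0,0,0,0,0,0,0,0,0,0],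
    [0,0,0,0,0,0,0,0,0,0,0,0,0,0,0,0,0,0,-8,0,0,0,0,0],
    [0,0,0,0,0,-8,0,0,0,0,0,0,0,0,0,0,0,0,0,0,0,0,0,0],
    [0,0,0,0,0,0,0,0,0,0,0,0,0,0,0,0,0,0,0,-8,0,0,0,0],
    [0,0,0,0,0,0,0,0,-8,0,0,0,0,0,0,0,0,0,0,0,0,0,0,0],
    [0,0,0,0,0,0,0,0,0,0,0,0,0,0,0,0,0,0,0,0,0,0,0,8],
    [0,0,0,0,0,0,0,0,0,0,0,0,0,-8,0,0,0,0,0,0,0,0,0,0],
    [0,0,0,0,0,0,0,0,0,0,0,0,0,0,0,-8,0,0,0,0,0,0,0,0],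
    [0,0,0,0,0,0,0,0,0,0,0,0,0,0,0,0,0,0,0,0,0,-8,0,0],
    [0,0,0,0,0,0,0,0,0,0,0,0,0,0,0,0,0,0,0,0,-8,0,0,0],
    [0,0,0,0,0,0,0,0,0,0,0,0,0,0,0,0,0,0,0,0,0,0,8,0],
    [0,0,0,0,0,0,0,0,0,0,0,0,0,0,0,0,0,8,0,0,0,0,0,0]],
  [[0,0,0,-8,0,0,0,0,0,0,0,0,0,0,0,0,0,0,0,0,0,0,0,0],
    [0,0,0,0,0,0,0,0,0,0,0,0,8,0,0,0,0,0,0,0,0,0,0,0],
    [0,0,0,0,0,0,0,0,0,0,0,0,0,0,0,0,8,0,0,0,0,0,0,0],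
    [-8,0,0,0,0,0,0,0,0,0,0,0,0,0,0,0,0,0,0,0,0,0,0,0],
    [0,0,0,0,0,0,0,0,0,0,0,0,0,0,0,0,0,0,8,0,0,0,0,0],
    [0,0,0,0,0,8,0,0,0,0,0,0,0,0,0,0,0,0,0,0,0,0,0,0],
    [0,0,0,0,0,0,0,0,0,0,0,0,0,8,0,0,0,0,0,0,0,0,0,0],
    [0,0,0,0,0,0,0,0,0,0,8,0,0,0,0,0,0,0,0,0,0,0,0,0],
    [0,0,0,0,0,0,0,0,0,8,0,0,0,0,0,0,0,0,0,0,0,0,0,0],
    [0,8,0,0,0,0,0,0,0,0,0,0,0,0,0,0,0,0,0,0,0,0,0,0],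
    [0,0,0,0,0,0,0,0,0,0,0,0,0,0,0,0,0,0,0,0,0,8,0,0],
    [0,0,0,0,0,0,0,0,0,0,0,-8,0,0,0,0,0,0,0,0,0,0,0,0],
    [0,0,0,0,0,0,0,0,8,0,0,0,0,0,0,0,0,0,0,0,0,0,0,0],
    [0,0,0,0,0,0,8,0,0,0,0,0,0,0,0,0,0,0,0,0,0,0,0,0],
    [0,0,0,0,0,0,0,0,0,0,0,0,0,0,-8,0,0,0,0,0,0,0,0,0],
    [0,0,0,0,0,0,0,0,0,0,0,0,0,0,0,0,0,0,0,-8,0,0,0,0],
    [0,0,0,0,8,0,0,0,0,0,0,0,0,0,0,0,0,0,0,0,0,0,0,0],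
    [0,0,0,0,0,0,0,0,0,0,0,0,0,0,0,-8,0,0,0,0,0,0,0,0],
    [0,0,8,0,0,0,0,0,0,0,0,0,0,0,0,0,0,0,0,0,0,0,0,0],
    [0,0,0,0,0,0,0,0,0,0,0,0,0,0,0,0,0,0,0,0,0,0,-8,0],
    [0,0,0,0,0,0,0,0,0,0,0,0,0,0,0,0,0,0,0,0,8,0,0,0],
    [0,0,0,0,0,0,0,0,0,0,0,0,0,0,0,0,0,0,0,0,0,0,0,8],
    [0,0,0,0,0,0,0,0,0,0,0,0,0,0,0,0,0,-8,0,0,0,0,0,0],
    [0,0,0,0,0,0,0,8,0,0,0,0,0,0,0,0,0,0,0,0,0,0,0,0]],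
  [[8,0,0,0,0,0,0,0,0,0,0,0,0,0,0,0,0,0,0,0,0,0,0,0],
    [0,8,0,0,0,0,0,0,0,0,0,0,0,0,0,0,0,0,0,0,0,0,0,0],
    [0,0,0,0,0,0,0,0,0,0,0,0,0,0,0,0,8,0,0,0,0,0,0,0],
    [0,0,0,0,0,0,0,0,0,0,0,0,8,0,0,0,0,0,0,0,0,0,0,0],
    [0,0,0,0,0,0,0,0,0,0,0,0,0,8,0,0,0,0,0,0,0,0,0,0],
    [0,0,0,0,0,8,0,0,0,0,0,0,0,0,0,0,0,0,0,0,0,0,0,0],
    [0,0,0,0,0,0,8,0,0,0,0,0,0,0,0,0,0,0,0,0,0,0,0,0],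
    [0,0,0,0,0,0,0,0,0,0,0,8,0,0,0,0,0,0,0,0,0,0,0,0],
    [0,0,0,0,0,0,0,0,0,8,0,0,0,0,0,0,0,0,0,0,0,0,0,0],
    [0,0,0,0,0,0,0,0,8,0,0,0,0,0,0,0,0,0,0,0,0,0,0,0],
    [0,0,0,0,0,0,0,0,0,0,0,0,0,0,0,0,0,8,0,0,0,0,0,0],
    [0,0,0,0,0,0,0,8,0,0,0,0,0,0,0,0,0,0,0,0,0,0,0,0],
    [0,0,0,8,0,0,0,0,0,0,0,0,0,0,0,0,0,0,0,0,0,0,0,0],
    [0,0,0,0,8,0,0,0,0,0,0,0,0,0,0,0,0,0,0,0,0,0,0,0],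
    [0,0,0,0,0,0,0,0,0,0,0,0,0,0,0,0,0,0,0,8,0,0,0,0],
    [0,0,0,0,0,0,0,0,0,0,0,0,0,0,0,0,0,0,0,0,0,8,0,0],
    [0,0,8,0,0,0,0,0,0,0,0,0,0,0,0,0,0,0,0,0,0,0,0,0],
    [0,0,0,0,0,0,0,0,0,0,8,0,0,0,0,0,0,0,0,0,0,0,0,0],
    [0,0,0,0,0,0,0,0,0,0,0,0,0,0,0,0,0,0,8,0,0,0,0,0],
    [0,0,0,0,0,0,0,0,0,0,0,0,0,0,8,0,0,0,0,0,0,0,0,0],
    [0,0,0,0,0,0,0,0,0,0,0,0,0,0,0,0,0,0,0,0,8,0,0,0],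
    [0,0,0,0,0,0,0,0,0,0,0,0,0,0,0,8,0,0,0,0,0,0,0,0],
    [0,0,0,0,0,0,0,0,0,0,0,0,0,0,0,0,0,0,0,0,0,0,8,0],
    [0,0,0,0,0,0,0,0,0,0,0,0,0,0,0,0,0,0,0,0,0,0,0,8]],
  [[0,0,0,0,0,0,0,0,0,-8,0,0,0,0,0,0,0,0,0,0,0,0,0,0],
    [0,8,0,0,0,0,0,0,0,0,0,0,0,0,0,0,0,0,0,0,0,0,0,0],
    [0,0,0,0,0,0,8,0,0,0,0,0,0,0,0,0,0,0,0,0,0,0,0,0],
    [0,0,0,8,0,0,0,0,0,0,0,0,0,0,0,0,0,0,0,0,0,0,0,0],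
    [0,0,0,0,0,0,0,0,0,0,0,0,0,0,0,0,8,0,0,0,0,0,0,0],
    [0,0,0,0,0,0,0,0,0,0,0,0,0,0,0,0,0,0,0,0,-8,0,0,0],
    [0,0,8,0,0,0,0,0,0,0,0,0,0,0,0,0,0,0,0,0,0,0,0,0],
    [0,0,0,0,0,0,0,0,0,0,0,0,0,0,0,8,0,0,0,0,0,0,0,0],
    [0,0,0,0,0,0,0,0,8,0,0,0,0,0,0,0,0,0,0,0,0,0,0,0],
    [-8,0,0,0,0,0,0,0,0,0,0,0,0,0,0,0,0,0,0,0,0,0,0,0],
    [0,0,0,0,0,0,0,0,0,0,-8,0,0,0,0,0,0,0,0,0,0,0,0,0],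
    [0,0,0,0,0,0,0,0,0,0,0,-8,0,0,0,0,0,0,0,0,0,0,0,0],
    [0,0,0,0,0,0,0,0,0,0,0,0,8,0,0,0,0,0,0,0,0,0,0,0],
    [0,0,0,0,0,0,0,0,0,0,0,0,0,0,0,0,0,0,8,0,0,0,0,0],
    [0,0,0,0,0,0,0,0,0,0,0,0,0,0,0,0,0,0,0,0,0,0,0,8],
    [0,0,0,0,0,0,0,8,0,0,0,0,0,0,0,0,0,0,0,0,0,0,0,0],
    [0,0,0,0,8,0,0,0,0,0,0,0,0,0,0,0,0,0,0,0,0,0,0,0],
    [0,0,0,0,0,0,0,0,0,0,0,0,0,0,0,0,0,0,0,0,0,8,0,0],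
    [0,0,0,0,0,0,0,0,0,0,0,0,0,8,0,0,0,0,0,0,0,0,0,0],
    [0,0,0,0,0,0,0,0,0,0,0,0,0,0,0,0,0,0,0,-8,0,0,0,0],
    [0,0,0,0,0,-8,0,0,0,0,0,0,0,0,0,0,0,0,0,0,0,0,0,0],
    [0,0,0,0,0,0,0,0,0,0,0,0,0,0,0,0,0,8,0,0,0,0,0,0],
    [0,0,0,0,0,0,0,0,0,0,0,0,0,0,0,0,0,0,0,0,0,0,-8,0],
    [0,0,0,0,0,0,0,0,0,0,0,0,0,0,8,0,0,0,0,0,0,0,0,0]],
  [[8,0,0,0,0,0,0,0,0,0,0,0,0,0,0,0,0,0,0,0,0,0,0,0],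
    [0,0,0,0,0,0,0,0,0,8,0,0,0,0,0,0,0,0,0,0,0,0,0,0],
    [0,0,0,0,0,0,0,0,0,0,0,0,0,0,0,0,0,0,8,0,0,0,0,0],
    [0,0,0,0,0,0,0,0,8,0,0,0,0,0,0,0,0,0,0,0,0,0,0,0],
    [0,0,0,0,8,0,0,0,0,0,0,0,0,0,0,0,0,0,0,0,0,0,0,0],
    [0,0,0,0,0,8,0,0,0,0,0,0,0,0,0,0,0,0,0,0,0,0,0,0],
    [0,0,0,0,0,0,8,0,0,0,0,0,0,0,0,0,0,0,0,0,0,0,0,0],
    [0,0,0,0,0,0,0,8,0,0,0,0,0,0,0,0,0,0,0,0,0,0,0,0],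
    [0,0,0,8,0,0,0,0,0,0,0,0,0,0,0,0,0,0,0,0,0,0,0,0],
    [0,8,0,0,0,0,0,0,0,0,0,0,0,0,0,0,0,0,0,0,0,0,0,0],
    [0,0,0,0,0,0,0,0,0,0,0,0,0,0,8,0,0,0,0,0,0,0,0,0],
    [0,0,0,0,0,0,0,0,0,0,0,0,0,0,0,8,0,0,0,0,0,0,0,0],
    [0,0,0,0,0,0,0,0,0,0,0,0,8,0,0,0,0,0,0,0,0,0,0,0],
    [0,0,0,0,0,0,0,0,0,0,0,0,0,0,0,0,8,0,0,0,0,0,0,0],
    [0,0,0,0,0,0,0,0,0,0,8,0,0,0,0,0,0,0,0,0,0,0,0,0],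
    [0,0,0,0,0,0,0,0,0,0,0,8,0,0,0,0,0,0,0,0,0,0,0,0],
    [0,0,0,0,0,0,0,0,0,0,0,0,0,8,0,0,0,0,0,0,0,0,0,0],
    [0,0,0,0,0,0,0,0,0,0,0,0,0,0,0,0,0,0,0,0,0,0,0,8],
    [0,0,8,0,0,0,0,0,0,0,0,0,0,0,0,0,0,0,0,0,0,0,0,0],
    [0,0,0,0,0,0,0,0,0,0,0,0,0,0,0,0,0,0,0,8,0,0,0,0],
    [0,0,0,0,0,0,0,0,0,0,0,0,0,0,0,0,0,0,0,0,8,0,0,0],
    [0,0,0,0,0,0,0,0,0,0,0,0,0,0,0,0,0,0,0,0,0,0,8,0],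
    [0,0,0,0,0,0,0,0,0,0,0,0,0,0,0,0,0,0,0,0,0,8,0,0],
    [0,0,0,0,0,0,0,0,0,0,0,0,0,0,0,0,0,8,0,0,0,0,0,0]],
  [[-8,0,0,0,0,0,0,0,0,0,0,0,0,0,0,0,0,0,0,0,0,0,0,0],
    [0,-8,0,0,0,0,0,0,0,0,0,0,0,0,0,0,0,0,0,0,0,0,0,0],
    [0,0,0,0,-8,0,0,0,0,0,0,0,0,0,0,0,0,0,0,0,0,0,0,0],
    [0,0,0,0,0,0,0,0,0,0,0,0,0,0,0,0,-8,0,0,0,0,0,0,0],
    [0,0,-8,0,0,0,0,0,0,0,0,0,0,0,0,0,0,0,0,0,0,0,0,0],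
    [0,0,0,0,0,0,0,0,0,0,0,0,0,0,0,0,0,0,0,8,0,0,0,0],
    [0,0,0,0,0,0,0,0,-8,0,0,0,0,0,0,0,0,0,0,0,0,0,0,0],
    [0,0,0,0,0,0,0,0,0,0,0,0,0,0,0,0,0,0,0,0,0,0,0,8],
    [0,0,0,0,0,0,-8,0,0,0,0,0,0,0,0,0,0,0,0,0,0,0,0,0],
    [0,0,0,0,0,0,0,0,0,-8,0,0,0,0,0,0,0,0,0,0,0,0,0,0],
    [0,0,0,0,0,0,0,0,0,0,0,0,0,0,0,0,0,0,0,0,0,0,8,0],
    [0,0,0,0,0,0,0,0,0,0,0,8,0,0,0,0,0,0,0,0,0,0,0,0],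
    [0,0,0,0,0,0,0,0,0,0,0,0,0,-8,0,0,0,0,0,0,0,0,0,0],
    [0,0,0,0,0,0,0,0,0,0,0,0,-8,0,0,0,0,0,0,0,0,0,0,0],
    [0,0,0,0,0,0,0,0,0,0,0,0,0,0,8,0,0,0,0,0,0,0,0,0],
    [0,0,0,0,0,0,0,0,0,0,0,0,0,0,0,0,0,0,0,0,0,8,0,0],
    [0,0,0,-8,0,0,0,0,0,0,0,0,0,0,0,0,0,0,0,0,0,0,0,0],
    [0,0,0,0,0,0,0,0,0,0,0,0,0,0,0,0,0,8,0,0,0,0,0,0],
    [0,0,0,0,0,0,0,0,0,0,0,0,0,0,0,0,0,0,-8,0,0,0,0,0],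
    [0,0,0,0,0,8,0,0,0,0,0,0,0,0,0,0,0,0,0,0,0,0,0,0],
    [0,0,0,0,0,0,0,0,0,0,0,0,0,0,0,0,0,0,0,0,8,0,0,0],
    [0,0,0,0,0,0,0,0,0,0,0,0,0,0,0,8,0,0,0,0,0,0,0,0],
    [0,0,0,0,0,0,0,0,0,0,8,0,0,0,0,0,0,0,0,0,0,0,0,0],
    [0,0,0,0,0,0,0,8,0,0,0,0,0,0,0,0,0,0,0,0,0,0,0,0]],
  [[0,0,-8,0,0,0,0,0,0,0,0,0,0,0,0,0,0,0,0,0,0,0,0,0],
    [0,0,0,0,0,0,0,0,0,0,0,0,0,8,0,0,0,0,0,0,0,0,0,0],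
    [-8,0,0,0,0,0,0,0,0,0,0,0,0,0,0,0,0,0,0,0,0,0,0,0],
    [0,0,0,0,8,0,0,0,0,0,0,0,0,0,0,0,0,0,0,0,0,0,0,0],
    [0,0,0,0,0,0,0,0,0,0,0,0,0,0,0,0,0,0,8,0,0,0,0,0],
    [0,0,0,0,0,0,0,-8,0,0,0,0,0,0,0,0,0,0,0,0,0,0,0,0],
    [0,0,0,0,0,0,0,0,0,8,0,0,0,0,0,0,0,0,0,0,0,0,0,0],
    [0,0,0,0,0,0,0,0,0,0,0,0,0,0,0,-8,0,0,0,0,0,0,0,0],
    [0,0,0,0,0,0,8,0,0,0,0,0,0,0,0,0,0,0,0,0,0,0,0,0],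
    [0,0,0,0,0,0,0,0,0,0,0,0,8,0,0,0,0,0,0,0,0,0,0,0],
    [0,0,0,0,0,0,0,0,0,0,-8,0,0,0,0,0,0,0,0,0,0,0,0,0],
    [0,0,0,0,0,0,0,0,0,0,0,8,0,0,0,0,0,0,0,0,0,0,0,0],
    [0,0,0,0,0,0,0,0,8,0,0,0,0,0,0,0,0,0,0,0,0,0,0,0],
    [0,8,0,0,0,0,0,0,0,0,0,0,0,0,0,0,0,0,0,0,0,0,0,0],
    [0,0,0,0,0,0,0,0,0,0,0,0,0,0,8,0,0,0,0,0,0,0,0,0],
    [0,0,0,0,0,0,0,0,0,0,0,0,0,0,0,0,0,-8,0,0,0,0,0,0],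
    [0,0,0,8,0,0,0,0,0,0,0,0,0,0,0,0,0,0,0,0,0,0,0,0],
    [0,0,0,0,0,-8,0,0,0,0,0,0,0,0,0,0,0,0,0,0,0,0,0,0],
    [0,0,0,0,0,0,0,0,0,0,0,0,0,0,0,0,8,0,0,0,0,0,0,0],
    [0,0,0,0,0,0,0,0,0,0,0,0,0,0,0,0,0,0,0,-8,0,0,0,0],
    [0,0,0,0,0,0,0,0,0,0,0,0,0,0,0,0,0,0,0,0,0,0,0,8],
    [0,0,0,0,0,0,0,0,0,0,0,0,0,0,0,0,0,0,0,0,0,0,8,0],
    [0,0,0,0,0,0,0,0,0,0,0,0,0,0,0,0,0,0,0,0,8,0,0,0],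
    [0,0,0,0,0,0,0,0,0,0,0,0,0,0,0,0,0,0,0,0,0,8,0,0]],
  [[0,0,0,0,-8,0,0,0,0,0,0,0,0,0,0,0,0,0,0,0,0,0,0,0],
    [0,0,0,0,0,0,0,0,0,0,0,0,8,0,0,0,0,0,0,0,0,0,0,0],
    [0,0,0,8,0,0,0,0,0,0,0,0,0,0,0,0,0,0,0,0,0,0,0,0],
    [0,0,8,0,0,0,0,0,0,0,0,0,0,0,0,0,0,0,0,0,0,0,0,0],
    [-8,0,0,0,0,0,0,0,0,0,0,0,0,0,0,0,0,0,0,0,0,0,0,0],
    [0,0,0,0,0,0,0,0,0,0,0,0,0,0,0,0,0,0,0,0,0,0,8,0],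
    [0,0,0,0,0,0,8,0,0,0,0,0,0,0,0,0,0,0,0,0,0,0,0,0],
    [0,0,0,0,0,0,0,0,0,0,-8,0,0,0,0,0,0,0,0,0,0,0,0,0],
    [0,0,0,0,0,0,0,0,8,0,0,0,0,0,0,0,0,0,0,0,0,0,0,0],
    [0,0,0,0,0,0,0,0,0,8,0,0,0,0,0,0,0,0,0,0,0,0,0,0],
    [0,0,0,0,0,0,0,-8,0,0,0,0,0,0,0,0,0,0,0,0,0,0,0,0],
    [0,0,0,0,0,0,0,0,0,0,0,0,0,0,-8,0,0,0,0,0,0,0,0,0],
    [0,8,0,0,0,0,0,0,0,0,0,0,0,0,0,0,0,0,0,0,0,0,0,0],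
    [0,0,0,0,0,0,0,0,0,0,0,0,0,8,0,0,0,0,0,0,0,0,0,0],
    [0,0,0,0,0,0,0,0,0,0,0,-8,0,0,0,0,0,0,0,0,0,0,0,0],
    [0,0,0,0,0,0,0,0,0,0,0,0,0,0,0,0,0,0,0,0,-8,0,0,0],
    [0,0,0,0,0,0,0,0,0,0,0,0,0,0,0,0,0,0,8,0,0,0,0,0],
    [0,0,0,0,0,0,0,0,0,0,0,0,0,0,0,0,0,8,0,0,0,0,0,0],
    [0,0,0,0,0,0,0,0,0,0,0,0,0,0,0,0,8,0,0,0,0,0,0,0],
    [0,0,0,0,0,0,0,0,0,0,0,0,0,0,0,0,0,0,0,8,0,0,0,0],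
    [0,0,0,0,0,0,0,0,0,0,0,0,0,0,0,-8,0,0,0,0,0,0,0,0],
    [0,0,0,0,0,0,0,0,0,0,0,0,0,0,0,0,0,0,0,0,0,8,0,0],
    [0,0,0,0,0,8,0,0,0,0,0,0,0,0,0,0,0,0,0,0,0,0,0,0],
    [0,0,0,0,0,0,0,0,0,0,0,0,0,0,0,0,0,0,0,0,0,0,0,8]],
  [[0,0,0,0,0,0,8,0,0,0,0,0,0,0,0,0,0,0,0,0,0,0,0,0],
    [0,0,0,0,0,0,0,0,0,0,0,0,0,0,0,0,0,0,-8,0,0,0,0,0],
    [0,0,0,0,0,0,0,0,0,0,0,0,-8,0,0,0,0,0,0,0,0,0,0,0],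
    [0,0,0,0,0,0,0,0,0,0,0,0,0,-8,0,0,0,0,0,0,0,0,0,0],
    [0,0,0,-8,0,0,0,0,0,0,0,0,0,0,0,0,0,0,0,0,0,0,0,0],
    [0,0,0,0,0,0,0,0,0,0,0,0,0,0,8,0,0,0,0,0,0,0,0,0],
    [0,0,0,0,0,0,0,0,-8,0,0,0,0,0,0,0,0,0,0,0,0,0,0,0],
    [0,0,0,0,0,0,0,0,0,0,0,-8,0,0,0,0,0,0,0,0,0,0,0,0],
    [0,0,0,0,0,0,0,0,0,-8,0,0,0,0,0,0,0,0,0,0,0,0,0,0],
    [8,0,0,0,0,0,0,0,0,0,0,0,0,0,0,0,0,0,0,0,0,0,0,0],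
    [0,0,0,0,0,0,0,0,0,0,8,0,0,0,0,0,0,0,0,0,0,0,0,0],
    [0,0,0,0,0,0,0,0,0,0,0,0,0,0,0,0,0,0,0,0,8,0,0,0],
    [0,0,-8,0,0,0,0,0,0,0,0,0,0,0,0,0,0,0,0,0,0,0,0,0],
    [0,0,0,0,0,0,0,0,0,0,0,0,0,0,0,0,-8,0,0,0,0,0,0,0],
    [0,0,0,0,0,0,0,0,0,0,0,0,0,0,0,0,0,0,0,0,0,0,-8,0],
    [0,0,0,0,0,0,0,0,0,0,0,0,0,0,0,-8,0,0,0,0,0,0,0,0],
    [0,0,0,0,-8,0,0,0,0,0,0,0,0,0,0,0,0,0,0,0,0,0,0,0],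
    [0,0,0,0,0,-8,0,0,0,0,0,0,0,0,0,0,0,0,0,0,0,0,0,0],
    [0,-8,0,0,0,0,0,0,0,0,0,0,0,0,0,0,0,0,0,0,0,0,0,0],
    [0,0,0,0,0,0,0,0,0,0,0,0,0,0,0,0,0,0,0,8,0,0,0,0],
    [0,0,0,0,0,0,0,0,0,0,0,0,0,0,0,0,0,0,0,0,0,0,0,8],
    [0,0,0,0,0,0,0,0,0,0,0,0,0,0,0,0,0,0,0,0,0,-8,0,0],
    [0,0,0,0,0,0,0,0,0,0,0,0,0,0,0,0,0,8,0,0,0,0,0,0],
    [0,0,0,0,0,0,0,-8,0,0,0,0,0,0,0,0,0,0,0,0,0,0,0,0]],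
  [[8,0,0,0,0,0,0,0,0,0,0,0,0,0,0,0,0,0,0,0,0,0,0,0],
    [0,0,0,0,0,0,8,0,0,0,0,0,0,0,0,0,0,0,0,0,0,0,0,0],
    [0,0,0,0,0,0,0,0,0,0,0,0,0,8,0,0,0,0,0,0,0,0,0,0],
    [0,0,0,0,0,0,0,0,0,0,0,0,0,0,0,0,8,0,0,0,0,0,0,0],
    [0,0,0,0,8,0,0,0,0,0,0,0,0,0,0,0,0,0,0,0,0,0,0,0],
    [0,0,0,0,0,8,0,0,0,0,0,0,0,0,0,0,0,0,0,0,0,0,0,0],
    [0,8,0,0,0,0,0,0,0,0,0,0,0,0,0,0,0,0,0,0,0,0,0,0],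
    [0,0,0,0,0,0,0,0,0,0,0,0,0,0,8,0,0,0,0,0,0,0,0,0],
    [0,0,0,0,0,0,0,0,0,0,0,0,0,0,0,0,0,0,8,0,0,0,0,0],
    [0,0,0,0,0,0,0,0,0,8,0,0,0,0,0,0,0,0,0,0,0,0,0,0],
    [0,0,0,0,0,0,0,0,0,0,8,0,0,0,0,0,0,0,0,0,0,0,0,0],
    [0,0,0,0,0,0,0,0,0,0,0,0,0,0,0,0,0,0,0,0,8,0,0,0],
    [0,0,0,0,0,0,0,0,0,0,0,0,8,0,0,0,0,0,0,0,0,0,0,0],
    [0,0,8,0,0,0,0,0,0,0,0,0,0,0,0,0,0,0,0,0,0,0,0,0],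
    [0,0,0,0,0,0,0,8,0,0,0,0,0,0,0,0,0,0,0,0,0,0,0,0],
    [0,0,0,0,0,0,0,0,0,0,0,0,0,0,0,8,0,0,0,0,0,0,0,0],
    [0,0,0,8,0,0,0,0,0,0,0,0,0,0,0,0,0,0,0,0,0,0,0,0],
    [0,0,0,0,0,0,0,0,0,0,0,0,0,0,0,0,0,0,0,0,0,0,0,8],
    [0,0,0,0,0,0,0,0,8,0,0,0,0,0,0,0,0,0,0,0,0,0,0,0],
    [0,0,0,0,0,0,0,0,0,0,0,0,0,0,0,0,0,0,0,0,0,0,8,0],
    [0,0,0,0,0,0,0,0,0,0,0,8,0,0,0,0,0,0,0,0,0,0,0,0],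
    [0,0,0,0,0,0,0,0,0,0,0,0,0,0,0,0,0,0,0,0,0,8,0,0],
    [0,0,0,0,0,0,0,0,0,0,0,0,0,0,0,0,0,0,0,8,0,0,0,0],
    [0,0,0,0,0,0,0,0,0,0,0,0,0,0,0,0,0,8,0,0,0,0,0,0]],
  [[0,0,0,0,0,0,0,0,0,-8,0,0,0,0,0,0,0,0,0,0,0,0,0,0],
    [0,0,0,0,8,0,0,0,0,0,0,0,0,0,0,0,0,0,0,0,0,0,0,0],
    [0,0,0,0,0,0,0,0,8,0,0,0,0,0,0,0,0,0,0,0,0,0,0,0],
    [0,0,0,0,0,0,0,0,0,0,0,0,0,0,0,0,8,0,0,0,0,0,0,0],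
    [0,8,0,0,0,0,0,0,0,0,0,0,0,0,0,0,0,0,0,0,0,0,0,0],
    [0,0,0,0,0,0,0,8,0,0,0,0,0,0,0,0,0,0,0,0,0,0,0,0],
    [0,0,0,0,0,0,0,0,0,0,0,0,8,0,0,0,0,0,0,0,0,0,0,0],
    [0,0,0,0,0,0,0,0,0,0,0,-8,0,0,0,0,0,0,0,0,0,0,0,0],
    [0,0,8,0,0,0,0,0,0,0,0,0,0,0,0,0,0,0,0,0,0,0,0,0],
    [0,0,0,0,0,0,8,0,0,0,0,0,0,0,0,0,0,0,0,0,0,0,0,0],
    [0,0,0,0,0,0,0,0,0,0,-8,0,0,0,0,0,0,0,0,0,0,0,0,0],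
    [0,0,0,0,0,0,0,0,0,0,0,0,0,0,0,0,0,0,0,0,0,8,0,0],
    [-8,0,0,0,0,0,0,0,0,0,0,0,0,0,0,0,0,0,0,0,0,0,0,0],
    [0,0,0,0,0,0,0,0,0,0,0,0,0,0,0,0,0,0,8,0,0,0,0,0],
    [0,0,0,0,0,0,0,0,0,0,0,0,0,0,0,0,0,0,0,0,0,0,-8,0],
    [0,0,0,0,0,0,0,0,0,0,0,0,0,0,8,0,0,0,0,0,0,0,0,0],
    [0,0,0,0,0,0,0,0,0,0,0,0,0,8,0,0,0,0,0,0,0,0,0,0],
    [0,0,0,0,0,0,0,0,0,0,0,0,0,0,0,0,0,8,0,0,0,0,0,0],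
    [0,0,0,8,0,0,0,0,0,0,0,0,0,0,0,0,0,0,0,0,0,0,0,0],
    [0,0,0,0,0,0,0,0,0,0,0,0,0,0,0,0,0,0,0,-8,0,0,0,0],
    [0,0,0,0,0,0,0,0,0,0,0,0,0,0,0,8,0,0,0,0,0,0,0,0],
    [0,0,0,0,0,-8,0,0,0,0,0,0,0,0,0,0,0,0,0,0,0,0,0,0],
    [0,0,0,0,0,0,0,0,0,0,0,0,0,0,0,0,0,0,0,0,-8,0,0,0],
    [0,0,0,0,0,0,0,0,0,0,0,0,0,0,0,0,0,0,0,0,0,0,0,8]]]

/-- Vectors fixed by all generators but one. -/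
def threeVecs : List (List ℤ) := [[0,0,0,0,0,-162,0,162,0,0,-162,-162,0,0,162,162,0,162,0,-162,-162,162,-162,162],
  [81,-81,-81,-81,-81,-81,405,-81,-81,-81,81,-81,-81,-81,81,-81,-81,81,-81,81,81,-81,-81,81],
  [0,0,0,0,0,-162,0,-162,0,0,-162,-162,0,0,-162,-162,0,-162,0,-162,-162,-162,-162,-162],
  [81,-81,-81,-81,-81,-81,-81,81,-81,-81,81,-81,405,-81,81,-81,-81,-81,-81,81,-81,81,81,-81],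
  [-27,-135,27,27,27,-81,27,81,27,27,81,81,27,27,-81,-81,27,81,27,-81,-81,-81,81,81],
  [81,-81,-81,-81,-81,-81,-81,-81,405,-81,81,81,-81,-81,-81,81,-81,-81,-81,81,-81,81,-81,81]]

/-- Relations between the tables. -/
def threeEqs : List (List ℕ × List ℕ) := [([6, 6], []), ([0, 0, 0], []), ([1, 1, 1], []), ([2, 2, 2], []), ([3, 3, 3], []), ([4, 4, 4], []), ([5, 5, 5], []), ([0, 1], [1, 0]), ([0, 2], [2, 0]), ([0, 3], [3, 0]), ([0, 4], [4, 0]), ([0, 5], [5, 0]), ([1, 2], [2, 1]), ([1, 3], [3, 1]), ([1, 4], [4, 1]), ([1, 5], [5, 1]), ([2, 3], [3, 2]), ([2, 4], [4, 2]), ([2, 5], [5, 2]), ([3, 4], [4, 3]), ([3, 5], [5, 3]), ([4, 5], [5, 4]), ([6, 0], [0, 0, 6]), ([6, 1], [1, 1, 6]), ([6, 2],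 [2, 2, 6]), ([6, 3], [3, 3, 6]), ([6, 4], [4, 4, 6]), ([6, 5], [5, 5, 6]), ([6, 7], [7, 6]), ([6, 8], [8, 6]), ([7, 0], [0, 1, 1, 2, 4, 4, 5, 7]), ([7, 1], [0, 0, 1, 1, 3, 3, 5, 5, 7]), ([7, 2], [0, 0, 4, 5, 7]), ([7, 3], [0, 1, 4, 7]), ([7, 4], [1, 4, 4, 5, 5, 7]), ([7, 5], [0, 0, 1, 4, 4, 5, 7]), ([8, 0], [1, 1, 3, 3, 8]), ([8, 1], [4, 8]), ([8, 2], [0, 1, 4, 4, 8]), ([8, 3], [1, 2, 2, 4, 8]), ([8, 4], [1, 1, 4, 4, 8]), ([8, 5], [1, 1, 4, 5, 8]), ([7, 7, 7], []), ([8, 8, 8], []), ([9, 8, 7], [7, 8]), ([9, 7], [7, 9]), ([9, 8], [8, 9]), ([9, 9, 9], []), ([10, 9], [9, 10]), ([10, 7], [7, 7, 10]), ([11, 9], [9, 11]), ([11, 8], [8, 8, 11]), ([12, 0], [0, 0, 12]), ([12, 1], [1, 12]), ([13,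 0], [0, 13]), ([13, 2], [2, 2, 13]), ([14, 0], [0, 0, 14]), ([14, 3], [3, 14]), ([15, 0], [0, 0, 15]), ([15, 4], [4, 15]), ([16, 0], [0, 0, 16]), ([16, 5], [5, 16]), ([17, 1], [1, 17]), ([17, 2], [2, 2, 17]), ([18, 1], [1, 18]), ([18, 3], [3, 3, 18]), ([19, 1], [1, 19]), ([19, 4], [4, 4, 19]), ([20, 1], [1, 20]), ([20, 5], [5, 5, 20]), ([21, 2], [2, 2, 21]), ([21, 3], [3, 21]), ([22, 2], [2, 22]), ([22, 4], [4, 4, 22]), ([23, 2], [2, 2, 23]), ([23, 5], [5, 23]), ([24, 3], [3, 24]), ([24, 4], [4, 4, 24]), ([25, 3], [3, 25]), ([25, 5], [5, 5, 25]), ([26, 4], [4, 4, 26]), ([26, 5], [5, 26])]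

/-- The action of the two outer generators. -/
def threeConj : List (List (List ℕ)) := [[[0, 1, 1, 2, 4, 4, 5], [0, 0, 1, 1, 3, 3, 5, 5], [0, 0, 4, 5], [0, 1, 4], [1, 4, 4, 5, 5], [0, 0, 1, 4, 4, 5]], [[1, 1, 3, 3], [4], [0, 1, 4, 4], [1, 2, 2, 4], [1, 1, 4, 4], [1, 1, 4, 5]]]

/-- Pairs and the exponents by which a witness acts on them. -/
def threeScal : List (ℕ × ℕ × ℕ × ℕ) := [(0, 1, 2, 1), (0, 2, 1, 2), (0, 3, 2, 1), (0, 4, 2, 1), (0, 5, 2, 1), (1, 2, 1, 2), (1, 3, 1, 2), (1, 4, 1, 2), (1, 5, 1, 2), (2, 3, 2, 1), (2, 4, 1, 2), (2, 5, 2, 1), (3, 4, 1, 2), (3, 5, 1, 2), (4, 5, 2, 1)]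

/-- Tables. -/
def fiveTabs : List (List (List ℤ)) := [
  [[-2,-2,-2,2,-2,0,-2,0,-2,-2,0,0,-2,-2,0,4,-2,0,-2,0,0,0,0,0],
    [-2,2,-2,-2,-2,0,-2,4,2,-2,0,0,2,2,0,0,-2,0,2,0,0,0,0,0],
    [-2,-2,2,-2,-2,0,2,0,2,2,0,0,-2,2,0,0,-2,0,-2,0,4,0,0,0],
    [-2,2,2,-2,2,0,2,0,-2,-2,0,0,-2,-2,0,0,-2,0,2,0,0,0,0,4],
    [-2,-2,2,-2,2,0,-2,0,-2,-2,0,0,2,2,0,0,2,0,-2,0,0,4,0,0],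
    [0,0,0,0,-4,2,0,-2,0,0,-2,2,0,0,2,-2,0,-2,0,-2,-2,2,-2,2],
    [-2,2,-2,-2,-2,0,2,0,-2,2,4,0,2,-2,0,0,2,0,-2,0,0,0,0,0],
    [0,0,0,0,0,2,0,2,0,0,-2,-2,0,0,-2,-2,0,2,-4,-2,-2,-2,2,2],
    [2,2,2,-2,-2,0,-2,0,2,-2,0,0,-2,-2,0,0,2,0,-2,4,0,0,0,0],
    [2,-2,2,-2,-2,0,-2,0,-2,2,0,0,2,-2,0,0,-2,4,2,0,0,0,0,0],
    [0,-4,0,0,0,-2,0,2,0,0,2,-2,0,0,2,-2,0,-2,0,2,-2,-2,-2,2],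
    [0,0,0,0,0,2,0,2,-4,0,-2,2,0,0,-2,-2,0,-2,0,2,2,-2,-2,-2],
    [2,-2,-2,-2,2,0,2,0,2,-2,0,4,2,-2,0,0,-2,0,-2,0,0,0,0,0],
    [2,2,-2,-2,2,0,-2,0,-2,2,0,0,-2,2,4,0,-2,0,-2,0,0,0,0,0],
    [0,0,0,0,0,2,0,-2,0,-4,2,-2,0,0,2,-2,0,2,0,-2,2,-2,-2,-2],
    [-4,0,0,0,0,-2,0,-2,0,0,-2,2,0,0,2,-2,0,2,0,2,-2,-2,2,-2],
    [2,-2,-2,-2,-2,0,2,0,-2,-2,0,0,-2,2,0,0,2,0,2,0,0,0,4,0],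
    [0,0,0,0,0,-2,0,2,0,0,2,2,-4,0,-2,-2,0,2,0,-2,-2,2,-2,-2],
    [-2,-2,-2,-2,2,4,-2,0,2,2,0,0,-2,-2,0,0,2,0,2,0,0,0,0,0],
    [0,0,0,0,0,2,0,-2,0,0,2,-2,0,0,-2,-2,-4,-2,0,2,-2,2,2,-2],
    [0,0,0,0,0,-2,-4,-2,0,0,2,2,0,0,-2,-2,0,-2,0,-2,2,-2,2,2],
    [0,0,-4,0,0,-2,0,-2,0,0,-2,-2,0,0,-2,-2,0,2,0,2,2,2,-2,2],
    [0,0,0,0,0,-2,0,2,0,0,-2,-2,0,-4,2,-2,0,-2,0,-2,2,2,2,-2],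
    [0,0,0,-4,0,-2,0,-2,0,0,-2,-2,0,0,-2,2,0,-2,0,-2,-2,-2,-2,-2]],
  [[1,-1,-1,5,-1,1,-1,1,-1,-1,1,-1,-1,-1,-1,3,-1,-1,-1,-1,1,1,-1,-3],
    [-1,1,1,-1,-3,3,1,-1,1,1,-1,-3,1,1,-3,1,1,1,1,1,-1,3,1,-1],
    [-1,-3,1,-1,1,-1,1,3,1,1,3,1,1,1,-3,1,1,1,1,-3,-1,-1,1,-1],
    [1,3,3,1,3,1,3,1,-1,-1,1,-1,-1,-1,-1,-1,-1,-1,3,-1,1,1,-1,1],
    [-1,1,1,-1,1,-1,-3,-1,1,1,3,-3,1,1,1,1,1,1,1,1,3,-1,-3,-1],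
    [1,-1,-1,1,-1,1,-1,1,-1,-1,1,3,3,-1,-1,-1,3,-1,3,3,1,1,-1,1],
    [-1,1,1,-1,1,3,1,3,1,1,-1,1,1,1,1,1,1,-3,-3,1,-1,-1,-3,-1],
    [1,3,-1,1,-1,1,-1,1,3,3,1,3,-1,-1,-1,-1,-1,3,-1,-1,1,1,-1,1],
    [3,1,-3,-1,1,-1,1,3,1,1,-1,-3,1,-3,1,1,1,1,1,1,-1,-1,1,-1],
    [3,1,1,-1,1,-1,1,-1,-3,1,-1,1,1,1,-3,1,1,1,-3,1,3,-1,1,-1],
    [1,-1,-1,1,-1,1,3,1,-1,-1,1,-1,3,3,3,-1,-1,3,-1,-1,1,1,-1,1],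
    [-1,-3,1,-1,1,3,1,-1,1,1,-1,1,1,-3,1,1,-3,1,1,1,3,-1,1,-1],
    [3,1,1,-1,-3,-1,1,-1,1,1,3,1,1,1,1,1,-3,-3,1,1,-1,-1,1,-1],
    [3,-3,1,-1,1,-1,1,-1,1,1,-1,1,-3,1,1,1,1,1,1,1,-1,3,-3,-1],
    [-1,1,-3,-1,1,3,1,-1,-3,1,3,1,-3,1,1,1,1,1,1,1,-1,-1,1,-1],
    [-1,1,1,3,1,-1,1,-1,1,1,-1,1,1,1,1,5,1,1,1,1,-1,-1,1,3],
    [3,1,1,-1,1,3,-3,-1,1,-3,-1,1,1,1,1,1,1,1,1,-3,-1,-1,1,-1],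
    [-1,1,1,-1,1,-1,-3,3,-3,1,-1,1,1,1,1,1,-3,1,1,1,-1,3,1,-1],
    [-1,1,-3,-1,1,-1,1,-1,1,1,-1,1,1,1,1,1,1,-3,1,-3,3,3,1,-1],
    [-1,1,1,-1,1,-1,1,-1,1,-3,3,1,1,-3,1,1,1,1,-3,1,-1,3,1,-1],
    [1,-1,3,1,-1,1,-1,1,-1,3,1,-1,-1,-1,3,-1,3,-1,-1,-1,1,1,3,1],
    [1,-1,-1,1,3,1,-1,1,3,-1,1,-1,-1,3,-1,-1,-1,-1,-1,3,1,1,3,1],
    [-1,1,1,-1,-3,-1,1,3,1,-3,-1,1,-3,1,1,1,1,1,1,1,3,-1,1,-1],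
    [1,-1,-1,-3,-1,1,-1,1,-1,-1,1,-1,-1,-1,-1,3,-1,-1,-1,-1,1,1,-1,5]],
  [[1,-1,-1,1,-1,1,-1,1,3,3,1,-1,3,3,-1,-1,3,-1,-1,-1,1,1,-1,1],
    [-1,1,1,3,1,3,-3,-1,1,-3,-1,1,1,1,1,1,1,1,1,-3,-1,-1,1,-1],
    [-1,1,1,3,-3,-1,1,-1,1,1,3,1,1,1,1,1,-3,-3,1,1,-1,-1,1,-1],
    [5,-1,-1,1,-1,1,-1,1,-1,-1,1,-1,-1,-1,-1,3,-1,-1,-1,-1,1,1,-1,-3],
    [-1,1,1,3,1,-1,1,-1,-3,1,-1,1,1,1,-3,1,1,1,-3,1,3,-1,1,-1],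
    [1,3,-1,1,-1,1,-1,1,-1,-1,1,-1,-1,3,-1,-1,-1,3,3,3,1,1,-1,1],
    [-1,1,-3,3,1,-1,1,3,1,1,-1,-3,1,-3,1,1,1,1,1,1,-1,-1,1,-1],
    [1,3,-1,1,-1,1,3,1,-1,-1,1,3,-1,-1,3,-1,3,-1,-1,-1,1,1,-1,1],
    [-1,1,1,-1,1,3,1,-1,1,1,-1,-3,-3,1,1,1,1,-3,1,1,3,-1,1,-1],
    [-1,1,1,-1,1,3,1,-1,1,1,3,1,1,-3,-3,1,1,1,1,1,-1,-1,-3,-1],
    [1,-1,3,1,-1,1,3,1,3,-1,1,-1,-1,-1,-1,-1,-1,3,-1,-1,1,1,3,1],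
    [-1,1,-3,-1,1,3,1,-1,1,1,-1,1,1,1,1,1,-3,1,-3,1,-1,3,1,-1],
    [-1,1,1,-1,1,-1,1,3,1,-3,-1,1,1,1,-3,1,1,-3,1,1,-1,3,1,-1],
    [-1,1,1,-1,1,-1,1,3,1,1,-1,1,1,1,1,1,-3,1,1,-3,3,-1,-3,-1],
    [-1,1,1,-1,1,-1,-3,3,1,1,3,1,-3,1,1,1,1,1,-3,1,-1,-1,1,-1],
    [3,1,1,-1,1,-1,1,-1,1,1,-1,1,1,1,1,5,1,1,1,1,-1,-1,1,3],
    [-1,1,1,-1,1,-1,1,-1,-3,1,3,-3,1,1,1,1,1,1,1,-3,-1,3,1,-1],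
    [-1,-3,1,-1,-3,3,1,3,-3,1,-1,1,1,1,1,1,1,1,1,1,-1,-1,1,-1],
    [-1,-3,1,3,1,-1,1,-1,1,1,-1,1,-3,1,1,1,1,1,1,1,-1,3,-3,-1],
    [-1,1,1,-1,-3,-1,-3,-1,1,1,-1,1,1,-3,1,1,1,1,1,1,3,3,1,-1],
    [1,-1,3,1,3,1,-1,1,-1,-1,1,-1,3,-1,3,-1,-1,-1,-1,3,1,1,-1,1],
    [1,-1,-1,1,3,1,-1,1,-1,3,1,3,-1,-1,-1,-1,-1,-1,3,-1,1,1,3,1],
    [-1,-3,-3,-1,1,-1,1,-1,1,-3,3,1,1,1,1,1,1,1,1,1,3,-1,1,-1],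
    [-3,-1,-1,1,-1,1,-1,1,-1,-1,1,-1,-1,-1,-1,3,-1,-1,-1,-1,1,1,-1,5]],
  [[4,0,0,-2,0,-2,0,-2,-2,-2,-2,0,-2,-2,0,2,-2,0,0,0,-2,-2,0,0],
    [0,-4,0,2,0,2,0,-2,2,2,-2,0,2,-2,0,2,-2,0,0,0,2,-2,0,0],
    [0,0,0,2,0,-2,0,-2,2,-2,2,0,2,-2,0,2,2,0,-4,0,-2,2,0,0],
    [0,0,0,-2,0,-2,0,-2,2,2,-2,0,2,2,0,-2,2,0,0,0,-2,-2,0,4],
    [0,0,0,2,0,-2,-4,2,-2,2,-2,0,2,2,0,2,-2,0,0,0,-2,2,0,0],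
    [-2,2,2,0,-2,0,-2,-4,0,0,0,-2,0,0,2,0,0,-2,2,-2,0,0,2,-2],
    [0,0,-4,2,0,2,0,-2,-2,2,2,0,-2,2,0,2,2,0,0,0,-2,-2,0,0],
    [-2,-2,2,0,-2,0,2,0,0,0,0,2,0,0,-2,0,0,-2,2,2,-4,0,-2,-2],
    [0,0,0,-2,0,-2,0,2,-2,2,2,0,2,-2,0,2,2,-4,0,0,2,-2,0,0],
    [0,0,0,-2,0,2,0,2,2,-2,2,-4,2,2,0,2,-2,0,0,0,-2,-2,0,0],
    [-2,-2,-2,0,2,-4,2,0,0,0,0,-2,0,0,2,0,0,2,2,-2,0,0,-2,-2],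
    [2,2,-2,0,2,0,-2,0,4,0,0,2,0,0,2,0,0,-2,2,2,0,0,-2,-2],
    [0,0,0,-2,0,2,0,-2,-2,-2,-2,0,2,2,0,2,2,0,0,0,2,2,-4,0],
    [0,0,0,-2,0,-2,0,-2,2,2,2,0,-2,2,-4,2,-2,0,0,0,2,2,0,0],
    [2,-2,2,0,2,0,-2,0,0,0,0,-2,0,0,-2,0,4,2,2,2,0,0,2,-2],
    [-2,2,2,0,2,0,2,0,0,0,0,2,0,0,2,4,0,2,2,2,0,0,2,2],
    [0,0,0,-2,0,2,0,2,2,2,-2,0,-2,-2,0,2,2,0,0,-4,-2,2,0,0],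
    [2,2,2,0,-2,0,2,0,0,4,0,-2,0,0,2,0,0,2,-2,2,0,0,-2,-2],
    [0,0,0,2,-4,-2,0,2,2,-2,-2,0,-2,2,0,2,2,0,0,0,2,-2,0,0],
    [2,-2,2,0,2,0,2,0,0,0,0,2,0,4,2,0,0,-2,-2,-2,0,0,2,-2],
    [-2,2,-2,0,2,0,2,0,0,0,-4,-2,0,0,-2,0,0,-2,-2,2,0,0,2,-2],
    [-2,2,2,0,2,0,-2,0,0,0,0,2,0,0,-2,0,0,2,-2,-2,0,-4,-2,-2],
    [2,2,-2,0,-2,0,2,0,0,0,0,2,4,0,-2,0,0,2,2,-2,0,0,2,-2],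
    [-2,-2,-2,-4,-2,0,-2,0,0,0,0,2,0,0,2,0,0,2,-2,2,0,0,2,-2]],
  [[6,-2,0,-2,0,0,0,-2,-2,0,0,2,0,0,2,0,0,0,0,0,0,-2,0,0],
    [-2,6,0,-2,0,0,0,-2,-2,0,0,2,0,0,2,0,0,0,0,0,0,-2,0,0],
    [0,0,-2,0,2,-2,2,0,0,-2,-2,0,2,-2,0,-2,-2,-2,2,-2,2,0,-2,2],
    [-2,-2,0,6,0,0,0,-2,-2,0,0,2,0,0,2,0,0,0,0,0,0,-2,0,0],
    [0,0,2,0,-2,2,2,0,0,-2,2,0,-2,2,0,-2,-2,-2,2,2,2,0,2,2],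
    [0,0,2,0,2,2,-2,0,0,2,2,0,2,-2,0,2,-2,-2,-2,-2,2,0,2,2],
    [0,0,2,0,2,2,2,0,0,2,-2,0,-2,-2,0,2,2,-2,2,2,-2,0,-2,2],
    [0,0,2,0,-2,-2,2,0,0,2,2,0,-2,-2,0,-2,2,-2,-2,-2,2,0,-2,-2],
    [0,0,-2,0,-2,2,-2,0,0,2,2,0,2,-2,0,-2,2,2,2,2,2,0,-2,2],
    [-2,-2,0,-2,0,0,0,-2,6,0,0,2,0,0,2,0,0,0,0,0,0,-2,0,0],
    [-2,-2,0,-2,0,0,0,6,-2,0,0,2,0,0,2,0,0,0,0,0,0,-2,0,0],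
    [0,0,-2,0,-2,2,2,0,0,2,-2,0,-2,-2,0,-2,-2,2,-2,-2,-2,0,2,2],
    [0,0,-2,0,2,2,2,0,0,2,-2,0,2,2,0,-2,2,-2,-2,2,2,0,2,-2],
    [0,0,-2,0,-2,-2,2,0,0,2,2,0,2,2,0,2,2,-2,2,-2,-2,0,2,2],
    [0,0,2,0,-2,-2,-2,0,0,2,-2,0,2,-2,0,-2,-2,-2,2,2,-2,0,2,-2],
    [0,0,-2,0,-2,2,-2,0,0,-2,-2,0,-2,-2,0,2,2,-2,2,-2,2,0,2,-2],
    [0,0,2,0,-2,2,-2,0,0,-2,-2,0,2,2,0,-2,2,-2,-2,-2,-2,0,-2,2],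
    [2,2,0,2,0,0,0,2,2,0,0,6,0,0,-2,0,0,0,0,0,0,2,0,0],
    [0,0,2,0,2,2,2,0,0,-2,2,0,2,-2,0,-2,2,2,2,-2,-2,0,2,-2],
    [2,2,0,2,0,0,0,2,2,0,0,-2,0,0,-2,0,0,0,0,0,0,-6,0,0],
    [0,0,2,0,-2,2,2,0,0,2,-2,0,2,2,0,2,-2,2,2,-2,2,0,-2,-2],
    [-2,-2,0,-2,0,0,0,-2,-2,0,0,2,0,0,-6,0,0,0,0,0,0,-2,0,0],
    [0,0,2,0,-2,-2,2,0,0,-2,-2,0,2,-2,0,2,2,2,-2,2,2,0,2,2],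
    [0,0,2,0,2,-2,-2,0,0,2,-2,0,-2,2,0,-2,2,2,2,-2,2,0,2,2]]]

/-- Vectors fixed by all generators but one. -/
def fiveVecs : List (List ℤ) := [[-5,-15,-15,-5,-15,-5,-15,-5,-15,-15,-5,-15,-15,-15,-15,-35,-15,-15,-15,-15,-5,-5,-15,35],
  [0,0,10,0,-20,10,0,0,10,10,10,-10,-20,0,10,0,0,10,10,0,-10,-10,-10,0],
  [0,0,-10,0,20,-10,0,-10,0,-10,20,-20,0,20,10,0,-10,10,-10,20,-20,20,-20,0]]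

/-- Relations between the tables. -/
def fiveEqs : List (List ℕ × List ℕ) := [([0, 0, 0, 0, 0], []), ([1, 1, 1, 1, 1], []), ([2, 2, 2, 2, 2], []), ([0, 1], [1, 0]), ([0, 2], [2, 0]), ([1, 2], [2, 1]), ([3, 0], [0, 0, 3]), ([3, 1], [1, 1, 3]), ([3, 2], [2, 2, 3]), ([4, 4, 4, 4, 4], []), ([3, 4], [4, 3]), ([3, 3, 3, 3], []), ([4, 0], [0, 1, 1, 1, 1, 2, 2, 2, 2, 4]), ([4, 1], [0, 0, 0, 0, 1, 1, 4]), ([4, 2], [0, 0, 1, 1, 4])]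

/-- The action of the outer generator. -/
def fiveConj : List (List ℕ) := [[0, 1, 1, 1, 1, 2, 2, 2, 2], [0, 0, 0, 0, 1, 1], [0, 0, 1, 1]]

/-- Tables. -/
def sevenTabs : List (List (List ℤ)) := [
  [[0,0,0,0,0,0,0,0,8,0,0,0,0,0,0,0,0,0,0,0,0,0,0,0],
    [0,0,0,0,0,0,0,0,0,0,0,0,8,0,0,0,0,0,0,0,0,0,0,0],
    [0,0,0,0,0,0,0,0,0,0,8,0,0,0,0,0,0,0,0,0,0,0,0,0],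
    [0,0,0,8,0,0,0,0,0,0,0,0,0,0,0,0,0,0,0,0,0,0,0,0],
    [0,0,0,0,0,0,0,0,0,0,0,0,0,0,0,0,0,0,8,0,0,0,0,0],
    [0,0,0,0,0,8,0,0,0,0,0,0,0,0,0,0,0,0,0,0,0,0,0,0],
    [0,0,0,0,0,0,0,0,0,0,0,0,0,0,0,0,0,8,0,0,0,0,0,0],
    [0,0,0,0,0,0,0,0,0,0,0,0,0,0,0,0,8,0,0,0,0,0,0,0],
    [0,0,0,0,0,0,0,8,0,0,0,0,0,0,0,0,0,0,0,0,0,0,0,0],
    [0,0,0,0,8,0,0,0,0,0,0,0,0,0,0,0,0,0,0,0,0,0,0,0],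
    [8,0,0,0,0,0,0,0,0,0,0,0,0,0,0,0,0,0,0,0,0,0,0,0],
    [0,0,0,0,0,0,0,0,0,8,0,0,0,0,0,0,0,0,0,0,0,0,0,0],
    [0,0,0,0,0,0,0,0,0,0,0,0,0,0,0,0,0,0,0,0,0,8,0,0],
    [0,0,0,0,0,0,0,0,0,0,0,0,0,0,0,0,0,0,0,8,0,0,0,0],
    [0,0,8,0,0,0,0,0,0,0,0,0,0,0,0,0,0,0,0,0,0,0,0,0],
    [0,0,0,0,0,0,0,0,0,0,0,0,0,0,0,0,0,0,0,0,8,0,0,0],
    [0,0,0,0,0,0,0,0,0,0,0,0,0,0,8,0,0,0,0,0,0,0,0,0],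
    [0,0,0,0,0,0,0,0,0,0,0,0,0,0,0,8,0,0,0,0,0,0,0,0],
    [0,8,0,0,0,0,0,0,0,0,0,0,0,0,0,0,0,0,0,0,0,0,0,0],
    [0,0,0,0,0,0,8,0,0,0,0,0,0,0,0,0,0,0,0,0,0,0,0,0],
    [0,0,0,0,0,0,0,0,0,0,0,0,0,0,0,0,0,0,0,0,0,0,8,0],
    [0,0,0,0,0,0,0,0,0,0,0,8,0,0,0,0,0,0,0,0,0,0,0,0],
    [0,0,0,0,0,0,0,0,0,0,0,0,0,8,0,0,0,0,0,0,0,0,0,0],
    [0,0,0,0,0,0,0,0,0,0,0,0,0,0,0,0,0,0,0,0,0,0,0,8]],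
  [[0,0,0,0,4,2,2,0,-4,0,0,0,0,-2,0,-2,0,2,0,-2,2,0,-2,0],
    [2,2,-2,-2,-2,0,0,2,-2,2,-2,-2,-2,0,-2,0,2,0,2,0,0,-2,0,-2],
    [0,0,0,0,0,2,-2,0,0,0,-4,4,0,2,0,-2,0,2,0,2,-2,0,-2,0],
    [2,2,2,-2,2,0,0,2,2,2,2,2,2,0,2,0,2,0,2,0,0,2,0,-2],
    [2,-2,2,-2,2,0,0,-2,2,2,-2,-2,-2,0,-2,0,-2,0,-2,0,0,2,0,-2],
    [0,0,0,4,0,2,2,0,0,0,0,0,0,2,0,2,0,2,0,2,2,0,2,-4],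
    [0,4,0,0,0,-2,2,0,0,0,0,0,0,-2,0,-2,-4,2,0,2,-2,0,2,0],
    [0,4,0,0,0,2,-2,0,0,0,0,0,0,2,0,2,-4,-2,0,-2,2,0,-2,0],
    [0,0,0,0,0,2,-2,-4,0,0,0,0,0,-2,0,2,0,2,4,-2,-2,0,2,0],
    [2,-2,-2,-2,-2,0,0,-2,-2,2,2,2,2,0,2,0,-2,0,-2,0,0,-2,0,-2],
    [-4,0,0,0,0,2,2,0,0,4,0,0,0,-2,0,2,0,-2,0,2,-2,0,-2,0],
    [-2,2,2,-2,-2,0,0,-2,-2,-2,2,2,-2,0,-2,0,2,0,-2,0,0,2,0,-2],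
    [-2,2,-2,-2,2,0,0,-2,2,-2,-2,-2,2,0,2,0,2,0,-2,0,0,-2,0,-2],
    [0,0,0,0,4,-2,-2,0,-4,0,0,0,0,2,0,2,0,-2,0,2,-2,0,2,0],
    [0,0,-4,0,0,2,2,0,0,0,0,0,0,2,0,-2,0,-2,0,-2,-2,4,2,0],
    [0,0,-4,0,0,-2,-2,0,0,0,0,0,0,-2,0,2,0,2,0,2,2,4,-2,0],
    [0,0,0,0,0,2,-2,0,0,0,0,0,4,-2,-4,-2,0,-2,0,2,2,0,2,0],
    [0,0,0,0,0,-2,2,0,0,0,0,0,4,2,-4,2,0,2,0,-2,-2,0,-2,0],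
    [-2,-2,-2,-2,2,0,0,2,2,-2,2,2,-2,0,-2,0,-2,0,2,0,0,-2,0,-2],
    [0,0,0,0,0,-2,2,-4,0,0,0,0,0,2,0,-2,0,-2,4,2,2,0,-2,0],
    [0,0,0,0,0,-2,2,0,0,0,-4,4,0,-2,0,2,0,-2,0,-2,2,0,2,0],
    [-2,-2,2,-2,-2,0,0,2,-2,-2,-2,-2,2,0,2,0,-2,0,2,0,0,2,0,-2],
    [-4,0,0,0,0,-2,-2,0,0,4,0,0,0,2,0,-2,0,2,0,-2,2,0,2,0],
    [0,0,0,4,0,-2,-2,0,0,0,0,0,0,-2,0,-2,0,-2,0,-2,-2,0,-2,-4]],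
  [[0,0,4,0,0,-2,-2,0,0,0,0,0,0,-2,0,2,0,2,0,2,2,4,-2,0],
    [0,0,0,0,0,-2,2,0,0,0,0,0,-4,2,-4,2,0,2,0,-2,-2,0,-2,0],
    [0,0,0,0,4,-2,-2,0,4,0,0,0,0,2,0,2,0,-2,0,2,-2,0,2,0],
    [0,0,0,-4,0,2,2,0,0,0,0,0,0,2,0,2,0,2,0,2,2,0,2,-4],
    [-4,0,0,0,0,-2,-2,0,0,-4,0,0,0,2,0,-2,0,2,0,-2,2,0,2,0],
    [2,-2,2,2,-2,0,0,2,2,-2,2,-2,-2,0,2,0,2,0,-2,0,0,-2,0,-2],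
    [2,2,2,2,-2,0,0,-2,2,-2,-2,2,2,0,-2,0,-2,0,2,0,0,-2,0,-2],
    [0,0,0,0,0,-2,2,4,0,0,0,0,0,2,0,-2,0,-2,4,2,2,0,-2,0],
    [4,0,0,0,0,-2,-2,0,0,4,0,0,0,2,0,-2,0,2,0,-2,2,0,2,0],
    [0,0,-4,0,0,-2,-2,0,0,0,0,0,0,-2,0,2,0,2,0,2,2,-4,-2,0],
    [0,4,0,0,0,-2,2,0,0,0,0,0,0,-2,0,-2,4,2,0,2,-2,0,2,0],
    [0,-4,0,0,0,-2,2,0,0,0,0,0,0,-2,0,-2,-4,2,0,2,-2,0,2,0],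
    [0,0,0,0,0,-2,2,0,0,0,-4,-4,0,-2,0,2,0,-2,0,-2,2,0,2,0],
    [-2,-2,-2,2,-2,0,0,-2,2,2,-2,2,-2,0,2,0,2,0,2,0,0,2,0,-2],
    [0,0,0,0,0,-2,2,0,0,0,4,4,0,-2,0,2,0,-2,0,-2,2,0,2,0],
    [-2,2,2,2,2,0,0,2,-2,2,-2,2,-2,0,2,0,-2,0,-2,0,0,-2,0,-2],
    [0,0,0,0,0,-2,2,0,0,0,0,0,4,2,4,2,0,2,0,-2,-2,0,-2,0],
    [2,-2,-2,2,2,0,0,2,-2,-2,-2,2,2,0,-2,0,2,0,-2,0,0,2,0,-2],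
    [0,0,0,0,0,-2,2,-4,0,0,0,0,0,2,0,-2,0,-2,-4,2,2,0,-2,0],
    [-2,-2,2,2,2,0,0,-2,-2,2,2,-2,2,0,-2,0,2,0,2,0,0,-2,0,-2],
    [2,2,-2,2,2,0,0,-2,-2,-2,2,-2,-2,0,2,0,-2,0,2,0,0,2,0,-2],
    [0,0,0,0,-4,-2,-2,0,-4,0,0,0,0,2,0,2,0,-2,0,2,-2,0,2,0],
    [-2,2,-2,2,-2,0,0,2,2,2,2,-2,2,0,-2,0,-2,0,-2,0,0,2,0,-2],
    [0,0,0,4,0,2,2,0,0,0,0,0,0,2,0,2,0,2,0,2,2,0,2,4]]]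

/-- Vectors fixed by all generators but one. -/
def sevenVecs : List (List ℤ) := [[6,8,-2,0,-2,0,-2,10,-2,-6,-8,0,0,-6,-4,8,0,4,-2,-10,10,2,-4,0],
  [1,3,1,7,3,-7,1,1,1,3,1,3,3,1,1,1,1,1,3,1,1,3,1,-7]]

/-- Relations between the tables. -/
def sevenEqs : List (List ℕ × List ℕ) := [([0, 0, 0, 0, 0, 0, 0], []), ([1, 1, 1, 1, 1, 1, 1], []), ([0, 1], [1, 0]), ([2, 0], [0, 0, 2]), ([2, 1], [1, 1, 2])]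

/-- Twelve octads spanning the code. -/
def octBasis : List ℕ := [7221256, 1737489, 14551296, 1445088, 1164162, 11282452, 8421811, 3806496, 8398155, 5249380, 5571333, 8471941]

/-- Steps of the derivation of all octads. -/
def octSteps0 : List (ℕ × ℕ) := [(2, 0), (2, 1), (3, 2), (4, 1), (5, 0), (5, 2), (6, 1), (6, 4), (7, 0), (7, 1), (7, 2), (7, 3), (8, 6), (9, 2), (9, 3), (9, 7), (10, 1), (10, 2), (10, 4), (10, 9), (11, 4), (11, 6), (11, 8), (11, 10), (12, 5), (12, 7), (12, 8), (12, 9), (13, 5), (13, 6), (13, 10), (14, 6), (14, 7), (14, 8), (14, 9), (14, 11), (15, 6), (15, 11), (16, 9), (16, 13), (17, 7), (17, 9), (17, 10), (18, 3), (18, 7), (18, 14), (19, 10), (19, 11), (19, 13), (20,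 3), (20, 8), (20, 9), (20, 10), (20, 14), (20, 17), (21, 19), (22, 9), (23, 5), (23, 9), (24, 3), (24, 14), (24, 20), (24, 21), (25, 16), (25, 18), (25, 23), (26, 0), (26, 10), (26, 11), (26, 16), (26, 17), (26, 20), (27, 5), (27, 16), (27, 17), (28, 0), (28, 5), (28, 16), (28, 17), (28, 25), (28, 26), (28, 27), (29, 11), (29, 15), (29, 16), (29, 18), (29, 19), (29, 27), (30, 11), (30, 26), (31, 19), (31, 23), (32, 8), (32, 13), (32, 18), (32, 21), (32, 29), (33, 21), (33, 28), (33, 30), (34, 15), (34, 30), (35, 3), (35, 13), (35, 14), (35, 20), (35, 22), (35, 26), (36, 23), (36, 26), (36, 28), (37, 8), (37, 18), (37, 24), (38, 3), (38, 9), (38, 21), (38, 23), (38, 27), (38, 31)]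

/-- Steps of the derivation of all octads. -/
def octSteps1 : List (ℕ × ℕ) := [(38, 32), (39, 24), (39, 34), (40, 27), (40, 30), (40, 32), (40, 39), (41, 23), (41, 26), (41, 30), (41, 31), (41, 35), (42, 32), (43, 15), (43, 27), (43, 28), (43, 30), (43, 32), (43, 38), (43, 40), (44, 35), (44, 38), (45, 15), (45, 18), (45, 30), (45, 39), (45, 40), (45, 41), (46, 11), (46, 32), (46, 35), (47, 15), (47, 27), (47, 28), (47, 30), (47, 39), (47, 40), (48, 25), (48, 37), (48, 47), (49, 5), (49, 16), (49, 25), (49, 26), (49, 27), (49, 36), (49, 37), (49, 46), (50, 6), (50, 8), (50, 18), (50, 19), (50, 24), (50, 42), (50, 44), (50, 48), (50, 49), (51, 26), (51, 30), (52, 24), (52, 26), (52, 28),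 (52, 33), (52, 43), (52, 45), (52, 46), (52, 47), (52, 49), (53, 24), (54, 19), (55, 27), (55, 31), (55, 32), (55, 35), (55, 37), (55, 38), (55, 49), (56, 32), (56, 35), (56, 38), (56, 46), (56, 49), (57, 35), (57, 38), (57, 50), (58, 5), (58, 16), (58, 20), (58, 22), (58, 25), (58, 26), (58, 36), (58, 39), (58, 47), (58, 50), (58, 52), (59, 9), (59, 17), (59, 20), (59, 26), (59, 36), (59, 42), (59, 46), (59, 50), (59, 52), (60, 31), (61, 24), (61, 34), (62, 9), (62, 10), (62, 18), (62, 19), (62, 30), (62, 31), (62, 32), (62, 35), (62, 39), (62, 43), (62, 47), (62, 50)]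

/-- Steps of the derivation of all octads. -/
def octSteps2 : List (ℕ × ℕ) := [(62, 55), (62, 57), (62, 58), (62, 60), (63, 24), (63, 34), (63, 55), (64, 24), (64, 32), (64, 33), (64, 40), (64, 45), (64, 47), (64, 59), (66, 24), (66, 33), (66, 49), (66, 58), (66, 59), (67, 35), (67, 46), (68, 11), (68, 32), (68, 35), (68, 49), (68, 58), (68, 59), (69, 24), (69, 34), (69, 42), (69, 49), (69, 58), (69, 59), (70, 28), (70, 30), (70, 35), (70, 40), (70, 58), (70, 59), (71, 5), (71, 12), (71, 16), (71, 17), (71, 28), (71, 36), (71, 42), (71, 50), (71, 51), (71, 53), (71, 54), (71, 63), (71, 66), (72, 39), (72, 40), (72, 49), (72, 50), (73, 28), (73, 35), (73, 42), (73, 50), (73, 57), (73,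 60), (74, 31), (74, 39), (74, 53), (74, 54), (74, 63), (74, 64), (75, 24), (75, 43), (75, 45), (75, 47), (75, 58), (75, 62), (75, 73), (76, 32), (76, 34), (76, 35), (76, 69), (76, 73), (77, 49), (77, 58), (77, 59), (78, 34), (78, 49), (78, 59), (78, 74), (79, 15), (79, 32), (79, 38), (79, 51), (79, 56), (79, 59), (79, 67), (79, 74), (80, 13), (80, 28), (80, 48), (80, 51), (80, 54), (80, 60), (80, 62), (80, 67), (81, 35), (81, 49), (81, 56), (81, 58), (81, 59), (81, 73), (82, 59), (82, 67), (82, 73), (82, 74), (83, 59), (83, 74), (84, 28), (84, 35), (84, 43), (84, 49), (84, 55)]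

/-- Steps of the derivation of all octads. -/
def octSteps3 : List (ℕ × ℕ) := [(84, 58), (84, 72), (85, 8), (85, 24), (85, 43), (85, 49), (85, 74), (86, 43), (86, 49), (86, 59), (87, 33), (87, 34), (87, 69), (87, 71), (87, 72), (88, 67), (88, 71), (88, 72), (88, 77), (88, 80), (89, 55), (89, 67), (89, 71), (89, 72), (89, 80), (90, 73), (91, 24), (91, 62), (91, 72), (91, 73), (92, 33), (92, 56), (92, 59), (92, 73), (93, 33), (93, 43), (93, 73), (94, 56), (94, 78), (94, 81), (95, 34), (95, 69), (95, 77), (95, 81), (96, 45), (96, 47), (96, 72), (97, 34), (97, 83), (98, 47), (98, 53), (98, 83), (99, 8), (99, 32), (100, 22), (100, 55), (100, 57), (100, 62), (100, 72), (100, 73), (100, 81),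 (100, 84), (101, 8), (101, 38), (102, 38), (102, 62), (102, 69), (102, 73), (102, 81), (102, 82), (103, 59), (104, 9), (104, 17), (104, 36), (104, 39), (104, 40), (104, 50), (104, 51), (104, 61), (104, 63), (104, 65), (104, 68), (104, 69), (104, 76), (104, 78), (104, 83), (104, 86), (104, 87), (104, 90), (105, 38), (105, 52), (105, 62), (105, 63), (105, 66), (105, 73), (105, 81), (105, 82), (106, 27), (106, 37), (106, 52), (106, 64), (106, 66), (106, 77), (106, 78), (106, 83), (106, 103), (107, 69), (107, 82), (107, 97), (108, 38), (109, 38), (109, 54), (109, 79), (109, 96), (110, 20), (110, 37), (110, 45), (110, 62), (110, 75), (110, 84)]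

/-- Steps of the derivation of all octads. -/
def octSteps4 : List (ℕ × ℕ) := [(111, 52), (111, 66), (111, 75), (111, 81), (111, 82), (111, 84), (112, 5), (112, 16), (112, 25), (112, 27), (112, 39), (112, 50), (112, 52), (112, 53), (112, 61), (112, 63), (112, 64), (112, 65), (112, 66), (112, 69), (112, 75), (112, 78), (112, 83), (112, 84), (112, 85), (112, 86), (112, 96), (113, 39), (113, 61), (113, 63), (113, 65), (113, 75), (113, 84), (114, 62), (114, 84), (115, 73), (115, 81), (115, 86), (116, 62), (116, 73), (117, 74), (120, 34), (120, 59), (120, 95), (120, 97), (120, 98), (120, 102), (120, 104), (120, 105), (120, 107), (120, 112), (120, 115), (121, 15), (121, 59), (121, 106), (121,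 110), (121, 111), (121, 112), (123, 31), (123, 101), (125, 91), (125, 92), (125, 93), (125, 95), (125, 102), (126, 15), (126, 30), (126, 101), (126, 106), (126, 109), (126, 110), (126, 111), (127, 33), (127, 40), (127, 59), (127, 105), (127, 106), (127, 107), (127, 109), (127, 110), (127, 111), (128, 50), (128, 53), (128, 75), (128, 102), (128, 114), (128, 116), (129, 4), (129, 15), (129, 30), (129, 59), (129, 90), (129, 97), (129, 106), (129, 110), (129, 111), (130, 15), (130, 32), (130, 96), (130, 106), (130, 109), (130, 110), (130, 122), (131, 33), (131, 55), (131, 57), (131, 60), (131, 105), (131, 107), (131, 108), (132, 76), (133, 88), (133, 115), (134, 41), (134, 88), (135, 108),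 (135, 113), (135, 114), (136, 45), (136, 70)]

/-- Steps of the derivation of all octads. -/
def octSteps5 : List (ℕ × ℕ) := [(136, 74), (136, 103), (136, 126), (136, 129), (136, 131), (136, 134), (137, 43), (137, 45), (137, 55), (137, 57), (137, 72), (137, 124), (137, 129), (137, 133), (138, 45), (138, 72), (139, 132), (139, 134), (140, 132), (142, 34), (142, 69), (143, 129), (144, 81), (144, 129), (145, 125), (145, 133), (145, 135), (146, 54), (146, 112), (146, 132), (147, 62), (148, 84), (148, 125), (148, 133), (149, 16), (149, 36), (149, 84), (149, 85), (149, 86), (149, 96), (150, 137), (151, 34), (151, 112), (151, 131), (151, 144), (153, 95), (153, 111), (153, 144), (154, 16), (154,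 17), (154, 50), (154, 52), (154, 53), (154, 66), (154, 75), (154, 84), (154, 88), (154, 122), (156, 52), (156, 66), (156, 70), (156, 75), (156, 138), (157, 95), (158, 109), (158, 117), (158, 118), (158, 141), (168, 131), (171, 16), (171, 84), (171, 130), (172, 56), (172, 126), (172, 131), (173, 129), (173, 159), (175, 125), (177, 131), (180, 34), (180, 104), (180, 113), (181, 19), (181, 98), (181, 110), (181, 143), (182, 34), (182, 166), (183, 74), (183, 113), (183, 123), (183, 152), (184, 94), (184, 101), (184, 108), (184, 117), (184, 119), (184, 170), (185, 125), (187, 73), (188, 129), (189, 113), (190, 74), (190, 130), (190, 153), (191, 92), (191, 161), (191, 162), (191, 163), (191,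 166), (191, 175), (192, 110), (192, 111), (192, 156), (193, 71), (195, 104), (195, 132), (196, 144), (197, 111), (200, 94)]

/-- Steps of the derivation of all octads. -/
def octSteps6 : List (ℕ × ℕ) := [(200, 108), (200, 115), (205, 130), (206, 113), (211, 102), (219, 181), (230, 158), (231, 193), (233, 158), (238, 88), (239, 185), (239, 217), (239, 221), (239, 226), (241, 188), (241, 235), (244, 168), (244, 188), (245, 137), (247, 151), (247, 182), (247, 216), (250, 226), (250, 227), (263, 188), (280, 224), (283, 257)]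

/-- The derivation of all octads from the basis. -/
def octSteps : List (ℕ × ℕ) := octSteps0 ++ octSteps1 ++ octSteps2 ++ octSteps3 ++ octSteps4 ++ octSteps5 ++ octSteps6

/-- Octads for the bilinear relations. -/
def octPats : List (ℕ × ℕ × ℕ) := [(3704512, 8536111, 13062145), (10305542, 8536111, 13062145), (3698756, 8536111, 13062145)]

/-- A permutation fixing the base octad and one point outside it. -/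
def fpfTab : List ℕ := [17, 0, 2, 3, 15, 23, 16, 18, 13, 22, 12, 7, 9, 11, 14, 19, 4, 5, 8, 6, 20, 10, 21, 1]

/-- A permutation moving the dodecad to its complement. -/
def swapTab : List ℕ := [23, 22, 11, 15, 17, 9, 19, 13, 20, 5, 16, 2, 21, 7, 18, 3, 10, 4, 14, 6, 8, 12, 1, 0]

/-- The coordinates of the all-ones word. -/
def allCoord : ℕ := 2438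

/-- Signed permutations. -/
def threeMonos : List (List ℕ × ℕ) := [([0, 3, 9, 1, 16, 17, 12, 23, 4, 8, 7, 20, 18, 2, 19, 15, 13, 21, 6, 14, 22, 11, 5, 10], 0), ([0, 3, 13, 1, 8, 22, 18, 10, 9, 2, 23, 21, 6, 16, 19, 15, 4, 5, 12, 14, 11, 17, 20, 7], 0), ([0, 6, 18, 2, 9, 11, 1, 23, 8, 16, 14, 17, 13, 4, 15, 7, 3, 19, 12, 5, 21, 22, 10, 20], 0), ([0, 6, 3, 16, 13, 19, 1, 15, 8, 4, 22, 5, 18, 12, 10, 14, 9, 11, 2, 17, 23, 20, 21, 7], 0), ([0, 12, 13, 4, 18, 22, 2, 23, 16, 9, 5, 11, 3, 8, 7, 14, 6, 15, 1, 10, 19, 21, 20, 17], 0), ([0, 18, 6, 12, 3, 10, 16, 14, 13, 9, 19, 11, 1, 2, 15, 17, 8, 23, 4, 20, 22, 21, 5, 7], 0), ([0, 1, 3, 8, 13, 21, 4, 23, 9, 18, 10, 22, 6, 16, 14, 5, 12, 7, 2,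 20, 15, 19, 17, 11], 0), ([0, 1, 18, 2, 6, 15, 12, 17, 3, 8, 10, 23, 16, 4, 14, 20, 13, 22, 9, 21, 19, 5, 11, 7], 0), ([0, 2, 6, 16, 3, 19, 8, 23, 18, 13, 20, 21, 12, 9, 5, 10, 1, 14, 4, 17, 7, 15, 11, 22], 0), ([0, 16, 1, 4, 18, 14, 2, 20, 6, 13, 15, 22, 12, 9, 17, 21, 3, 19, 8, 5, 10, 11, 23, 7], 0), ([0, 1, 2, 3, 4, 5, 6, 7, 8, 9, 10, 11, 12, 13, 14, 15, 16, 17, 18, 19, 20, 21, 22, 23], 340831), ([2, 16, 9, 1, 18, 22, 12, 15, 4, 0, 11, 14, 13, 6, 10, 17, 3, 7, 8, 20, 23, 5, 21, 19], 15747077), ([9, 2, 16, 6, 4, 10, 13, 7, 8, 12, 15, 22, 0, 3, 14, 5, 1, 11, 18, 23, 19, 21, 17, 20], 5770785), ([6, 9, 12, 2, 4, 15, 16, 14, 8, 13, 5, 22, 3, 1, 21, 10, 0, 11, 18, 19, 20, 7, 17, 23], 6326497),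 ([9, 16, 2, 3, 8, 22, 13, 7, 4, 0, 11, 10, 12, 6, 14, 17, 1, 15, 18, 20, 19, 21, 5, 23], 6110590), ([6, 12, 9, 1, 8, 22, 16, 14, 4, 3, 11, 15, 13, 2, 21, 17, 0, 5, 18, 23, 20, 7, 10, 19], 6326497), ([1, 8, 13, 9, 2, 5, 16, 7, 12, 3, 17, 21, 0, 18, 10, 14, 6, 15, 4, 11, 20, 23, 22, 19], 4060028), ([16, 6, 18, 4, 3, 21, 1, 7, 8, 9, 17, 14, 12, 13, 11, 23, 0, 10, 2, 19, 20, 5, 22, 15], 2313249), ([8, 0, 13, 2, 3, 19, 1, 22, 6, 9, 14, 17, 12, 4, 23, 21, 16, 5, 18, 11, 10, 15, 7, 20], 5731070), ([8, 16, 9, 18, 13, 14, 0, 7, 12, 2, 10, 20, 6, 3, 23, 17, 1, 11, 4, 19, 15, 5, 22, 21], 5390753), ([1, 0, 3, 2, 4, 14, 6, 7, 16, 9, 10, 11, 12, 18, 5, 19, 8, 23, 13, 15, 21, 20, 22, 17], 4060028), ([3,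 12, 16, 0, 18, 5, 13, 10, 9, 1, 21, 11, 8, 6, 14, 19, 4, 15, 2, 22, 20, 23, 17, 7], 4900873), ([0, 1, 16, 12, 13, 5, 6, 11, 9, 8, 17, 7, 3, 4, 19, 21, 2, 10, 18, 14, 20, 15, 22, 23], 0), ([9, 1, 6, 3, 16, 20, 2, 15, 8, 0, 10, 11, 12, 18, 23, 7, 4, 21, 13, 19, 5, 17, 22, 14], 5770785), ([0, 9, 18, 8, 4, 5, 6, 7, 3, 1, 14, 15, 12, 16, 10, 11, 13, 23, 2, 19, 20, 22, 21, 17], 0), ([0, 1, 4, 16, 2, 19, 8, 23, 6, 9, 22, 11, 13, 12, 14, 21, 3, 17, 18, 5, 20, 15, 10, 7], 340831), ([2, 13, 0, 4, 18, 7, 9, 15, 6, 12, 10, 11, 8, 1, 14, 17, 3, 5, 16, 19, 23, 22, 20, 21], 689317), ([4, 12, 3, 2, 0, 22, 6, 10, 8, 9, 7, 14, 1, 13, 11, 20, 18, 17, 16, 19, 15, 21, 5, 23], 1100945), ([6, 18, 12, 13, 3,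 14, 8, 11, 9, 0, 10, 20, 2, 16, 22, 15, 4, 5, 1, 19, 23, 21, 17, 7], 6667198), ([0, 6, 13, 16, 4, 5, 1, 14, 18, 9, 10, 20, 12, 2, 7, 15, 3, 23, 8, 22, 11, 21, 19, 17], 0), ([9, 4, 8, 16, 1, 7, 12, 11, 2, 6, 10, 21, 0, 18, 22, 14, 13, 17, 3, 19, 15, 5, 20, 23], 5770785)]

/-- The tables as words. -/
def threeWords : List (List ℕ) := [[0, 1, 0, 2, 5, 0, 6, 7, 0, 8, 9, 0, 0, 10], [0, 1, 0, 0, 2, 5, 0, 0, 6, 9, 0, 10], [1, 0, 2, 3, 0, 0, 4, 5, 0, 0, 6, 7, 0, 8, 9, 0, 10], [0, 5, 0, 0, 6, 7, 0, 0, 8, 9, 0, 10], [0, 0, 1, 0, 0, 2, 3, 0, 4, 5, 0, 6, 7, 0, 0, 8, 9, 0, 10], [0, 0, 5, 0, 6], [11], [12], [13], [14], [15], [16], [17], [18], [19], [20], [21], [22], [23], [24], [25], [26], [27], [28],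 [29], [30], [31]]

/-- Signed permutations. -/
def fiveMonos : List (List ℕ × ℕ) := [([0, 18, 6, 3, 2, 21, 1, 5, 16, 12, 7, 19, 8, 9, 17, 15, 13, 11, 4, 22, 10, 20, 14, 23], 0)]

/-- The tables as words. -/
def fiveWords : List (List ℕ) := [[1, 1, 1, 1, 2, 2, 2], [1, 1, 1, 2, 2, 2], [0, 1, 1, 2, 2], [3], [4]]

/-- Signed permutations. -/
def sevenMonos : List (List ℕ × ℕ) := [([8, 12, 10, 3, 18, 5, 17, 16, 7, 4, 0, 9, 21, 19, 2, 20, 14, 15, 1, 6, 22, 11, 13, 23], 0)]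

/-- The tables as words. -/
def sevenWords : List (List ℕ) := [[0], [1], [2]]

/-- Tables. -/
def fiveRawA : List (List (List ℤ)) := [
  [[5,-1,-1,-3,-1,-1,-1,-1,-1,-1,-1,1,-1,-1,1,1,-1,1,-1,1,-1,-1,1,3],
    [-1,1,1,-1,1,1,1,1,1,-3,1,-1,1,-3,-1,-1,1,3,1,-1,-3,1,3,1],
    [-1,1,1,-1,1,-3,1,1,-3,1,1,3,1,1,-1,-1,-3,-1,1,-1,1,1,3,1],
    [-3,-1,-1,5,-1,-1,-1,-1,-1,-1,-1,1,-1,-1,1,1,-1,1,-1,1,-1,-1,1,3],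
    [-1,1,1,-1,1,1,1,-3,-3,1,1,-1,-3,1,-1,-1,1,3,1,3,1,1,-1,1],
    [-1,1,-3,-1,-3,1,1,1,-3,-3,1,-1,1,1,-1,-1,1,-1,1,-1,1,-3,-1,1],
    [-1,1,1,-1,1,1,1,1,1,1,1,-1,1,-3,3,-1,-3,-1,1,3,1,-3,-1,1],
    [-1,1,1,-1,-3,-3,1,1,1,1,1,-1,-3,-3,-1,-1,1,-1,-3,-1,1,1,-1,1],
    [-1,1,-3,-1,1,1,1,1,1,1,-3,-1,1,1,-1,-1,1,-1,-3,3,1,1,3,1],
    [-1,1,1,-1,1,1,-3,1,1,1,1,3,1,1,-1,-1,1,3,-3,-1,1,-3,-1,1],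
    [-1,-3,1,-1,1,1,1,-3,1,-3,1,-1,1,1,-1,-1,-3,-1,-3,-1,1,1,-1,1],
    [1,-1,-1,1,-1,3,3,-1,-1,3,-1,1,-1,-1,1,-3,-1,1,-1,-3,-1,-1,1,-1],
    [-1,-3,1,-1,-3,1,1,1,1,1,1,3,1,1,-1,-1,1,-1,1,3,-3,1,-1,1],
    [-1,-3,-3,-1,1,-3,1,1,1,1,1,-1,1,1,3,-1,1,3,1,-1,1,1,-1,1],
    [1,-1,-1,1,3,-1,-1,-1,-1,-1,3,1,-1,-1,1,-3,3,-3,-1,1,-1,-1,1,-1],
    [-3,-1,-1,-3,-1,-1,-1,-1,-1,-1,-1,1,-1,-1,1,1,-1,1,-1,1,-1,-1,1,-5],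
    [-1,1,1,-1,-3,1,-3,-3,1,1,1,-1,1,1,3,-1,1,-1,1,-1,1,1,3,1],
    [1,-1,3,1,-1,-1,-1,3,-1,-1,-1,-3,-1,3,1,-3,-1,1,-1,1,-1,-1,1,-1],
    [-1,1,1,-1,1,1,1,1,1,-3,-3,3,-3,1,3,-1,1,-1,1,-1,1,1,-1,1],
    [1,3,-1,1,-1,-1,-1,-1,-1,-1,-1,1,3,-1,1,-3,-1,1,-1,1,-1,3,-3,-1],
    [-1,-3,1,-1,1,1,-3,1,-3,1,-3,-1,1,-3,-1,-1,1,-1,1,-1,1,1,-1,1],
    [-1,1,-3,-1,1,1,-3,1,1,1,1,-1,-3,1,-1,-1,-3,-1,1,-1,-3,1,-1,1],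
    [1,-1,-1,1,-1,-1,-1,-1,3,-1,-1,1,-1,-1,-3,-3,-1,1,3,1,3,-1,1,-1],
    [-1,1,1,-1,1,-3,1,-3,1,1,-3,-1,1,1,-1,-1,1,-1,1,-1,-3,-3,-1,1]],
  [[-3,1,1,3,1,-1,1,-1,-1,-1,-1,1,-1,-1,1,-5,-1,1,1,1,-1,-1,1,1],
    [1,1,1,-1,-3,-1,-3,-1,3,-1,-1,-3,3,-1,1,-1,-1,1,1,1,-1,-1,1,1],
    [1,-3,1,-1,-3,-1,1,-1,-1,3,-1,1,-1,3,-3,-1,-1,1,1,1,-1,-1,1,1],
    [-5,-1,-1,-3,-1,1,-1,1,1,1,1,-1,1,1,-1,-3,1,-1,-1,-1,1,1,-1,-1],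
    [1,1,1,-1,1,-1,-3,-1,-1,-1,-1,1,-1,3,1,-1,3,1,-3,1,-1,-1,-3,1],
    [1,1,1,-1,-3,-1,1,-1,-1,-1,3,1,-1,-1,1,-1,3,-3,1,1,-1,-1,1,-3],
    [1,1,-3,-1,1,-1,1,-1,-1,3,-1,1,3,-1,1,-1,-1,-3,-3,1,-1,-1,1,1],
    [1,1,1,-1,1,-1,1,-1,3,-1,-1,1,-1,-1,-3,-1,-1,1,-3,1,3,-1,1,-3],
    [-1,-1,-1,1,-1,1,-1,1,1,1,-3,-1,-3,-3,-1,1,1,-1,-1,3,-3,1,-1,-1],
    [-1,-1,-1,1,-1,-3,-1,1,-3,1,1,-1,1,-3,-1,1,1,3,-1,-1,1,-3,-1,-1],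
    [1,-3,1,-1,1,-1,1,-1,-1,-1,-1,1,3,-1,1,-1,-1,1,1,1,-1,3,-3,-3],
    [-1,-1,3,1,-1,1,3,1,1,1,-3,-1,1,1,3,1,1,-1,-1,-1,1,-3,-1,-1],
    [-1,-1,-1,1,-1,1,-1,1,1,-3,1,3,1,1,-1,1,-3,-1,-1,-1,-3,-3,-1,-1],
    [-1,-1,-1,1,-1,-3,-1,-3,1,1,1,-1,-3,1,3,1,-3,-1,-1,-1,1,1,-1,-1],
    [-1,-1,-1,1,3,1,-1,-3,1,1,1,-1,1,1,-1,1,1,-1,3,3,1,-3,-1,-1],
    [1,1,1,-1,1,-1,1,-1,-1,-1,-1,-3,-1,-1,-3,-1,-1,-3,1,-3,-1,-1,-3,1],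
    [-1,-1,-1,1,-1,1,-1,-3,-3,-3,-3,-1,1,1,-1,1,1,-1,-1,-1,1,1,3,-1],
    [-1,-1,3,1,3,-3,-1,1,1,1,1,-1,1,1,-1,1,1,-1,-1,-1,-3,1,3,-1],
    [1,-3,-3,-1,1,-1,1,-1,3,-1,-1,1,-1,-1,1,-1,3,1,1,-3,-1,-1,1,1],
    [-1,3,-1,1,-1,1,3,-3,1,1,1,-1,1,1,-1,1,1,3,-1,-1,-3,1,-1,-1],
    [1,1,1,-1,1,3,-3,-1,-1,3,-1,1,-1,-1,1,-1,-1,1,1,-3,-1,-1,1,-3],
    [1,1,-3,-1,1,-1,1,3,-1,-1,-1,-3,-1,3,1,-1,-1,1,1,1,-1,-1,1,-3],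
    [-1,3,-1,1,-1,-3,-1,1,1,1,-3,3,1,1,-1,1,1,-1,3,-1,1,1,-1,-1],
    [3,-1,-1,5,-1,1,-1,1,1,1,1,-1,1,1,-1,-3,1,-1,-1,-1,1,1,-1,-1]]]

/-- Tables. -/
def fiveRawB : List (List (List ℤ)) := [
  [[4,0,0,-2,0,-2,0,-2,-2,-2,-2,0,-2,-2,0,2,-2,0,0,0,-2,-2,0,0],
    [0,-4,0,2,0,2,0,-2,2,2,-2,0,2,-2,0,2,-2,0,0,0,2,-2,0,0],
    [0,0,0,2,0,-2,0,-2,2,-2,2,0,2,-2,0,2,2,0,-4,0,-2,2,0,0],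
    [0,0,0,-2,0,-2,0,-2,2,2,-2,0,2,2,0,-2,2,0,0,0,-2,-2,0,4],
    [0,0,0,2,0,-2,-4,2,-2,2,-2,0,2,2,0,2,-2,0,0,0,-2,2,0,0],
    [-2,2,2,0,-2,0,-2,-4,0,0,0,-2,0,0,2,0,0,-2,2,-2,0,0,2,-2],
    [0,0,-4,2,0,2,0,-2,-2,2,2,0,-2,2,0,2,2,0,0,0,-2,-2,0,0],
    [-2,-2,2,0,-2,0,2,0,0,0,0,2,0,0,-2,0,0,-2,2,2,-4,0,-2,-2],
    [0,0,0,-2,0,-2,0,2,-2,2,2,0,2,-2,0,2,2,-4,0,0,2,-2,0,0],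
    [0,0,0,-2,0,2,0,2,2,-2,2,-4,2,2,0,2,-2,0,0,0,-2,-2,0,0],
    [-2,-2,-2,0,2,-4,2,0,0,0,0,-2,0,0,2,0,0,2,2,-2,0,0,-2,-2],
    [2,2,-2,0,2,0,-2,0,4,0,0,2,0,0,2,0,0,-2,2,2,0,0,-2,-2],
    [0,0,0,-2,0,2,0,-2,-2,-2,-2,0,2,2,0,2,2,0,0,0,2,2,-4,0],
    [0,0,0,-2,0,-2,0,-2,2,2,2,0,-2,2,-4,2,-2,0,0,0,2,2,0,0],
    [2,-2,2,0,2,0,-2,0,0,0,0,-2,0,0,-2,0,4,2,2,2,0,0,2,-2],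
    [-2,2,2,0,2,0,2,0,0,0,0,2,0,0,2,4,0,2,2,2,0,0,2,2],
    [0,0,0,-2,0,2,0,2,2,2,-2,0,-2,-2,0,2,2,0,0,-4,-2,2,0,0],
    [2,2,2,0,-2,0,2,0,0,4,0,-2,0,0,2,0,0,2,-2,2,0,0,-2,-2],
    [0,0,0,2,-4,-2,0,2,2,-2,-2,0,-2,2,0,2,2,0,0,0,2,-2,0,0],
    [2,-2,2,0,2,0,2,0,0,0,0,2,0,4,2,0,0,-2,-2,-2,0,0,2,-2],
    [-2,2,-2,0,2,0,2,0,0,0,-4,-2,0,0,-2,0,0,-2,-2,2,0,0,2,-2],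
    [-2,2,2,0,2,0,-2,0,0,0,0,2,0,0,-2,0,0,2,-2,-2,0,-4,-2,-2],
    [2,2,-2,0,-2,0,2,0,0,0,0,2,4,0,-2,0,0,2,2,-2,0,0,2,-2],
    [-2,-2,-2,-4,-2,0,-2,0,0,0,0,2,0,0,2,0,0,2,-2,2,0,0,2,-2]],
  [[6,-2,0,-2,0,0,0,-2,-2,0,0,2,0,0,2,0,0,0,0,0,0,-2,0,0],
    [-2,6,0,-2,0,0,0,-2,-2,0,0,2,0,0,2,0,0,0,0,0,0,-2,0,0],
    [0,0,-2,0,2,-2,2,0,0,-2,-2,0,2,-2,0,-2,-2,-2,2,-2,2,0,-2,2],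
    [-2,-2,0,6,0,0,0,-2,-2,0,0,2,0,0,2,0,0,0,0,0,0,-2,0,0],
    [0,0,2,0,-2,2,2,0,0,-2,2,0,-2,2,0,-2,-2,-2,2,2,2,0,2,2],
    [0,0,2,0,2,2,-2,0,0,2,2,0,2,-2,0,2,-2,-2,-2,-2,2,0,2,2],
    [0,0,2,0,2,2,2,0,0,2,-2,0,-2,-2,0,2,2,-2,2,2,-2,0,-2,2],
    [0,0,2,0,-2,-2,2,0,0,2,2,0,-2,-2,0,-2,2,-2,-2,-2,2,0,-2,-2],
    [0,0,-2,0,-2,2,-2,0,0,2,2,0,2,-2,0,-2,2,2,2,2,2,0,-2,2],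
    [-2,-2,0,-2,0,0,0,-2,6,0,0,2,0,0,2,0,0,0,0,0,0,-2,0,0],
    [-2,-2,0,-2,0,0,0,6,-2,0,0,2,0,0,2,0,0,0,0,0,0,-2,0,0],
    [0,0,-2,0,-2,2,2,0,0,2,-2,0,-2,-2,0,-2,-2,2,-2,-2,-2,0,2,2],
    [0,0,-2,0,2,2,2,0,0,2,-2,0,2,2,0,-2,2,-2,-2,2,2,0,2,-2],
    [0,0,-2,0,-2,-2,2,0,0,2,2,0,2,2,0,2,2,-2,2,-2,-2,0,2,2],
    [0,0,2,0,-2,-2,-2,0,0,2,-2,0,2,-2,0,-2,-2,-2,2,2,-2,0,2,-2],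
    [0,0,-2,0,-2,2,-2,0,0,-2,-2,0,-2,-2,0,2,2,-2,2,-2,2,0,2,-2],
    [0,0,2,0,-2,2,-2,0,0,-2,-2,0,2,2,0,-2,2,-2,-2,-2,-2,0,-2,2],
    [2,2,0,2,0,0,0,2,2,0,0,6,0,0,-2,0,0,0,0,0,0,2,0,0],
    [0,0,2,0,2,2,2,0,0,-2,2,0,2,-2,0,-2,2,2,2,-2,-2,0,2,-2],
    [2,2,0,2,0,0,0,2,2,0,0,-2,0,0,-2,0,0,0,0,0,0,-6,0,0],
    [0,0,2,0,-2,2,2,0,0,2,-2,0,2,2,0,2,-2,2,2,-2,2,0,-2,-2],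
    [-2,-2,0,-2,0,0,0,-2,-2,0,0,2,0,0,-6,0,0,0,0,0,0,-2,0,0],
    [0,0,2,0,-2,-2,2,0,0,-2,-2,0,2,-2,0,2,2,2,-2,2,2,0,2,2],
    [0,0,2,0,2,-2,-2,0,0,2,-2,0,-2,2,0,-2,2,2,2,-2,2,0,2,2]]]

/-- Tables. -/
def sevenRaw : List (List (List ℤ)) := [
  [[0,0,0,0,4,2,2,0,-4,0,0,0,0,-2,0,-2,0,2,0,-2,2,0,-2,0],
    [2,2,-2,-2,-2,0,0,2,-2,2,-2,-2,-2,0,-2,0,2,0,2,0,0,-2,0,-2],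
    [0,0,0,0,0,2,-2,0,0,0,-4,4,0,2,0,-2,0,2,0,2,-2,0,-2,0],
    [2,2,2,-2,2,0,0,2,2,2,2,2,2,0,2,0,2,0,2,0,0,2,0,-2],
    [2,-2,2,-2,2,0,0,-2,2,2,-2,-2,-2,0,-2,0,-2,0,-2,0,0,2,0,-2],
    [0,0,0,4,0,2,2,0,0,0,0,0,0,2,0,2,0,2,0,2,2,0,2,-4],
    [0,4,0,0,0,-2,2,0,0,0,0,0,0,-2,0,-2,-4,2,0,2,-2,0,2,0],
    [0,4,0,0,0,2,-2,0,0,0,0,0,0,2,0,2,-4,-2,0,-2,2,0,-2,0],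
    [0,0,0,0,0,2,-2,-4,0,0,0,0,0,-2,0,2,0,2,4,-2,-2,0,2,0],
    [2,-2,-2,-2,-2,0,0,-2,-2,2,2,2,2,0,2,0,-2,0,-2,0,0,-2,0,-2],
    [-4,0,0,0,0,2,2,0,0,4,0,0,0,-2,0,2,0,-2,0,2,-2,0,-2,0],
    [-2,2,2,-2,-2,0,0,-2,-2,-2,2,2,-2,0,-2,0,2,0,-2,0,0,2,0,-2],
    [-2,2,-2,-2,2,0,0,-2,2,-2,-2,-2,2,0,2,0,2,0,-2,0,0,-2,0,-2],
    [0,0,0,0,4,-2,-2,0,-4,0,0,0,0,2,0,2,0,-2,0,2,-2,0,2,0],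
    [0,0,-4,0,0,2,2,0,0,0,0,0,0,2,0,-2,0,-2,0,-2,-2,4,2,0],
    [0,0,-4,0,0,-2,-2,0,0,0,0,0,0,-2,0,2,0,2,0,2,2,4,-2,0],
    [0,0,0,0,0,2,-2,0,0,0,0,0,4,-2,-4,-2,0,-2,0,2,2,0,2,0],
    [0,0,0,0,0,-2,2,0,0,0,0,0,4,2,-4,2,0,2,0,-2,-2,0,-2,0],
    [-2,-2,-2,-2,2,0,0,2,2,-2,2,2,-2,0,-2,0,-2,0,2,0,0,-2,0,-2],
    [0,0,0,0,0,-2,2,-4,0,0,0,0,0,2,0,-2,0,-2,4,2,2,0,-2,0],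
    [0,0,0,0,0,-2,2,0,0,0,-4,4,0,-2,0,2,0,-2,0,-2,2,0,2,0],
    [-2,-2,2,-2,-2,0,0,2,-2,-2,-2,-2,2,0,2,0,-2,0,2,0,0,2,0,-2],
    [-4,0,0,0,0,-2,-2,0,0,4,0,0,0,2,0,-2,0,2,0,-2,2,0,2,0],
    [0,0,0,4,0,-2,-2,0,0,0,0,0,0,-2,0,-2,0,-2,0,-2,-2,0,-2,-4]],
  [[0,0,4,0,0,-2,-2,0,0,0,0,0,0,-2,0,2,0,2,0,2,2,4,-2,0],
    [0,0,0,0,0,-2,2,0,0,0,0,0,-4,2,-4,2,0,2,0,-2,-2,0,-2,0],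
    [0,0,0,0,4,-2,-2,0,4,0,0,0,0,2,0,2,0,-2,0,2,-2,0,2,0],
    [0,0,0,-4,0,2,2,0,0,0,0,0,0,2,0,2,0,2,0,2,2,0,2,-4],
    [-4,0,0,0,0,-2,-2,0,0,-4,0,0,0,2,0,-2,0,2,0,-2,2,0,2,0],
    [2,-2,2,2,-2,0,0,2,2,-2,2,-2,-2,0,2,0,2,0,-2,0,0,-2,0,-2],
    [2,2,2,2,-2,0,0,-2,2,-2,-2,2,2,0,-2,0,-2,0,2,0,0,-2,0,-2],
    [0,0,0,0,0,-2,2,4,0,0,0,0,0,2,0,-2,0,-2,4,2,2,0,-2,0],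
    [4,0,0,0,0,-2,-2,0,0,4,0,0,0,2,0,-2,0,2,0,-2,2,0,2,0],
    [0,0,-4,0,0,-2,-2,0,0,0,0,0,0,-2,0,2,0,2,0,2,2,-4,-2,0],
    [0,4,0,0,0,-2,2,0,0,0,0,0,0,-2,0,-2,4,2,0,2,-2,0,2,0],
    [0,-4,0,0,0,-2,2,0,0,0,0,0,0,-2,0,-2,-4,2,0,2,-2,0,2,0],
    [0,0,0,0,0,-2,2,0,0,0,-4,-4,0,-2,0,2,0,-2,0,-2,2,0,2,0],
    [-2,-2,-2,2,-2,0,0,-2,2,2,-2,2,-2,0,2,0,2,0,2,0,0,2,0,-2],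
    [0,0,0,0,0,-2,2,0,0,0,4,4,0,-2,0,2,0,-2,0,-2,2,0,2,0],
    [-2,2,2,2,2,0,0,2,-2,2,-2,2,-2,0,2,0,-2,0,-2,0,0,-2,0,-2],
    [0,0,0,0,0,-2,2,0,0,0,0,0,4,2,4,2,0,2,0,-2,-2,0,-2,0],
    [2,-2,-2,2,2,0,0,2,-2,-2,-2,2,2,0,-2,0,2,0,-2,0,0,2,0,-2],
    [0,0,0,0,0,-2,2,-4,0,0,0,0,0,2,0,-2,0,-2,-4,2,2,0,-2,0],
    [-2,-2,2,2,2,0,0,-2,-2,2,2,-2,2,0,-2,0,2,0,2,0,0,-2,0,-2],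
    [2,2,-2,2,2,0,0,-2,-2,-2,2,-2,-2,0,2,0,-2,0,2,0,0,2,0,-2],
    [0,0,0,0,-4,-2,-2,0,-4,0,0,0,0,2,0,2,0,-2,0,2,-2,0,2,0],
    [-2,2,-2,2,-2,0,0,2,2,2,2,-2,2,0,-2,0,-2,0,-2,0,0,2,0,-2],
    [0,0,0,4,0,2,2,0,0,0,0,0,0,2,0,2,0,2,0,2,2,0,2,4]]]

end Cfsg.Agent.Co1Mult96
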