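import Cfsg.Agent.Co1Mult96.Two
import Cfsg.Agent.Co1Mult96.Data
import Cfsg.Prelude.Def_KGroupFacts

/-!
The Schur multiplier of the largest Conway group has order two: Co0 is a stem extension.
-/

set_option autoImplicit false

namespace Cfsg.Agent.Co1Mult96

open Cfsg Cfsg.Agent.Leech Cfsg.Agent.SporStruct Subgroup
open Cfsg.Agent.Golay (pt idx idx_lt pt_idx toSet inCode popc Tab permOf tab_permOf isPermTab checkAut)
open scoped commutatorElement Pointwise

theorem swap_facts : isPermTab swapTab = true ∧ checkAut swapTab = true ∧ inCode 340831 = true ∧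
    ∀ p : GolayPt, (p ∈ toSet 340831) = ¬ (pt (swapTab.getD (idx p) 0) ∈ toSet 340831) := by
  simp only [eq_iff_iff]
  decide +kernel

/-- Negation is the commutator of a sign change and a permutation exchanging the two dodecads. -/
theorem negOne_mem_commutator : negOne ∈ _root_.commutator Co0 := by
  obtain ⟨hp, hA, hD, hO⟩ := swap_facts
  set g := permOf swapTab hp with hg
  have happ : ∀ p, g p = pt (swapTab.getD (idx p) 0) := fun p => by
    rw [← tab_permOf hp (idx p) (idx_lt p), pt_idx, pt_idx]
  set D := toSet 340831 with hDdef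
  have hDc : D ∈ code := OutCo1.toSet_mem_code hD
  have hgm : g ∈ Cfsg.M24 := (tab_permOf hp).mem_M24 hA
  have hgD : g • D = Finset.univ \ D := by
    ext p
    rw [M24.mem_smul_iff, hO, ← happ, Equiv.Perm.coe_inv, Equiv.apply_symm_apply]
    simp
  have hu : symmDiff D (g • D) = Finset.univ := by
    rw [hgD]
    ext p
    simp only [Finset.mem_symmDiff, Finset.mem_sdiff, Finset.mem_univ, true_and, iff_true]
    tauto
  have hinv : (sign D)⁻¹ = sign D := by
    refine inv_eq_of_mul_eq_one_right ?_
    rw [sign_mul hDc hDc, symmDiff_self, Finset.bot_eq_empty, sign_eq empty_mem_code]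
    refine ext_frame fun i => Subtype.ext ?_
    rw [coe_mono_smul, one_smul]
    exact signedPerm_one_empty _
  have he : ⁅sign D, permHom ⟨g, hgm⟩⁆ = negOne := by
    rw [commutatorElement_def, hinv, mul_assoc, mul_assoc, ← mul_assoc (permHom _),
      permHom_sign _ hDc, sign_mul hDc (OutCo1.smul_mem_code ⟨g, hgm⟩ hDc)]
    simp only [hu]
    exact sign_eq univ_mem_code
  rw [← he]
  exact commutator_mem_commutator (mem_top _) (mem_top _)

theorem hasCyclicSchurMultiplier_Co1 : HasCyclicSchurMultiplier Spor.Co1 2 := by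
  haveI : Fact (Nat.Prime 2) := ⟨Nat.prime_two⟩
  have h2 : Nat.card (Multiplicative (ZMod 2)) = 2 :=
    (Nat.card_congr Multiplicative.toAdd).trans (Nat.card_zmod 2)
  refine ⟨⟨Co0, inferInstance, finite_Co0 codeUnique, mk, ⟨QuotientGroup.mk'_surjective _, ?_, ?_⟩, ?_⟩,
    fun Γ _ _ σ hσ => ?_⟩
  · rw [QuotientGroup.ker_mk']
  · intro x hx
    rw [QuotientGroup.ker_mk'] at hx
    rcases center_eq_or x hx with rfl | rfl
    · exact one_mem _
    · exact negOne_mem_commutator
  · refine ⟨mulEquivOfPrimeCardEq (p := 2) ?_ h2⟩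
    rw [QuotientGroup.ker_mk']
    exact card_center
  · have hle := card_ker_le_two σ hσ
    have hpos : 0 < Nat.card σ.ker := Nat.card_pos
    rcases Nat.lt_or_ge (Nat.card σ.ker) 2 with h | h
    · refine ⟨1, fun y => ⟨1, ?_⟩⟩
      haveI := (Nat.card_eq_one_iff_unique.1 (show Nat.card σ.ker = 1 by omega)).1
      exact Subsingleton.elim _ _
    · exact ⟨(mulEquivOfPrimeCardEq (p := 2) h2 (show Nat.card σ.ker = 2 by omega)).toMonoidHom,
        MulEquiv.surjective _⟩

end Cfsg.Agent.Co1Mult96
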