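import Cfsg.Agent.Co1Mult96.Tools
import Cfsg.Agent.Co1Mult96.Checks
import Cfsg.Agent.Mult93.L34.Multiplier
import Cfsg.Agent.SporStruct.OutCo1Mono
import Cfsg.Agent.Lib.Leech.Simplicity
import Cfsg.Prelude.Def_Spor_Conway

/-!
The odd part of the kernel of a stem extension of the largest Conway group is trivial.
-/

set_option autoImplicit false

namespace Cfsg.Agent.Co1Mult96

open Cfsg Cfsg.Agent.Leech Cfsg.Agent.SporStruct Cfsg.Agent.SporStruct.CoMatrix Subgroup
open scoped commutatorElement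

/-- The projection. -/
noncomputable abbrev mk : Co0 →* Spor.Co1 := QuotientGroup.mk' _

theorem mk_eq_one {g : Co0} : mk g = 1 ↔ g = 1 ∨ g = negOne := by
  constructor
  · exact fun h => center_eq_or g ((QuotientGroup.eq_one_iff g).1 h)
  · rintro (rfl | rfl)
    · exact map_one _
    · exact (QuotientGroup.eq_one_iff _).2 negOne_mem_center

theorem card_Co1 : Nat.card Spor.Co1 = 4157776806543360000 := isCo1_quot.2

theorem finite_Co1 : Finite Spor.Co1 := Nat.finite_of_card_ne_zero (by rw [card_Co1]; norm_num)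

theorem card_map_mk {H : Subgroup Co0} (h : Odd (Nat.card H)) : Nat.card (H.map mk) = Nat.card H := by
  haveI : Finite Co0 := finite_Co0 codeUnique
  refine Subgroup.card_map_of_injective' ?_
  rw [← MonoidHom.ker_eq_bot_iff, eq_bot_iff]
  rintro ⟨x, hx⟩ hk
  rw [Subgroup.mem_bot]
  rcases mk_eq_one.1 (MonoidHom.mem_ker.1 hk) with e | e
  · exact Subtype.ext e
  · exfalso
    have h2 : orderOf (⟨x, hx⟩ : H) = 2 := by
      rw [← Subgroup.orderOf_coe]
      show orderOf x = 2
      rw [show x = negOne from e]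
      exact orderOf_eq_prime (by rw [sq]; exact negOne_sq) negOne_ne_one
    exact Nat.not_even_iff_odd.2 h (even_iff_two_dvd.2 (h2 ▸ orderOf_dvd_natCard _))
where
  Subgroup.card_map_of_injective' {H : Subgroup Co0}
      (hi : Function.Injective (mk.comp H.subtype)) : Nat.card (H.map mk) = Nat.card H := by
    rw [show H.map mk = (mk.comp H.subtype).range by rw [MonoidHom.range_comp, Subgroup.range_subtype]]
    exact (Nat.card_congr (MonoidHom.ofInjective hi).toEquiv).symm

/-- The image of an entry of a list. -/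
noncomputable def img (L : List Co0) (i : ℕ) : Spor.Co1 := mk (L.getD i 1)

theorem img_word (L : List Co0) : ∀ u : List ℕ, mk (word L u) = (u.map (img L)).prod
  | [] => map_one _
  | i :: u => by
    rw [show word L (i :: u) = L.getD i 1 * word L u from List.prod_cons, map_mul, img_word L u,
      List.map_cons, List.prod_cons]
    rfl

theorem rel {T : List (List (List ℤ))} {E : List (List ℕ × List ℕ)} (h : eqsOK T E = true)
    {L : List Co0} (hL : L.map rows = T) (u v : List ℕ) (huv : (u, v) ∈ E) :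
    (u.map (img L)).prod = (v.map (img L)).prod := by
  rw [← img_word, ← img_word, word_eq h hL huv]

theorem conj_mem_of_eq {G : Type*} [Group G] (f : ℕ → G) (S : Subgroup G) {g i : ℕ} {w : List ℕ}
    (hw : ∀ k ∈ w, f k ∈ S) (h : ([g, i].map f).prod = ((w ++ [g]).map f).prod) :
    f g * f i * (f g)⁻¹ ∈ S := by
  simp only [List.map_cons, List.map_nil, List.prod_cons, List.prod_nil, mul_one,
    List.map_append, List.prod_append] at h
  rw [h, mul_inv_cancel_right]
  exact list_prod_mem fun x hx => by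
    obtain ⟨k, hk, rfl⟩ := List.mem_map.1 hx
    exact hw k hk

/-- The independent generators in Co0. -/
theorem card_closure_gens {T : List (List (List ℤ))} {E : List (List ℕ × List ℕ)}
    {V : List (List ℤ)} (hE : eqsOK T E = true) {L : List Co0} (hL : L.map rows = T) {n ℓ : ℕ}
    (hℓ : ℓ.Prime) (hV : vecOK T V n = true)
    (hpow : ∀ i : Fin n, (List.replicate ℓ i.val, []) ∈ E)
    (hcm : ∀ i k : Fin n, i < k → ([i.val, k.val], [k.val, i.val]) ∈ E) :
    Nat.card (closure (Set.range fun i : Fin n => L.getD i.val 1)) = ℓ ^ n := by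
  haveI : Finite Co0 := finite_Co0 codeUnique
  choose w hw1 hw2 using exists_vec hV hL
  refine card_closure_range hℓ n _ w (fun i => ?_) (fun i k => ?_) (fun i k hki => hw1 i k hki) hw2
  · have := word_eq hE hL (hpow i)
    simpa [word] using this
  · have key : ∀ i k : Fin n, i < k → Commute (L.getD i.val 1) (L.getD k.val 1) := fun i k hik => by
      have := word_eq hE hL (hcm i k hik)
      simpa [word, Commute, SemiconjBy] using this
    rcases lt_trichotomy i k with h | rfl | h
    · exact key i k h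
    · exact Commute.refl _
    · exact (key k i h).symm

theorem not_dvd_of_inf_eq_bot {Γ : Type} [Group Γ] [Finite Γ] (σ : Γ →* Spor.Co1)
    (hσ : Cfsg.IsStemExtension σ) {ℓ : ℕ} (hℓ : ℓ.Prime) {e c : ℕ} (S : Subgroup Spor.Co1)
    (hS : ℓ ^ e ∣ Nat.card S) (hc : Nat.card Spor.Co1 = ℓ ^ e * c) (hco : ¬ ℓ ∣ c)
    (h : σ.ker ⊓ ⁅S.comap σ, S.comap σ⁆ = ⊥) : ¬ ℓ ∣ Nat.card σ.ker := by
  haveI := Fact.mk hℓ
  haveI := finite_Co1
  intro hd
  refine Cfsg.Agent.Mult93.card_ker_dvd σ hσ ℓ S ?_ 0 ?_ (by rwa [zero_add, pow_one])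
  · intro hi
    have h1 := Subgroup.card_mul_index S
    have : ℓ ^ e * ℓ ∣ ℓ ^ e * c := by
      rw [← hc, ← h1]; exact mul_dvd_mul hS hi
    exact hco (Nat.dvd_of_mul_dvd_mul_left (pow_pos hℓ.pos e) this)
  · rw [h, Subgroup.card_bot, zero_add, pow_one]
    exact hℓ.one_lt

section Primes

variable {Γ : Type} [Group Γ] [Finite Γ] (σ : Γ →* Spor.Co1) (hσ : Cfsg.IsStemExtension σ)
include hσ

theorem not_dvd_seven : ¬ 7 ∣ Nat.card σ.ker := by
  obtain ⟨hσs, hc, -⟩ := id hσ
  obtain ⟨L, hL⟩ := exists_seven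
  have R := rel seven_eqsOK hL
  have r0 := R [0, 0, 0, 0, 0, 0, 0] [] (by decide)
  have r01 := R [0, 1] [1, 0] (by decide)
  have g0 := R [2, 0] [0, 0, 2] (by decide)
  have g1 := R [2, 1] [1, 1, 2] (by decide)
  simp only [List.map_cons, List.map_nil, List.prod_cons, List.prod_nil, mul_one] at r0 r01 g0 g1
  set a : Fin 2 → Spor.Co1 := fun i => img L i.val
  obtain ⟨x, hx⟩ := hσs (img L 0)
  obtain ⟨y, hy⟩ := hσs (img L 1)
  obtain ⟨g, hg⟩ := hσs (img L 2)
  have hxy : ⁅x, y⁆ = 1 := by
    refine comm_of_scaling σ hc (m := 2) (n := 2) (g := g) (by norm_num : Nat.Prime 7)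
      (by rw [hx, hy]; exact r01) ?_ ?_ ?_ (by norm_num)
    · rw [hx]; simp only [pow_succ, pow_zero, one_mul, mul_assoc]; exact r0
    · rw [hg, hx, sq, mul_assoc]; exact g0
    · rw [hg, hy, sq, mul_assoc]; exact g1
  have hT : ∀ u v : Γ, σ u ∈ Set.range a → σ v ∈ Set.range a → ⁅u, v⁆ = 1 := by
    rintro u v ⟨i, hi⟩ ⟨k, hk⟩
    fin_cases i <;> fin_cases k <;> simp only [a] at hi hk
    · rw [Golay.Mult.comm_congr σ hc (x' := u) (y' := u) rfl (hk.symm.trans hi), commutatorElement_self]
    · rw [Golay.Mult.comm_congr σ hc (x' := x) (y' := y) (hi.symm.trans hx.symm) (hk.symm.trans hy.symm), hxy]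
    · rw [← commutatorElement_inv,
        Golay.Mult.comm_congr σ hc (x' := x) (y' := y) (hk.symm.trans hx.symm) (hi.symm.trans hy.symm), hxy,
        inv_one]
    · rw [Golay.Mult.comm_congr σ hc (x' := u) (y' := u) rfl (hk.symm.trans hi), commutatorElement_self]
  have hcard := card_closure_gens seven_eqsOK hL (by norm_num : Nat.Prime 7) seven_vecOK
    (by decide) (by decide)
  refine not_dvd_of_inf_eq_bot σ hσ (ℓ := 7) (e := 2) (c := 84852587888640000) (by norm_num)
    (closure (Set.range a)) ?_ (by rw [card_Co1]; norm_num) (by norm_num)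
    (Golay.Mult.inf_commutator_eq_bot_of_gens σ hσs hc _ hT)
  have : closure (Set.range a) = (closure (Set.range fun i : Fin 2 => L.getD i.val 1)).map mk := by
    rw [MonoidHom.map_closure, ← Set.range_comp]; rfl
  rw [this, card_map_mk (by rw [hcard]; decide), hcard]

theorem not_dvd_five : ¬ 5 ∣ Nat.card σ.ker := by
  obtain ⟨hσs, hc, -⟩ := id hσ
  haveI := finite_Co1
  haveI : Finite Co0 := finite_Co0 codeUnique
  obtain ⟨L, hL⟩ := exists_five
  have R := rel five_eqsOK hL
  set a : Fin 3 → Spor.Co1 := fun i => img L i.val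
  have hp : ∀ i : Fin 3, a i ^ 5 = 1 := fun i => by
    have := R (List.replicate 5 i.val) [] (by revert i; decide)
    simpa [a, List.map_replicate, List.prod_replicate, pow_succ, mul_assoc] using this
  have hcm : ∀ i k : Fin 3, i < k → Commute (a i) (a k) := fun i k h => by
    have := R [i.val, k.val] [k.val, i.val] (by revert i k; decide)
    simpa [a, Commute, SemiconjBy] using this
  have hjt : ∀ i : Fin 3, img L 3 * a i = a i * a i * img L 3 := fun i => by
    have := R [3, i.val] [i.val, i.val, 3] (by revert i; decide)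
    simpa [a, mul_assoc] using this
  obtain ⟨j, hj⟩ := hσs (img L 3)
  obtain ⟨c, hc4⟩ := hσs (img L 4)
  set T := Set.range a with hTdef
  have hT : ∀ u v : Γ, σ u ∈ T → σ v ∈ T → ⁅u, v⁆ = 1 := by
    have key : ∀ i k : Fin 3, i < k → ∀ u v : Γ, σ u = a i → σ v = a k → ⁅u, v⁆ = 1 := by
      intro i k hik u v hu hv
      refine comm_of_scaling σ hc (m := 2) (n := 2) (g := j) (by norm_num : Nat.Prime 5)
        (by rw [hu, hv]; exact hcm i k hik) (by rw [hu, hp]) ?_ ?_ (by norm_num)
      · rw [hj, hu, sq]; exact hjt i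
      · rw [hj, hv, sq]; exact hjt k
    rintro u v ⟨i, hi⟩ ⟨k, hk⟩
    rcases lt_trichotomy i k with h | rfl | h
    · exact key i k h u v hi.symm hk.symm
    · rw [Golay.Mult.comm_congr σ hc (x' := u) (y' := u) rfl (hk.symm.trans hi), commutatorElement_self]
    · rw [← commutatorElement_inv, key k i h v u hk.symm hi.symm, inv_one]
  have hjT : ∀ t ∈ T, σ j * t = t * t * σ j := by
    rintro _ ⟨i, rfl⟩
    rw [hj]; exact hjt i
  have hcn : ∀ t ∈ T, σ c * t * (σ c)⁻¹ ∈ closure T := by
    rintro _ ⟨i, rfl⟩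
    rw [hc4]
    refine conj_mem_of_eq (img L) _ (w := fiveConj.getD i.val []) (fun k hk => ?_) (R _ _ ?_)
    · have : k < 3 := by revert k i; decide
      exact subset_closure ⟨⟨k, this⟩, rfl⟩
    · revert i; decide
  have hcj : Commute c j := by
    refine commute_of_coprime σ hc (k := 5) (l := 4) ?_ ?_ ?_ (by norm_num)
    · have := R [3, 4] [4, 3] (by decide)
      rw [hc4, hj]
      simpa [Commute, SemiconjBy, eq_comm] using this
    · have := R [4, 4, 4, 4, 4] [] (by decide)
      rw [hc4]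
      simpa [pow_succ, mul_assoc] using this
    · have := R [3, 3, 3, 3] [] (by decide)
      rw [hj]
      simpa [pow_succ, mul_assoc] using this
  -- the group of order 625
  have hcard3 := card_closure_gens five_eqsOK hL (by norm_num : Nat.Prime 5) five_vecOK
    (by decide) (by decide)
  set H := closure (Set.range fun i : Fin 3 => L.getD i.val 1) with hH
  have hmap : H.map mk = closure T := by rw [hH, MonoidHom.map_closure, ← Set.range_comp]; rfl
  have hc5 : img L 4 ∉ closure T := by
    intro hmem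
    rw [← hc4] at hmem
    obtain ⟨b, hb, hbc⟩ := exists_lift σ hσs hc T hT j hjT hmem
    have h1 := conj_square σ hσs hc T hT j hjT hmem
    rw [← map_inv, ← map_mul, ← map_mul, ← hcj.eq, mul_inv_cancel_right] at h1
    have h2 : img L 4 = 1 := hc4 ▸ left_eq_mul.1 h1
    have : L.getD 4 1 = 1 ∨ L.getD 4 1 = negOne := mk_eq_one.1 h2
    have h55 := word_eq five_eqsOK hL (show ([4, 4, 4, 4, 4], []) ∈ fiveEqs by decide)
    rcases this with e | e
    · have := congrArg rows e
      rw [rows_getD_tabs hL, rows_one] at this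
      exact absurd this (by decide +kernel)
    · simp only [word, List.map_cons, List.map_nil, List.prod_cons, List.prod_nil, mul_one, e,
        negOne_sq] at h55
      exact negOne_ne_one h55
  have hS : Nat.card (closure (insert (img L 4) T)) = 5 ^ 4 := by
    refine card_closure_insert (by norm_num : Nat.Prime 5) ?_ (hc4 ▸ hcn) hc5 ?_
    · have := R [4, 4, 4, 4, 4] [] (by decide)
      simpa [pow_succ, mul_assoc] using this
    · rw [← hmap, card_map_mk (by rw [hcard3]; decide), hcard3]
  refine not_dvd_of_inf_eq_bot σ hσ (ℓ := 5) (e := 4) (c := 6652442890469376) (by norm_num)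
    _ hS.symm.dvd (by rw [card_Co1]; norm_num) (by norm_num) ?_
  set B := splitSub σ T j
  set A : Set Γ := {b | b ∈ B ∧ σ b ∈ T} ∪ {c}
  have hA : σ '' A = insert (img L 4) T := by
    rw [Set.image_union, Set.image_singleton, hc4, Set.union_singleton]
    congr 1
    ext t
    constructor
    · rintro ⟨b, hb, rfl⟩; exact hb.2
    · intro ht
      obtain ⟨b, hb, rfl⟩ := exists_lift σ hσs hc T hT j hjT (subset_closure ht)
      exact ⟨b, ⟨hb, ht⟩, rfl⟩
  rw [← hA, eq_bot_iff]
  refine (inf_le_inf_left _ (Cfsg.Agent.Mult93.commutator_comap_le σ hc A B ?_ ?_)).trans ?_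
  · rintro t (ht | rfl) x hx
    · have e := splitSub_commute σ T j ht.1 hx
      exact ⟨by rwa [e.eq, mul_inv_cancel_right], by rwa [mul_assoc, ← e.eq, inv_mul_cancel_left]⟩
    · exact conj_mem_splitSub σ hσs hc T hT j hcj hcn hx
  · rintro s (hs | rfl) t (ht | rfl)
    · rw [commutatorElement_eq_one_iff_commute.2 (splitSub_commute σ T j hs.1 ht.1)]; exact one_mem _
    · rw [← commutatorElement_inv]
      exact inv_mem (mul_mem (conj_mem_splitSub σ hσs hc T hT j hcj hcn hs.1).1 (inv_mem hs.1))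
    · exact mul_mem (conj_mem_splitSub σ hσs hc T hT j hcj hcn ht.1).1 (inv_mem ht.1)
    · rw [commutatorElement_self]; exact one_mem _
  · rintro x ⟨hx, hxB⟩
    exact Subgroup.mem_bot.2 (eq_one_of_mem_splitSub σ hc T j hxB hx)

theorem not_dvd_three : ¬ 3 ∣ Nat.card σ.ker := by
  obtain ⟨hσs, hc, -⟩ := id hσ
  haveI := finite_Co1
  haveI : Finite Co0 := finite_Co0 codeUnique
  obtain ⟨L, hL⟩ := exists_three
  have R := rel three_eqsOK hL
  set a : Fin 6 → Spor.Co1 := fun i => img L i.val with ha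
  have hp : ∀ i : Fin 6, a i ^ 3 = 1 := fun i => by
    have := R (List.replicate 3 i.val) [] (by revert i; decide +kernel)
    simpa [a, List.map_replicate, List.prod_replicate, pow_succ, mul_assoc] using this
  have hcm : ∀ i k : Fin 6, i < k → Commute (a i) (a k) := fun i k h => by
    have := R [i.val, k.val] [k.val, i.val] (by revert i k; decide +kernel)
    simpa [a, Commute, SemiconjBy] using this
  have hjt : ∀ i : Fin 6, img L 6 * a i = a i * a i * img L 6 := fun i => by
    have := R [6, i.val] [i.val, i.val, 6] (by revert i; decide +kernel)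
    simpa [a, mul_assoc] using this
  obtain ⟨j, hj⟩ := hσs (img L 6)
  obtain ⟨x, hx⟩ := hσs (img L 7)
  obtain ⟨y, hy⟩ := hσs (img L 8)
  set T := Set.range a with hTdef
  have hT : ∀ u v : Γ, σ u ∈ T → σ v ∈ T → ⁅u, v⁆ = 1 := by
    have key : ∀ i k : Fin 6, i < k → ∀ u v : Γ, σ u = a i → σ v = a k → ⁅u, v⁆ = 1 := by
      have hw : ∀ i k : Fin 6, i < k → ∃ t < 15, ∃ m < 3, ∃ n < 3, (m * n) % 3 ≠ 1 ∧
          ([12 + t, i.val], List.replicate m i.val ++ [12 + t]) ∈ threeEqs ∧
          ([12 + t, k.val], List.replicate n k.val ++ [12 + t]) ∈ threeEqs := by decide +kernel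
      intro i k hik u v hu hv
      obtain ⟨t, -, m, -, n, -, hmn, h1, h2⟩ := hw i k hik
      obtain ⟨g, hg⟩ := hσs (img L (12 + t))
      refine comm_of_scaling σ hc (m := m) (n := n) (g := g) (by norm_num : Nat.Prime 3)
        (by rw [hu, hv]; exact hcm i k hik) (by rw [hu, hp]) ?_ ?_ hmn
      · rw [hg, hu]; simpa [a, List.map_replicate, List.prod_replicate] using R _ _ h1
      · rw [hg, hv]; simpa [a, List.map_replicate, List.prod_replicate] using R _ _ h2
    rintro u v ⟨i, hi⟩ ⟨k, hk⟩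
    rcases lt_trichotomy i k with h | rfl | h
    · exact key i k h u v hi.symm hk.symm
    · rw [Golay.Mult.comm_congr σ hc (x' := u) (y' := u) rfl (hk.symm.trans hi), commutatorElement_self]
    · rw [← commutatorElement_inv, key k i h v u hk.symm hi.symm, inv_one]
  have hjT : ∀ t ∈ T, σ j * t = t * t * σ j := by
    rintro _ ⟨i, rfl⟩
    rw [hj]; exact hjt i
  have hxn : ∀ t ∈ T, σ x * t * (σ x)⁻¹ ∈ closure T := by
    rintro _ ⟨i, rfl⟩
    rw [hx]
    refine conj_mem_of_eq (img L) _ (w := (threeConj.getD 0 []).getD i.val []) (fun k hk => ?_) (R _ _ ?_)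
    · have : k < 6 := (show ∀ i : Fin 6, ∀ k ∈ (threeConj.getD 0 []).getD i.val [], k < 6 by decide +kernel) i k hk
      exact subset_closure ⟨⟨k, this⟩, rfl⟩
    · revert i; decide +kernel
  have hyn : ∀ t ∈ T, σ y * t * (σ y)⁻¹ ∈ closure T := by
    rintro _ ⟨i, rfl⟩
    rw [hy]
    refine conj_mem_of_eq (img L) _ (w := (threeConj.getD 1 []).getD i.val []) (fun k hk => ?_) (R _ _ ?_)
    · have : k < 6 := (show ∀ i : Fin 6, ∀ k ∈ (threeConj.getD 1 []).getD i.val [], k < 6 by decide +kernel) i k hk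
      exact subset_closure ⟨⟨k, this⟩, rfl⟩
    · revert i; decide +kernel
  have hj2 : σ j ^ 2 = 1 := by
    rw [hj]; simpa [pow_succ] using R [6, 6] [] (by decide +kernel)
  have hx3 : σ x ^ 3 = 1 := by
    rw [hx]; simpa [pow_succ, mul_assoc] using R [7, 7, 7] [] (by decide +kernel)
  have hy3 : σ y ^ 3 = 1 := by
    rw [hy]; simpa [pow_succ, mul_assoc] using R [8, 8, 8] [] (by decide +kernel)
  have hxj : Commute x j := commute_of_coprime σ hc (k := 3) (l := 2)
    (by rw [hx, hj]; simpa [Commute, SemiconjBy, eq_comm] using R [6, 7] [7, 6] (by decide +kernel))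
    hx3 hj2 (by norm_num)
  have hyj : Commute y j := commute_of_coprime σ hc (k := 3) (l := 2)
    (by rw [hy, hj]; simpa [Commute, SemiconjBy, eq_comm] using R [6, 8] [8, 6] (by decide +kernel))
    hy3 hj2 (by norm_num)
  set z := ⁅x, y⁆ with hzdef
  have hσz : σ z = img L 9 := by
    have h := R [9, 8, 7] [7, 8] (by decide +kernel)
    simp only [List.map_cons, List.map_nil, List.prod_cons, List.prod_nil, mul_one] at h
    rw [hzdef, map_commutatorElement, hx, hy, commutatorElement_def, ← h]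
    group
  have hzx' : Commute (img L 9) (img L 7) := by
    simpa [Commute, SemiconjBy] using R [9, 7] [7, 9] (by decide +kernel)
  have hzy' : Commute (img L 9) (img L 8) := by
    simpa [Commute, SemiconjBy] using R [9, 8] [8, 9] (by decide +kernel)
  have hz3 : img L 9 ^ 3 = 1 := by
    simpa [pow_succ, mul_assoc] using R [9, 9, 9] [] (by decide +kernel)
  have hzx : Commute z x := by
    obtain ⟨t, ht⟩ := hσs (img L 10)
    rw [← commutatorElement_eq_one_iff_commute]
    refine comm_of_scaling σ hc (m := 1) (n := 2) (g := t) (by norm_num : Nat.Prime 3)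
      (by rw [hσz, hx]; exact hzx') (by rw [hσz]; exact hz3) ?_ ?_ (by norm_num)
    · rw [ht, hσz, pow_one]; simpa using R [10, 9] [9, 10] (by decide +kernel)
    · rw [ht, hx, sq, mul_assoc]; simpa using R [10, 7] [7, 7, 10] (by decide +kernel)
  have hzy : Commute z y := by
    obtain ⟨t, ht⟩ := hσs (img L 11)
    rw [← commutatorElement_eq_one_iff_commute]
    refine comm_of_scaling σ hc (m := 1) (n := 2) (g := t) (by norm_num : Nat.Prime 3)
      (by rw [hσz, hy]; exact hzy') (by rw [hσz]; exact hz3) ?_ ?_ (by norm_num)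
    · rw [ht, hσz, pow_one]; simpa using R [11, 9] [9, 11] (by decide +kernel)
    · rw [ht, hy, sq, mul_assoc]; simpa using R [11, 8] [8, 8, 11] (by decide +kernel)
  have hzj : Commute z j := by
    rw [hzdef, commutatorElement_def]
    exact ((hxj.mul_left hyj).mul_left hxj.inv_left).mul_left hyj.inv_left
  have hzn : ∀ t ∈ T, σ z * t * (σ z)⁻¹ ∈ closure T := by
    intro t ht
    have e : σ z * t * (σ z)⁻¹ =
        σ x * (σ y * ((σ x)⁻¹ * ((σ y)⁻¹ * t * σ y) * σ x) * (σ y)⁻¹) * (σ x)⁻¹ := by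
      rw [hzdef, map_commutatorElement, commutatorElement_def]; group
    rw [e]
    refine (conj_mem_closure T hxn).1 ((conj_mem_closure T hyn).1 ?_)
    rw [conj_mem_closure T hxn]
    rw [show σ x * ((σ x)⁻¹ * ((σ y)⁻¹ * t * σ y) * σ x) * (σ x)⁻¹ = (σ y)⁻¹ * t * σ y by group,
      conj_mem_closure T hyn]
    rw [show σ y * ((σ y)⁻¹ * t * σ y) * (σ y)⁻¹ = t by group]
    exact subset_closure ht
  -- an element of `closure T` centralised by `σ j` is trivial
  have hfix : ∀ {w : Γ}, Commute w j → σ w ∈ closure T → σ w = 1 := by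
    intro w hw hmem
    have h1 := conj_square σ hσs hc T hT j hjT hmem
    rw [← map_inv, ← map_mul, ← map_mul, ← hw.eq, mul_inv_cancel_right] at h1
    exact left_eq_mul.1 h1
  -- the group of order 3 ^ 9
  have hcard6 := card_closure_gens three_eqsOK hL (by norm_num : Nat.Prime 3) three_vecOK
    (by decide +kernel) (by decide +kernel)
  have hmap : (closure (Set.range fun i : Fin 6 => L.getD i.val 1)).map mk = closure T := by
    rw [MonoidHom.map_closure, ← Set.range_comp]; rfl
  have hE : Nat.card (closure T) = 3 ^ 6 := by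
    rw [← hmap, card_map_mk (by rw [hcard6]; decide), hcard6]
  have hne : ∀ i, i = 7 ∨ i = 8 ∨ i = 9 → img L i ≠ 1 := by
    intro i hi h
    rcases mk_eq_one.1 h with e | e <;> have e' := congrArg rows e <;>
      rw [rows_getD_tabs hL] at e'
    · rw [rows_one] at e'
      rcases hi with rfl | rfl | rfl <;> exact absurd e' (by decide +kernel)
    · rw [OutCo1.rows_negOne] at e'
      rcases hi with rfl | rfl | rfl <;> exact absurd e' (by decide +kernel)
  have hTc : ∀ s ∈ T, σ z * s * (σ z)⁻¹ ∈ closure T := hzn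
  have hz1 : σ z ∉ closure T := fun h => hne 9 (by simp) (hσz ▸ hfix hzj h)
  have h7 : Nat.card (closure (insert (σ z) T)) = 3 ^ 7 :=
    card_closure_insert (by norm_num : Nat.Prime 3) (by rw [hσz]; exact hz3) hTc hz1 hE
  have hxz : ∀ s ∈ insert (σ z) T, σ x * s * (σ x)⁻¹ ∈ closure (insert (σ z) T) := by
    rintro s (rfl | hs)
    · rw [← (hzx.map σ).eq, mul_inv_cancel_right]; exact subset_closure (Set.mem_insert _ _)
    · exact closure_mono (Set.subset_insert _ _) (hxn s hs)
  -- commuting with the elements below, modulo `closure T`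
  have hxy1 : σ z ≠ 1 := by rw [hσz]; exact hne 9 (by simp)
  have hclass : ∀ {w : Γ} (S : Set Spor.Co1), Commute w j →
      (∀ s ∈ S, ∃ u : Γ, σ u = s ∧ Commute u j) → σ w ∈ closure (S ∪ T) →
      (∀ s ∈ S, ∀ t ∈ T, s * t * s⁻¹ ∈ closure T) → σ w ∈ closure S := by
    intro w S hw hS hmem hn
    have hle : closure S ≤ normalizer (closure T : Set Spor.Co1) := by
      rw [closure_le]
      intro s hs
      rw [SetLike.mem_coe, Subgroup.mem_normalizer_iff]
      exact fun b => conj_mem_closure T (hn s hs)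
    have hmem' : σ w ∈ ((closure S ⊔ closure T : Subgroup Spor.Co1) : Set Spor.Co1) := by
      rw [← Subgroup.closure_union]; exact hmem
    rw [Subgroup.coe_mul_of_left_le_normalizer_right _ _ hle] at hmem'
    obtain ⟨p, hp, e, he, hpe⟩ := hmem'
    have hSj : closure S ≤ ((centralizer ({j} : Set Γ)).map σ) := by
      rw [closure_le]
      intro s hs
      obtain ⟨u, hu, huj⟩ := hS s hs
      exact ⟨u, mem_centralizer_singleton_iff.2 huj.eq, hu⟩
    obtain ⟨u, hu, hup⟩ := hSj hp
    have huj : Commute u j := mem_centralizer_singleton_iff.1 hu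
    have hee : σ (u⁻¹ * w) = e := by rw [map_mul, map_inv, hup, ← hpe, inv_mul_cancel_left]
    have h1 := hfix (huj.inv_left.mul_left hw) (hee ▸ he)
    have hpe' : p * e = σ w := hpe
    rw [← hpe', show e = 1 from hee ▸ h1, mul_one]
    exact hp
  have hxnot : σ x ∉ closure (insert (σ z) T) := by
    intro h
    rw [Set.insert_eq] at h
    have h' := hclass {σ z} hxj (by rintro s rfl; exact ⟨z, rfl, hzj⟩) h
      (by rintro s rfl; exact hzn)
    rw [← Subgroup.zpowers_eq_closure] at h'
    have hcom : Commute (σ x) (σ y) := by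
      obtain ⟨k, hk⟩ := h'
      rw [← hk]; exact ((hzy.map σ).zpow_left k)
    exact hxy1 (by rw [hzdef, map_commutatorElement, commutatorElement_eq_one_iff_commute.2 hcom])
  have h8 : Nat.card (closure (insert (σ x) (insert (σ z) T))) = 3 ^ 8 :=
    card_closure_insert (by norm_num : Nat.Prime 3) hx3 hxz hxnot h7
  have hyz : ∀ s ∈ insert (σ x) (insert (σ z) T),
      σ y * s * (σ y)⁻¹ ∈ closure (insert (σ x) (insert (σ z) T)) := by
    rintro s (rfl | rfl | hs)
    · rw [show σ y * σ x * (σ y)⁻¹ = (σ z)⁻¹ * σ x by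
        rw [hzdef, map_commutatorElement, commutatorElement_def]; group]
      exact mul_mem (inv_mem (subset_closure (Or.inr (Or.inl rfl)))) (subset_closure (Or.inl rfl))
    · rw [← (hzy.map σ).eq, mul_inv_cancel_right]; exact subset_closure (Or.inr (Or.inl rfl))
    · exact closure_mono ((Set.subset_insert _ _).trans (Set.subset_insert _ _)) (hyn s hs)
  have hynot : σ y ∉ closure (insert (σ x) (insert (σ z) T)) := by
    intro h
    have e : (insert (σ x) (insert (σ z) T) : Set Spor.Co1) = {σ x, σ z} ∪ T := by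
      ext; simp [or_assoc]
    rw [e] at h
    have h' := hclass {σ x, σ z} hyj
      (by rintro s (rfl | rfl); exacts [⟨x, rfl, hxj⟩, ⟨z, rfl, hzj⟩]) h
      (by rintro s (rfl | rfl); exacts [hxn, hzn])
    have hcom : Commute (σ y) (σ x) := by
      have hle : closure ({σ x, σ z} : Set Spor.Co1) ≤ centralizer {σ x} := by
        rw [closure_le]
        rintro s (rfl | rfl)
        · exact mem_centralizer_singleton_iff.2 rfl
        · exact mem_centralizer_singleton_iff.2 (hzx.map σ).eq
      exact mem_centralizer_singleton_iff.1 (hle h')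
    exact hxy1 (by rw [hzdef, map_commutatorElement, commutatorElement_eq_one_iff_commute.2 hcom.symm])
  have h9 : Nat.card (closure (insert (σ y) (insert (σ x) (insert (σ z) T)))) = 3 ^ 9 :=
    card_closure_insert (by norm_num : Nat.Prime 3) hy3 hyz hynot h8
  refine not_dvd_of_inf_eq_bot σ hσ (ℓ := 3) (e := 9) (c := 211236945920000) (by norm_num)
    _ h9.symm.dvd (by rw [card_Co1]; norm_num) (by norm_num) ?_
  set B := splitSub σ T j
  set N : Subgroup Γ := B ⊔ zpowers z
  set A : Set Γ := {b | b ∈ B ∧ σ b ∈ T} ∪ {x, y, z}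
  have hA : σ '' A = insert (σ y) (insert (σ x) (insert (σ z) T)) := by
    have hB : σ '' {b | b ∈ B ∧ σ b ∈ T} = T := by
      ext t
      constructor
      · rintro ⟨b, hb, rfl⟩; exact hb.2
      · intro ht
        obtain ⟨b, hb, rfl⟩ := exists_lift σ hσs hc T hT j hjT (subset_closure ht)
        exact ⟨b, ⟨hb, ht⟩, rfl⟩
    rw [Set.image_union, hB, Set.image_insert_eq, Set.image_pair]
    ext; simp only [Set.mem_union, Set.mem_insert_iff, Set.mem_singleton_iff]; tauto
  have hBz : ∀ {g : Γ}, g ∈ ({x, y, z} : Set Γ) → ∀ b ∈ B, g * b * g⁻¹ ∈ B ∧ g⁻¹ * b * g ∈ B := by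
    rintro g (rfl | rfl | rfl) b hb
    · exact conj_mem_splitSub σ hσs hc T hT j hxj hxn hb
    · exact conj_mem_splitSub σ hσs hc T hT j hyj hyn hb
    · exact conj_mem_splitSub σ hσs hc T hT j hzj hzn hb
  have hzB : zpowers z ≤ normalizer (B : Set Γ) := by
    rw [zpowers_le, Subgroup.mem_normalizer_iff]
    refine fun b => ⟨fun hb => (hBz (by simp) b hb).1, fun hb => ?_⟩
    have := (hBz (g := z) (by simp) _ hb).2
    simpa [mul_assoc] using this
  have hN : ∀ v ∈ N, ∃ b ∈ B, ∃ k : ℤ, b * z ^ k = v := by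
    intro v hv
    have hv' : v ∈ ((B ⊔ zpowers z : Subgroup Γ) : Set Γ) := hv
    rw [Subgroup.coe_mul_of_right_le_normalizer_left B (zpowers z) hzB] at hv'
    obtain ⟨b, hb, w, ⟨k, rfl⟩, e⟩ := hv'
    exact ⟨b, hb, k, e⟩
  rw [← hA, eq_bot_iff]
  refine (inf_le_inf_left _ (Cfsg.Agent.Mult93.commutator_comap_le σ hc A N ?_ ?_)).trans ?_
  · rintro t ht v hv
    obtain ⟨b, hb, k, rfl⟩ := hN v hv
    have hzk : ∀ {g : Γ}, Commute z g → g * (b * z ^ k) * g⁻¹ = g * b * g⁻¹ * z ^ k ∧
        g⁻¹ * (b * z ^ k) * g = g⁻¹ * b * g * z ^ k := fun {g} hg => by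
      constructor
      · rw [mul_assoc, mul_assoc, (hg.zpow_left k).inv_right.eq]; simp only [mul_assoc]
      · rw [mul_assoc, mul_assoc, (hg.zpow_left k).eq]; simp only [mul_assoc]
    rcases ht with ht | ht
    · have hBt : ∀ w ∈ B, t * w * t⁻¹ ∈ B ∧ t⁻¹ * w * t ∈ B := fun w hw =>
        ⟨mul_mem (mul_mem ht.1 hw) (inv_mem ht.1), mul_mem (mul_mem (inv_mem ht.1) hw) ht.1⟩
      have hz' : z ^ k ∈ N := zpow_mem (mem_sup_right (mem_zpowers z)) k
      have htN : t ∈ N := mem_sup_left ht.1
      have hbN : b ∈ N := mem_sup_left hb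
      exact ⟨mul_mem (mul_mem htN (mul_mem hbN hz')) (inv_mem htN),
        mul_mem (mul_mem (inv_mem htN) (mul_mem hbN hz')) htN⟩
    · have hg : Commute z t := by
        rcases ht with rfl | rfl | rfl
        exacts [hzx, hzy, Commute.refl _]
      rw [(hzk hg).1, (hzk hg).2]
      exact ⟨mul_mem (mem_sup_left (hBz ht b hb).1) (zpow_mem (mem_sup_right (mem_zpowers z)) k),
        mul_mem (mem_sup_left (hBz ht b hb).2) (zpow_mem (mem_sup_right (mem_zpowers z)) k)⟩
  · have hAB : ∀ g ∈ ({x, y, z} : Set Γ), ∀ b ∈ B, ⁅g, b⁆ ∈ N := fun g hg b hb =>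
      mem_sup_left (mul_mem (hBz hg b hb).1 (inv_mem hb))
    rintro s (hs | hs) t (ht | ht)
    · rw [commutatorElement_eq_one_iff_commute.2 (splitSub_commute σ T j hs.1 ht.1)]; exact one_mem _
    · rw [← commutatorElement_inv]; exact inv_mem (hAB t ht s hs.1)
    · exact hAB s hs t ht.1
    · have hzN : z ∈ N := mem_sup_right (mem_zpowers z)
      have c1 : ⁅z, x⁆ = 1 := commutatorElement_eq_one_iff_commute.2 hzx
      have c2 : ⁅z, y⁆ = 1 := commutatorElement_eq_one_iff_commute.2 hzy
      have c1' : ⁅x, z⁆ = 1 := commutatorElement_eq_one_iff_commute.2 hzx.symm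
      have c2' : ⁅y, z⁆ = 1 := commutatorElement_eq_one_iff_commute.2 hzy.symm
      have c3 : ⁅y, x⁆ = z⁻¹ := (commutatorElement_inv x y).symm
      rcases hs with rfl | rfl | rfl <;> rcases ht with rfl | rfl | rfl <;>
        simp only [commutatorElement_self, c1, c2, c1', c2', c3, ← hzdef] <;>
        first | exact one_mem _ | exact hzN | exact inv_mem hzN
  · rintro v ⟨hv, hvN⟩
    obtain ⟨b, hb, k, rfl⟩ := hN v hvN
    have hk : σ (z ^ k) = (σ b)⁻¹ := by
      have h : σ (b * z ^ k) = 1 := hv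
      rw [map_mul] at h
      exact (inv_eq_of_mul_eq_one_right h).symm
    have h1 := hfix (hzj.zpow_left k) (hk ▸ inv_mem hb.1)
    have hz3' : z ^ 3 = 1 := by
      rw [hzdef]
      have hk3 : x ^ 3 ∈ σ.ker := by rw [MonoidHom.mem_ker, map_pow, hx3]
      have hconj : (y * x * y⁻¹) ^ 3 = x ^ 3 := by
        rw [conj_pow, ← (ker_commute σ hc hk3 y).eq, mul_inv_cancel_right]
      have hyx : y * x * y⁻¹ = z⁻¹ * x := by rw [hzdef, commutatorElement_def]; group
      rw [hyx, hzx.inv_left.mul_pow] at hconj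
      exact inv_eq_one.1 ((inv_pow z 3).symm.trans (mul_right_cancel (hconj.trans (one_mul _).symm)))
    have h3 : (3 : ℤ) ∣ k := by
      have ho : orderOf (σ z) = 3 := orderOf_eq_prime (by rw [← map_pow, hz3', map_one]) hxy1
      rw [map_zpow, ← orderOf_dvd_iff_zpow_eq_one, ho] at h1
      exact h1
    obtain ⟨m, rfl⟩ := h3
    rw [zpow_mul, zpow_ofNat, hz3', one_zpow, mul_one] at hv ⊢
    exact Subgroup.mem_bot.2 (eq_one_of_mem_splitSub σ hc T j hb hv)

theorem not_dvd_odd {ℓ : ℕ} (hℓ : ℓ.Prime) (h2 : ℓ ≠ 2) : ¬ ℓ ∣ Nat.card σ.ker := by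
  by_cases h3 : ℓ = 3
  · exact h3 ▸ not_dvd_three σ hσ
  by_cases h5 : ℓ = 5
  · exact h5 ▸ not_dvd_five σ hσ
  by_cases h7 : ℓ = 7
  · exact h7 ▸ not_dvd_seven σ hσ
  haveI := finite_Co1
  haveI := Fact.mk hℓ
  refine Mult93.L34.not_dvd_card_ker_of_prime σ hσ ℓ fun hsq => ?_
  rw [card_Co1] at hsq
  have hcop : (ℓ ^ 2).Coprime (2 ^ 21 * 3 ^ 9 * 5 ^ 4 * 7 ^ 2) := by
    have h := fun q e (hq : q.Prime) (hne : ℓ ≠ q) =>
      Nat.Coprime.pow 2 e ((Nat.coprime_primes hℓ hq).2 hne)
    exact (((h 2 21 Nat.prime_two h2).mul_right (h 3 9 Nat.prime_three h3)).mul_right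
      (h 5 4 (by norm_num) h5)).mul_right (h 7 2 (by norm_num) h7)
  have hd : ℓ ^ 2 ∣ 3289 := hcop.dvd_of_dvd_mul_left (hsq.trans (by norm_num))
  have hle : ℓ ^ 2 ≤ 3289 := Nat.le_of_dvd (by norm_num) hd
  have hl : ℓ < 58 := by nlinarith
  interval_cases ℓ <;> first | (norm_num at hd; done) | (norm_num at hℓ; done)

end Primes

end Cfsg.Agent.Co1Mult96
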