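import Cfsg.Agent.Mult93.Local

/-!
Central extensions: complements over an abelian subgroup normalised by an element that squares it,
and orders of subgroups generated along a normalised chain.
-/

set_option autoImplicit false

namespace Cfsg.Agent.Co1Mult96

open Subgroup
open scoped commutatorElement

universe u v

section Central

variable {Γ : Type u} [Group Γ] {G : Type v} [Group G] (σ : Γ →* G)

theorem comm_mem_ker {x y : Γ} (h : Commute (σ x) (σ y)) : ⁅x, y⁆ ∈ σ.ker := by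
  rw [MonoidHom.mem_ker, map_commutatorElement, commutatorElement_eq_one_iff_commute]
  exact h

variable (hc : σ.ker ≤ center Γ)
include hc

theorem ker_commute {z : Γ} (hz : z ∈ σ.ker) (g : Γ) : Commute z g :=
  (Subgroup.mem_center_iff.1 (hc hz) g).symm

theorem comm_pow_left {x y : Γ} (h : Commute (σ x) (σ y)) :
    ∀ k : ℕ, ⁅x ^ k, y⁆ = ⁅x, y⁆ ^ k := by
  intro k
  induction k with
  | zero => simp
  | succ k ih =>
    have hz := ker_commute σ hc (pow_mem (comm_mem_ker σ h) k) x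
    calc ⁅x ^ (k + 1), y⁆ = x * ⁅x ^ k, y⁆ * x⁻¹ * ⁅x, y⁆ := by
          rw [pow_succ']; simp only [commutatorElement_def]; group
      _ = ⁅x, y⁆ ^ k * ⁅x, y⁆ := by rw [ih, ← hz.eq, mul_inv_cancel_right]
      _ = _ := (pow_succ _ _).symm

theorem comm_pow_right {x y : Γ} (h : Commute (σ x) (σ y)) :
    ∀ k : ℕ, ⁅x, y ^ k⁆ = ⁅x, y⁆ ^ k := by
  intro k
  induction k with
  | zero => simp
  | succ k ih =>
    have hz := ker_commute σ hc (comm_mem_ker σ h) (y ^ k)
    calc ⁅x, y ^ (k + 1)⁆ = ⁅x, y ^ k⁆ * (y ^ k * ⁅x, y⁆ * (y ^ k)⁻¹) := by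
          rw [pow_succ]; simp only [commutatorElement_def]; group
      _ = ⁅x, y⁆ ^ k * ⁅x, y⁆ := by rw [ih, ← hz.eq, mul_inv_cancel_right]
      _ = _ := (pow_succ _ _).symm

theorem comm_pow_eq_one_left {x y : Γ} (h : Commute (σ x) (σ y)) {k : ℕ} (hk : σ x ^ k = 1) :
    ⁅x, y⁆ ^ k = 1 := by
  rw [← comm_pow_left σ hc h, commutatorElement_eq_one_iff_commute]
  exact ker_commute σ hc (by rw [MonoidHom.mem_ker, map_pow, hk]) y

theorem comm_pow_eq_one_right {x y : Γ} (h : Commute (σ x) (σ y)) {k : ℕ} (hk : σ y ^ k = 1) :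
    ⁅x, y⁆ ^ k = 1 := by
  rw [← comm_pow_right σ hc h, commutatorElement_eq_one_iff_commute]
  exact (ker_commute σ hc (by rw [MonoidHom.mem_ker, map_pow, hk]) x).symm

/-- Lifts of commuting elements of coprime orders commute. -/
theorem commute_of_coprime {x y : Γ} (h : Commute (σ x) (σ y)) {k l : ℕ} (hk : σ x ^ k = 1)
    (hl : σ y ^ l = 1) (hkl : k.Coprime l) : Commute x y := by
  rw [← commutatorElement_eq_one_iff_commute, ← orderOf_eq_one_iff, ← Nat.dvd_one, ← hkl.gcd_eq_one]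
  exact Nat.dvd_gcd (orderOf_dvd_of_pow_eq_one (comm_pow_eq_one_left σ hc h hk))
    (orderOf_dvd_of_pow_eq_one (comm_pow_eq_one_right σ hc h hl))

/-- Lifts of commuting elements of order `ℓ` scaled by exponents `m`, `n` with `m n ≢ 1` commute. -/
theorem comm_of_scaling {x y g : Γ} {ℓ m n : ℕ} (hℓ : ℓ.Prime) (h : Commute (σ x) (σ y))
    (hx : σ x ^ ℓ = 1) (hgx : σ g * σ x = σ x ^ m * σ g) (hgy : σ g * σ y = σ y ^ n * σ g)
    (hmn : (m * n) % ℓ ≠ 1) : ⁅x, y⁆ = 1 := by
  have hk := comm_mem_ker σ h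
  have hcg : ∀ a b : Γ, σ g * σ a = σ b * σ g → ∀ c : Γ, ⁅g * a * g⁻¹, c⁆ = ⁅b, c⁆ := by
    intro a b e c
    have hz : b⁻¹ * (g * a * g⁻¹) ∈ center Γ := hc (by
      rw [MonoidHom.mem_ker, map_mul, map_mul, map_mul, map_inv, map_inv, e, mul_inv_cancel_right,
        inv_mul_cancel])
    have hzc := Subgroup.mem_center_iff.1 hz
    set z := b⁻¹ * (g * a * g⁻¹) with hzdef
    rw [show g * a * g⁻¹ = b * z by rw [hzdef, mul_inv_cancel_left]]
    clear_value z
    simp only [commutatorElement_def]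
    rw [mul_assoc b z c, ← hzc c]
    group
  have e1 : ⁅g * x * g⁻¹, g * y * g⁻¹⁆ = ⁅x, y⁆ := by
    rw [show ⁅g * x * g⁻¹, g * y * g⁻¹⁆ = g * ⁅x, y⁆ * g⁻¹ by
      simp only [commutatorElement_def]; group, ← (ker_commute σ hc hk g).eq, mul_inv_cancel_right]
  have e2 : ⁅g * x * g⁻¹, g * y * g⁻¹⁆ = ⁅x ^ m, y ^ n⁆ := by
    rw [hcg x (x ^ m) (by rw [map_pow]; exact hgx), ← commutatorElement_inv,
      hcg y (y ^ n) (by rw [map_pow]; exact hgy), commutatorElement_inv]
  have hxy : Commute (σ x) (σ (y ^ n)) := by rw [map_pow]; exact h.pow_right n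
  rw [e1, comm_pow_left σ hc hxy, comm_pow_right σ hc h, ← pow_mul] at e2
  have hw : orderOf ⁅x, y⁆ ∣ ℓ := orderOf_dvd_of_pow_eq_one (comm_pow_eq_one_left σ hc h hx)
  rcases (Nat.dvd_prime hℓ).1 hw with e | e
  · exact orderOf_eq_one_iff.1 e
  exfalso
  have : ⁅x, y⁆ ^ (1 % ℓ) = ⁅x, y⁆ ^ ((n * m) % ℓ) := by
    rw [← e, pow_mod_orderOf, pow_mod_orderOf, pow_one]; exact e2
  have h1 := (pow_inj_mod (x := ⁅x, y⁆)).1 this
  rw [e, Nat.mod_mod, Nat.mod_mod, Nat.one_mod_eq_one.2 hℓ.ne_one, mul_comm n m] at h1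
  exact hmn h1.symm

end Central

section Split

variable {Γ : Type u} [Group Γ] {G : Type v} [Group G] (σ : Γ →* G)
  (hσ : Function.Surjective σ) (hc : σ.ker ≤ center Γ) (T : Set G)
  (hT : ∀ x y : Γ, σ x ∈ T → σ y ∈ T → ⁅x, y⁆ = 1)

include hσ hc hT in
/-- The preimage of an abelian subgroup with commuting lifts is abelian. -/
theorem preimage_commute {x y : Γ} (hx : σ x ∈ closure T) (hy : σ y ∈ closure T) : Commute x y := by
  have hle : ⁅(closure T).comap σ, (closure T).comap σ⁆ ≤ ⊥ := by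
    conv_lhs => rw [← Set.image_preimage_eq T hσ]
    refine Cfsg.Agent.Mult93.commutator_comap_le σ hc _ ⊥ (fun t _ z hz => ?_) fun s hs t ht => ?_
    · obtain rfl := Subgroup.mem_bot.1 hz
      simp
    · exact Subgroup.mem_bot.2 (hT s t hs ht)
  exact commutatorElement_eq_one_iff_commute.1 (Subgroup.mem_bot.1
    (hle (commutator_mem_commutator (show x ∈ (closure T).comap σ from hx) hy)))

include hσ hc hT in
theorem commute_closure {a b : G} (ha : a ∈ closure T) (hb : b ∈ closure T) : Commute a b := by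
  obtain ⟨x, rfl⟩ := hσ a
  obtain ⟨y, rfl⟩ := hσ b
  exact (preimage_commute σ hσ hc T hT ha hb).map σ

variable (j : Γ)

/-- The lifts squared by the lift `j`. -/
def splitSub : Subgroup Γ where
  carrier := {x | σ x ∈ closure T ∧ j * x * j⁻¹ = x * x ∧
    ∀ y : Γ, σ y ∈ closure T → Commute x y}
  one_mem' := ⟨by rw [map_one]; exact one_mem _, by simp, fun y _ => Commute.one_left y⟩
  mul_mem' := by
    rintro x y ⟨hx, hjx, hxc⟩ ⟨hy, hjy, hyc⟩
    refine ⟨by rw [map_mul]; exact mul_mem hx hy, ?_, fun z hz => (hxc z hz).mul_left (hyc z hz)⟩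
    rw [show j * (x * y) * j⁻¹ = (j * x * j⁻¹) * (j * y * j⁻¹) by group, hjx, hjy]
    exact (hxc y hy).mul_mul_mul_comm x y
  inv_mem' := by
    rintro x ⟨hx, hjx, hxc⟩
    refine ⟨by rw [map_inv]; exact inv_mem hx, ?_, fun z hz => (hxc z hz).inv_left⟩
    rw [show j * x⁻¹ * j⁻¹ = (j * x * j⁻¹)⁻¹ by group, hjx, mul_inv_rev]

theorem splitSub_le : (splitSub σ T j).map σ ≤ closure T :=
  map_le_iff_le_comap.2 fun _ h => h.1

include hc in
theorem eq_one_of_mem_splitSub {x : Γ} (h : x ∈ splitSub σ T j) (hx : σ x = 1) : x = 1 := by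
  have h2 := h.2.1
  rw [← (ker_commute σ hc (MonoidHom.mem_ker.2 hx) j).eq, mul_inv_cancel_right] at h2
  exact left_eq_mul.1 h2

theorem splitSub_commute {x y : Γ} (hx : x ∈ splitSub σ T j) (hy : y ∈ splitSub σ T j) :
    Commute x y := hx.2.2 y hy.1

variable (hj : ∀ t ∈ T, σ j * t = t * t * σ j)

include hσ hc hT hj in
theorem conj_square {a : G} (ha : a ∈ closure T) : σ j * a * (σ j)⁻¹ = a * a := by
  induction ha using closure_induction with
  | mem t ht => rw [hj t ht, mul_inv_cancel_right]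
  | one => simp
  | mul a b ha hb iha ihb =>
    rw [show σ j * (a * b) * (σ j)⁻¹ = (σ j * a * (σ j)⁻¹) * (σ j * b * (σ j)⁻¹) by group, iha, ihb]
    exact (commute_closure σ hσ hc T hT ha hb).mul_mul_mul_comm a b
  | inv a _ iha =>
    rw [show σ j * a⁻¹ * (σ j)⁻¹ = (σ j * a * (σ j)⁻¹)⁻¹ by group, iha, mul_inv_rev]

include hσ hc hT hj in
theorem exists_lift {a : G} (ha : a ∈ closure T) : ∃ x ∈ splitSub σ T j, σ x = a := by
  obtain ⟨x, rfl⟩ := hσ a
  have e : σ (j * x * j⁻¹) = σ x * σ x := by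
    rw [map_mul, map_mul, map_inv]; exact conj_square σ hσ hc T hT j hj ha
  set y := j * x * j⁻¹ * x⁻¹ with hy
  have hyx : σ y = σ x := by rw [hy, map_mul, e, map_inv, mul_inv_cancel_right]
  refine ⟨y, ⟨hyx ▸ ha, ?_, fun z hz => preimage_commute σ hσ hc T hT (hyx ▸ ha) hz⟩, hyx⟩
  have hk : x⁻¹ * y ∈ σ.ker := by rw [MonoidHom.mem_ker, map_mul, map_inv, hyx, inv_mul_cancel]
  calc j * y * j⁻¹ = j * x * j⁻¹ * (j * (x⁻¹ * y) * j⁻¹) := by group
    _ = y * x * (x⁻¹ * y) := by
      rw [← (ker_commute σ hc hk j).eq, mul_inv_cancel_right,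
        show j * x * j⁻¹ = y * x by rw [hy, inv_mul_cancel_right]]
    _ = y * y := by group

/-- Elements whose image normalises the closure. -/
theorem conj_mem_closure [Finite G] {g : G} (hg : ∀ t ∈ T, g * t * g⁻¹ ∈ closure T) {a : G} :
    a ∈ closure T ↔ g * a * g⁻¹ ∈ closure T := by
  have hle : (closure T).map (MulAut.conj g).toMonoidHom ≤ closure T := by
    rw [MonoidHom.map_closure, closure_le]
    rintro _ ⟨t, ht, rfl⟩
    exact hg t ht
  have heq : (closure T).map (MulAut.conj g).toMonoidHom = closure T :=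
    Subgroup.eq_of_le_of_card_ge hle
      (Subgroup.card_map_of_injective (K := closure T) (MulAut.conj g).injective).ge
  constructor
  · exact fun ha => hle ⟨a, ha, rfl⟩
  · intro ha
    rw [← heq] at ha
    obtain ⟨b, hb, e⟩ := ha
    have : b = a := mul_left_cancel (mul_right_cancel (e : g * b * g⁻¹ = g * a * g⁻¹))
    exact this ▸ hb

include hσ hc hT in
theorem conj_mem_splitSub [Finite G] {t : Γ} (hcomm : Commute t j)
    (hn : ∀ a ∈ T, σ t * a * (σ t)⁻¹ ∈ closure T) {x : Γ} (hx : x ∈ splitSub σ T j) :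
    t * x * t⁻¹ ∈ splitSub σ T j ∧ t⁻¹ * x * t ∈ splitSub σ T j := by
  constructor
  · have h1 : σ (t * x * t⁻¹) ∈ closure T := by
      rw [map_mul, map_mul, map_inv]; exact (conj_mem_closure T hn).1 hx.1
    refine ⟨h1, ?_, fun z hz => preimage_commute σ hσ hc T hT h1 hz⟩
    calc j * (t * x * t⁻¹) * j⁻¹ = (j * t) * x * (j * t)⁻¹ := by group
      _ = t * (j * x * j⁻¹) * t⁻¹ := by rw [← hcomm.eq]; group
      _ = _ := by rw [hx.2.1]; group
  · have h1 : σ (t⁻¹ * x * t) ∈ closure T := by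
      refine (conj_mem_closure T hn).2 ?_
      rw [← map_inv, ← map_mul, ← map_mul, show t * (t⁻¹ * x * t) * t⁻¹ = x by group]
      exact hx.1
    refine ⟨h1, ?_, fun z hz => preimage_commute σ hσ hc T hT h1 hz⟩
    calc j * (t⁻¹ * x * t) * j⁻¹ = (j * t⁻¹) * x * (j * t⁻¹)⁻¹ := by group
      _ = t⁻¹ * (j * x * j⁻¹) * t := by rw [← hcomm.inv_left.eq]; group
      _ = _ := by rw [hx.2.1]; group

end Split

section Chain

variable {G : Type u} [Group G]

/-- Adjoining an element of prime order that normalises a subgroup not containing it. -/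
theorem card_sup_zpowers [Finite G] {H : Subgroup G} {a : G} {ℓ : ℕ} (hℓ : ℓ.Prime) (ha : a ^ ℓ = 1)
    (hn : a ∈ normalizer (H : Set G)) (hna : a ∉ H) :
    Nat.card ↥(H ⊔ zpowers a) = Nat.card H * ℓ := by
  have hord : orderOf a = ℓ := by
    rcases (Nat.dvd_prime hℓ).1 (orderOf_dvd_of_pow_eq_one ha) with e | e
    · exact absurd (orderOf_eq_one_iff.1 e ▸ H.one_mem) hna
    · exact e
  have hZn : zpowers a ≤ normalizer (H : Set G) := zpowers_le.2 hn
  have hdis : H ⊓ zpowers a = ⊥ := by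
    rw [eq_bot_iff]
    rintro x ⟨hxH, hxZ⟩
    haveI : Fact (Nat.card (zpowers a)).Prime := ⟨by rw [Nat.card_zpowers, hord]; exact hℓ⟩
    rcases (H.subgroupOf (zpowers a)).eq_bot_or_eq_top_of_prime_card with e | e
    · have : (⟨x, hxZ⟩ : zpowers a) ∈ H.subgroupOf (zpowers a) := hxH
      rw [e, Subgroup.mem_bot] at this
      exact Subgroup.mem_bot.2 (congrArg Subtype.val this)
    · exact absurd (show (⟨a, mem_zpowers a⟩ : zpowers a) ∈ H.subgroupOf (zpowers a) by
        rw [e]; exact mem_top _) hna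
  let f : H × zpowers a → ↥(H ⊔ zpowers a) :=
    fun p => ⟨p.1.1 * p.2.1, mul_mem_sup p.1.2 p.2.2⟩
  have hf : Function.Bijective f := by
    constructor
    · rintro ⟨h, z⟩ ⟨h', z'⟩ e
      have e' : (h : G) * z = h' * z' := congrArg Subtype.val e
      have hm : (h' : G)⁻¹ * h = z' * (z : G)⁻¹ := by
        rw [eq_mul_inv_iff_mul_eq, mul_assoc, e', inv_mul_cancel_left]
      have h1 : (h' : G)⁻¹ * h ∈ H ⊓ zpowers a :=
        Subgroup.mem_inf.2 ⟨H.mul_mem (H.inv_mem h'.2) h.2,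
          hm ▸ (zpowers a).mul_mem z'.2 ((zpowers a).inv_mem z.2)⟩
      rw [hdis, Subgroup.mem_bot] at h1
      refine Prod.ext (Subtype.ext ?_) (Subtype.ext ?_)
      · exact (inv_mul_eq_one.1 h1).symm
      · rw [h1, eq_comm, mul_inv_eq_one] at hm
        exact hm.symm
    · rintro ⟨x, hx⟩
      have hx' : x ∈ ((H ⊔ zpowers a : Subgroup G) : Set G) := hx
      rw [Subgroup.coe_mul_of_right_le_normalizer_left H (zpowers a) hZn] at hx'
      obtain ⟨h, hh, z, hz, e⟩ := hx'
      exact ⟨(⟨h, hh⟩, ⟨z, hz⟩), Subtype.ext e⟩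
  rw [← Nat.card_eq_of_bijective f hf, Nat.card_prod, Nat.card_zpowers, hord]

theorem closure_insert_eq (S : Set G) (a : G) : closure (insert a S) = closure S ⊔ zpowers a := by
  rw [Set.insert_eq, Subgroup.closure_union, zpowers_eq_closure, sup_comm]

/-- One step of a chain. -/
theorem card_closure_insert [Finite G] {S : Set G} {a : G} {ℓ n : ℕ} (hℓ : ℓ.Prime) (ha : a ^ ℓ = 1)
    (hn : ∀ s ∈ S, a * s * a⁻¹ ∈ closure S) (hna : a ∉ closure S) (hS : Nat.card (closure S) = ℓ ^ n) :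
    Nat.card (closure (insert a S)) = ℓ ^ (n + 1) := by
  rw [closure_insert_eq, card_sup_zpowers hℓ ha ?_ hna, hS, pow_succ]
  rw [Subgroup.mem_normalizer_iff]
  exact fun x => conj_mem_closure S hn

/-- Independent commuting elements of prime order, separated by fixed points. -/
theorem card_closure_range [Finite G] {X : Type v} [MulAction G X] {ℓ : ℕ} (hℓ : ℓ.Prime) :
    ∀ (n : ℕ) (a : Fin n → G) (w : Fin n → X), (∀ i, a i ^ ℓ = 1) →
      (∀ i k, Commute (a i) (a k)) → (∀ i k, k ≠ i → a k • w i = w i) → (∀ i, a i • w i ≠ w i) →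
      Nat.card (closure (Set.range a)) = ℓ ^ n := by
  intro n
  induction n with
  | zero =>
    intro a _ _ _ _ _
    rw [Set.range_eq_empty, Subgroup.closure_empty, Subgroup.card_bot, pow_zero]
  | succ n ih =>
    intro a w hp hcm hfix hmove
    have hrange : Set.range a = insert (a (Fin.last n)) (Set.range fun i : Fin n => a i.castSucc) := by
      ext x
      simp only [Set.mem_insert_iff, Set.mem_range, Fin.exists_fin_succ', or_comm, eq_comm]
    rw [hrange]
    refine card_closure_insert hℓ (hp _) ?_ ?_ (ih _ (fun i => w i.castSucc) (fun i => hp _)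
      (fun i k => hcm _ _) (fun i k hik => hfix _ _ (by simpa using hik)) fun i => hmove _)
    · rintro _ ⟨i, rfl⟩
      rw [(hcm _ _).eq, mul_inv_cancel_right]
      exact subset_closure ⟨i, rfl⟩
    · intro hmem
      apply hmove (Fin.last n)
      have hle : closure (Set.range fun i : Fin n => a i.castSucc) ≤
          MulAction.stabilizer G (w (Fin.last n)) := by
        rw [closure_le]
        rintro _ ⟨i, rfl⟩
        exact hfix _ _ (Fin.castSucc_lt_last i).ne
      exact hle hmem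

end Chain

end Cfsg.Agent.Co1Mult96
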