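import Cfsg.Agent.Co1Mult96.Odd
import Cfsg.Agent.Lib.Schur.Perfect
import Cfsg.Agent.Lib.Golay.Mult.M24
import Cfsg.Agent.SporStruct.OctadStab
import Cfsg.Agent.SporStruct.OctadOrbits
import Cfsg.Agent.SporStruct.M24Classes
import Mathlib.GroupTheory.SpecificGroups.Alternating.Centralizer

/-!
The two-part of the kernel of a stem extension of the largest Conway group has order at most two:
the monomial subgroup, sign changes on octads lifted equivariantly under M24.
-/

set_option autoImplicit false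

namespace Cfsg.Agent.Co1Mult96

open Cfsg Cfsg.Agent.Leech Cfsg.Agent.SporStruct Subgroup
open Cfsg.Agent.SporStruct.M24 (setStab pointFix setStabPt mem_setStab mem_pointFix)
open Cfsg.Agent.Golay (pt idx idx_lt pt_idx idx_pt toSet mem_toSet inCode popc combAux combAux_xor Tab permOf
  tab_permOf isPermTab checkAut card_toSet octad_mem_iff)
open scoped commutatorElement Pointwise

/-- The base octad. -/
abbrev O0 : Finset GolayPt := toSet 8536111

theorem O0_mem : O0 ∈ octads := octad_mem_iff.2 ⟨8536111, by decide +kernel, by decide +kernel, rfl⟩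

theorem code_of_octad {o : Finset GolayPt} (h : o ∈ octads) : o ∈ code := by
  obtain ⟨n, hn, -, rfl⟩ := octad_mem_iff.1 h
  exact OutCo1.toSet_mem_code hn

theorem smul_symmDiff_finset (g : Equiv.Perm GolayPt) (a b : Finset GolayPt) :
    g • symmDiff a b = symmDiff (g • a) (g • b) := by
  simp only [Finset.smul_finset_def]
  exact Finset.image_symmDiff _ _ (MulAction.injective g)

/-- Sign changes, in Co0. -/
noncomputable def sign (c : Finset GolayPt) : Co0 :=
  @dite _ (c ∈ code) (Classical.dec _) (fun h => mono 1 h) fun _ => 1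

/-- Sign changes, in the quotient. -/
noncomputable def eps (c : Finset GolayPt) : Spor.Co1 := mk (sign c)

/-- Permutations, in the quotient. -/
noncomputable def per : M24 →* Spor.Co1 := mk.comp permHom

theorem sign_eq {c : Finset GolayPt} (h : c ∈ code) : sign c = mono 1 h := dif_pos h

theorem sign_mul {c d : Finset GolayPt} (hc : c ∈ code) (hd : d ∈ code) :
    sign c * sign d = sign (symmDiff c d) := by
  have h1 : ((1 : M24) : Equiv.Perm GolayPt) • d = d := one_smul _ d
  rw [sign_eq hc, sign_eq hd, sign_eq (symmDiff_mem_code hc hd)]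
  refine (OutCo1.mono_mul 1 1 hc hd (by rw [h1]; exact symmDiff_mem_code hc hd)).trans ?_
  refine ext_frame fun i => Subtype.ext ?_
  rw [coe_mono_smul, coe_mono_smul, h1, one_mul]

theorem permHom_sign (g : M24) {c : Finset GolayPt} (hc : c ∈ code) :
    permHom g * sign c * (permHom g)⁻¹ = sign (g.1 • c) := by
  have hgc : g.1 • c ∈ code := OutCo1.smul_mem_code g hc
  rw [mul_inv_eq_iff_eq_mul, sign_eq hc, sign_eq hgc]
  refine ext_frame fun i => Subtype.ext ?_
  simp only [mul_smul, show permHom g = mono g empty_mem_code from rfl, coe_mono_smul]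
  rw [signedPerm_comp, signedPerm_comp]
  congr 1
  all_goals simp only [Finset.smul_finset_empty, one_smul, one_mul, mul_one]
  all_goals exact symmDiff_comm _ _

theorem eps_mul {c d : Finset GolayPt} (hc : c ∈ code) (hd : d ∈ code) :
    eps c * eps d = eps (symmDiff c d) := by rw [eps, eps, eps, ← map_mul, sign_mul hc hd]

theorem eps_sq {c : Finset GolayPt} (hc : c ∈ code) : eps c * eps c = 1 := by
  rw [eps_mul hc hc, symmDiff_self, Finset.bot_eq_empty, eps, sign_eq empty_mem_code]
  refine mk_eq_one.2 (Or.inl (ext_frame fun i => Subtype.ext ?_))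
  rw [coe_mono_smul, one_smul]
  exact signedPerm_one_empty _

theorem per_conj (g : M24) {c : Finset GolayPt} (hc : c ∈ code) :
    per g * eps c * (per g)⁻¹ = eps (g.1 • c) := by
  simp only [per, eps, MonoidHom.comp_apply, ← permHom_sign g hc, map_mul, map_inv]

theorem sign_per_trivial {c : Finset GolayPt} (hc : c ∈ code) {g : M24} (h : eps c * per g = 1) :
    g = 1 ∧ (c = ∅ ∨ c = Finset.univ) := by
  have e : sign c * permHom g = mono g hc := by
    rw [sign_eq hc]
    refine ext_frame fun i => Subtype.ext ?_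
    simp only [mul_smul, show permHom g = mono g empty_mem_code from rfl, coe_mono_smul]
    rw [signedPerm_comp]
    congr 1
    all_goals simp [← Finset.bot_eq_empty]
  simp only [per, eps, MonoidHom.comp_apply, ← map_mul, e] at h
  rcases mk_eq_one.1 h with h | h
  · have h1 : mono (1 : M24) empty_mem_code = 1 := by
      refine ext_frame fun i => Subtype.ext ?_
      rw [coe_mono_smul, one_smul]
      exact signedPerm_one_empty _
    obtain ⟨a, b⟩ := mono_injective (h.trans h1.symm)
    exact ⟨a, Or.inl b⟩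
  · obtain ⟨a, b⟩ := mono_injective (h.trans rfl : mono g hc = mono 1 univ_mem_code)
    exact ⟨a, Or.inr b⟩

/-! ### The stabiliser of the base octad has no quotient of order two -/

theorem fpf_facts : isPermTab fpfTab = true ∧ checkAut fpfTab = true ∧
    (∀ p : GolayPt, (p ∈ O0) = (pt (fpfTab.getD (idx p) 0) ∈ O0)) ∧
    ∃ q : GolayPt, q ∉ O0 ∧ pt (fpfTab.getD (idx q) 0) = q ∧ ∀ p : GolayPt, p ∉ O0 → pt (fpfTab.getD (idx p) 0) = p → p = q := by
  simp only [eq_iff_iff]
  decide +kernel

theorem stab_hom_trivial {A : Type*} [CommGroup A] (χ : setStab O0 →* A) (k : setStab O0) : χ k = 1 := by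
  classical
  obtain ⟨hp, hA, hO, q, hq, hgq, hfix⟩ := fpf_facts
  set g := permOf fpfTab hp with hg
  have happ : ∀ p, g p = pt (fpfTab.getD (idx p) 0) := fun p => by
    rw [← tab_permOf hp (idx p) (idx_lt p), pt_idx, pt_idx]
  have hgs : g • O0 = O0 := by
    ext p
    rw [M24.mem_smul_iff, hO, ← happ, Equiv.Perm.coe_inv, Equiv.apply_symm_apply]
  have hgm : g ∈ setStab O0 := mem_setStab.2 ⟨(tab_permOf hp).mem_M24 hA, hgs⟩
  -- conjugation by `g` has no fixed point on the pointwise stabiliser
  have hnorm : ∀ a ∈ pointFix O0, g * a * g⁻¹ ∈ pointFix O0 := by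
    intro a ha
    rw [mem_pointFix] at ha ⊢
    refine ⟨mul_mem (mul_mem (mem_setStab.1 hgm).1 ha.1) (inv_mem (mem_setStab.1 hgm).1), fun x hx => ?_⟩
    rw [Equiv.Perm.mul_apply, Equiv.Perm.mul_apply, ha.2 (g⁻¹ x) ?_, Equiv.Perm.coe_inv,
      Equiv.apply_symm_apply]
    rw [← hgs] at hx
    exact M24.mem_smul_iff.1 hx
  let F : pointFix O0 → pointFix O0 := fun a =>
    ⟨g * a.1 * g⁻¹ * a.1⁻¹, mul_mem (hnorm a.1 a.2) (inv_mem a.2)⟩
  have hF : Function.Injective F := by
    intro a b e
    have e' : g * a.1 * g⁻¹ * a.1⁻¹ = g * b.1 * g⁻¹ * b.1⁻¹ := congrArg Subtype.val e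
    set c := b.1⁻¹ * a.1 with hc
    have hcm : c ∈ pointFix O0 := mul_mem (inv_mem b.2) a.2
    have hcg : g * c = c * g := by
      rw [hc, ← mul_inv_eq_iff_eq_mul]
      calc g * (b.1⁻¹ * a.1) * g⁻¹ = (g * b.1 * g⁻¹)⁻¹ * (g * a.1 * g⁻¹) := by group
        _ = (g * b.1 * g⁻¹ * b.1⁻¹ * b.1)⁻¹ * (g * a.1 * g⁻¹ * a.1⁻¹ * a.1) := by group
        _ = _ := by rw [e']; group
    have hqq : g q = q := by rw [happ, hgq]
    have hcq : c q = q := by
      refine hfix _ (M24.apply_notMem (mem_setStab.1 (M24.pointFix_le_setStab hcm)).2 hq) ?_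
      rw [← happ, ← Equiv.Perm.mul_apply, hcg, Equiv.Perm.mul_apply, hqq]
    have h1 := M24.eq_one_of_fix O0_mem hcm hq hcq
    exact Subtype.ext (inv_mul_eq_one.1 h1).symm
  have hFs : Function.Surjective F := Finite.injective_iff_surjective.1 hF
  have hP : ∀ (a : Equiv.Perm GolayPt) (ha : a ∈ pointFix O0),
      χ ⟨a, M24.pointFix_le_setStab ha⟩ = 1 := by
    intro a ha
    obtain ⟨b, hb⟩ := hFs ⟨a, ha⟩
    have hb' : g * b.1 * g⁻¹ * b.1⁻¹ = a := congrArg Subtype.val hb
    rw [show (⟨a, M24.pointFix_le_setStab ha⟩ : setStab O0) =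
      ⁅(⟨g, hgm⟩ : setStab O0), ⟨b.1, M24.pointFix_le_setStab b.2⟩⁆ from Subtype.ext hb'.symm]
    rw [map_commutatorElement, commutatorElement_eq_one_iff_commute]
    exact Commute.all _ _
  obtain ⟨e⟩ := M24.stabPt_equiv O0_mem hq
  have hperf : Group.IsPerfect (alternatingGroup (Fin 8)) :=
    ⟨commutator_alternatingGroup_eq_top (by simp)⟩
  have hQ : ∀ (a : Equiv.Perm GolayPt) (ha : a ∈ setStabPt O0 q), χ ⟨a, ha.1⟩ = 1 := by
    intro a ha
    have h := Schur.monoidHom_eq_one_of_perfect hperf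
      ((χ.comp (Subgroup.inclusion inf_le_left)).comp e.symm.toMonoidHom) (e ⟨a, ha⟩)
    simp only [MonoidHom.comp_apply, MulEquiv.toMonoidHom_eq_coe, MonoidHom.coe_coe,
      MulEquiv.symm_apply_apply] at h
    exact h
  have hsup := (M24.complement O0_mem hq).2
  have hle : setStab O0 ≤ χ.ker.map (setStab O0).subtype := by
    refine hsup.symm.le.trans (sup_le_iff.2 ?_)
    exact ⟨fun a ha => ⟨⟨a, M24.pointFix_le_setStab ha⟩, hP a ha, rfl⟩,
      fun a ha => ⟨⟨a, ha.1⟩, hQ a ha, rfl⟩⟩
  obtain ⟨k', hk', e'⟩ := hle k.2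
  exact (Subtype.ext e' : k' = k) ▸ hk'

/-! ### Checks on the derivation of the octads -/

/-- The derivation is valid. -/
def derOK : List ℕ → List (ℕ × ℕ) → Bool
  | _, [] => true
  | acc, (i, k) :: r => decide (i < acc.length) && decide (k < acc.length) &&
      (popc (acc.getD i 0 &&& acc.getD k 0) == 4 &&
        inCode (acc.getD i 0 ^^^ acc.getD k 0) && popc (acc.getD i 0 ^^^ acc.getD k 0) == 8) &&
      derOK (acc ++ [acc.getD i 0 ^^^ acc.getD k 0]) r

/-- The derived list. -/
def derList : List ℕ → List (ℕ × ℕ) → List ℕ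
  | acc, [] => acc
  | acc, (i, k) :: r => derList (acc ++ [acc.getD i 0 ^^^ acc.getD k 0]) r

/-- Every octad is in the list. -/
def coverOK (all : List ℕ) : Bool :=
  (List.range 4096).all fun m => !(popc (Golay.comb m) == 8) || all.contains (Golay.comb m)

theorem der_ok : derOK octBasis octSteps = true := by decide +kernel

theorem der_cover : coverOK (derList octBasis octSteps) = true := by decide +kernel

theorem basis_facts : octBasis.all (fun b => inCode b && popc b == 8) = true ∧ octBasis.length = 12 ∧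
    combAux octBasis allCoord = 2 ^ 24 - 1 ∧ allCoord.testBit 1 = true ∧
    ((List.range 4096).all fun m => !(combAux octBasis m == 0) || m == 0) = true ∧
    ((List.range 4096).all fun m => !(combAux octBasis m == 2 ^ 24 - 1) || m == allCoord) = true := by
  decide +kernel

theorem pat_facts : ∀ k : Fin 3, inCode (octPats.getD k.val (0, 0, 0)).1 = true ∧
    inCode (octPats.getD k.val (0, 0, 0)).2.1 = true ∧ inCode (octPats.getD k.val (0, 0, 0)).2.2 = true ∧
    popc (octPats.getD k.val (0, 0, 0)).1 = 8 ∧ popc (octPats.getD k.val (0, 0, 0)).2.1 = 8 ∧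
    popc (octPats.getD k.val (0, 0, 0)).2.2 = 8 ∧
    popc ((octPats.getD k.val (0, 0, 0)).2.1 &&& (octPats.getD k.val (0, 0, 0)).2.2) = 4 ∧
    popc ((octPats.getD k.val (0, 0, 0)).2.1 ^^^ (octPats.getD k.val (0, 0, 0)).2.2) = 8 ∧
    inCode ((octPats.getD k.val (0, 0, 0)).2.1 ^^^ (octPats.getD k.val (0, 0, 0)).2.2) = true ∧
    popc ((octPats.getD k.val (0, 0, 0)).1 &&& (octPats.getD k.val (0, 0, 0)).2.1) = [0, 4, 2].getD k.val 1 ∧
    popc ((octPats.getD k.val (0, 0, 0)).1 &&& (octPats.getD k.val (0, 0, 0)).2.2) = [0, 4, 2].getD k.val 1 ∧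
    popc ((octPats.getD k.val (0, 0, 0)).1 &&&
      ((octPats.getD k.val (0, 0, 0)).2.1 ^^^ (octPats.getD k.val (0, 0, 0)).2.2)) = [0, 4, 2].getD k.val 1 := by
  decide +kernel

theorem toSet_xor' (a b : ℕ) : toSet (a ^^^ b) = symmDiff (toSet a) (toSet b) := OutCo1.toSet_xor a b

theorem card_inter (a b : ℕ) : (toSet a ∩ toSet b).card = popc (a &&& b) := by
  rw [Golay.toSet_inter, card_toSet]

theorem exists_smul_O0 {o : Finset GolayPt} (ho : o ∈ octads) : ∃ g : M24, g.1 • O0 = o := by
  obtain ⟨g, hg, hgo⟩ := M24.exists_base_octad ho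
  exact ⟨⟨g, hg⟩, hgo⟩

theorem smul_octad (g : M24) {o : Finset GolayPt} (ho : o ∈ octads) : g.1 • o ∈ octads := by
  exact Golay.smul_mem_octads g.2 ho

/-- Pairs of octads with equal intersection size are conjugate. -/
theorem pair_transitive {a b a' b' : Finset GolayPt} (ha : a ∈ octads) (hb : b ∈ octads)
    (ha' : a' ∈ octads) (hb' : b' ∈ octads)
    (hk : (a ∩ b).card = 0 ∨ (a ∩ b).card = 2 ∨ (a ∩ b).card = 4)
    (he : (a ∩ b).card = (a' ∩ b').card) : ∃ g : M24, g.1 • a = a' ∧ g.1 • b = b' := by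
  obtain ⟨g, rfl⟩ := exists_smul_O0 ha
  obtain ⟨g', rfl⟩ := exists_smul_O0 ha'
  have hcard : ∀ (h : M24) (c : Finset GolayPt),
      (O0 ∩ h.1⁻¹ • c).card = (h.1 • O0 ∩ c).card := fun h c => by
    rw [← Finset.card_smul_finset h.1 (O0 ∩ _), Finset.smul_finset_inter, smul_inv_smul]
  obtain ⟨k, hk24, hkO, hks⟩ := M24.octad_class_transitive
    (smul_octad g⁻¹ hb) (smul_octad g'⁻¹ hb') (by rw [show ((g⁻¹ : M24) : Equiv.Perm GolayPt) = g.1⁻¹ from rfl, hcard]; exact hk)
    (by
      rw [show ((g⁻¹ : M24) : Equiv.Perm GolayPt) = g.1⁻¹ from rfl,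
        show ((g'⁻¹ : M24) : Equiv.Perm GolayPt) = g'.1⁻¹ from rfl, hcard, hcard]
      exact he)
  refine ⟨g' * ⟨k, hk24⟩ * g⁻¹, ?_, ?_⟩
  · show (g'.1 * k * g.1⁻¹) • (g.1 • O0) = g'.1 • O0
    rw [← mul_smul, mul_assoc, inv_mul_cancel, mul_one, mul_smul, hkO]
  · show (g'.1 * k * g.1⁻¹) • b = b'
    rw [mul_smul, mul_smul, show g.1⁻¹ • b = ((g⁻¹ : M24) : Equiv.Perm GolayPt) • b from rfl, hks]
    exact smul_inv_smul _ _

/-! ### The bound -/

/-- The product of the entries selected by the bits. -/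
def prodAux {M : Type*} [Monoid M] : List M → ℕ → M
  | [], _ => 1
  | b :: bs, m => (if m.testBit 0 then b else 1) * prodAux bs (m / 2)

theorem prodAux_mul {M : Type*} [Monoid M] : ∀ (L : List M), (∀ a ∈ L, ∀ b ∈ L, Commute a b) →
    (∀ a ∈ L, a * a = 1) → ∀ m m', prodAux L (m ^^^ m') = prodAux L m * prodAux L m'
  | [], _, _, _, _ => (mul_one 1).symm
  | b :: bs, hc, h2, m, m' => by
    have hcb : ∀ n, Commute b (prodAux bs n) := by
      have : ∀ (L : List M), (∀ a ∈ L, Commute b a) → ∀ n, Commute b (prodAux L n) := by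
        intro L
        induction L with
        | nil => exact fun _ n => Commute.one_right b
        | cons a as ih =>
          intro h n
          rw [prodAux]
          refine Commute.mul_right ?_ (ih (fun x hx => h x (List.mem_cons_of_mem _ hx)) _)
          split
          exacts [h a List.mem_cons_self, Commute.one_right b]
      exact this bs fun a ha => hc b List.mem_cons_self a (List.mem_cons_of_mem _ ha)
    have ih := prodAux_mul bs (fun x hx y hy => hc x (List.mem_cons_of_mem _ hx) y (List.mem_cons_of_mem _ hy))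
      (fun x hx => h2 x (List.mem_cons_of_mem _ hx)) (m / 2) (m' / 2)
    simp only [prodAux, Nat.testBit_xor, Nat.xor_div_two, ih]
    have hbb := h2 b List.mem_cons_self
    cases m.testBit 0 <;> cases m'.testBit 0 <;>
      simp only [Bool.xor_false, Bool.false_xor, Bool.true_xor, Bool.not_true, if_true,
        Bool.false_eq_true, if_false, one_mul]
    · rw [← mul_assoc, ← mul_assoc, (hcb (m / 2)).eq]
    · rw [mul_assoc]
    · rw [← mul_assoc (b * prodAux bs (m / 2)), mul_assoc b, ← (hcb (m / 2)).eq, ← mul_assoc b, hbb, one_mul]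

variable {Γ : Type} [Group Γ] [Finite Γ] (σ : Γ →* Spor.Co1) (hσ : Cfsg.IsStemExtension σ)
include hσ

theorem card_ker_le_two : Nat.card σ.ker ≤ 2 := by
  classical
  obtain ⟨hσs, hc, -⟩ := id hσ
  haveI := finite_Co1
  have : IsSimpleGroup M24 := Golay.isSimpleGroup_M24
  have hperf : Group.IsPerfect M24 := Golay.Mult.isPerfect_of_simple (by
    rw [Golay.card_M24]; norm_num)
  obtain ⟨lam, hlam⟩ := Schur.exists_lift_of_trivial hperf
    Golay.Mult.hasCyclicSchurMultiplier_M24 per σ hσs hc
  have hlam' : ∀ g, σ (lam g) = per g := fun g => by rw [← hlam]; rfl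
  -- the kernel is a two-group
  have hodd : ∀ ℓ : ℕ, ℓ.Prime → ℓ ≠ 2 → ¬ ℓ ∣ Nat.card σ.ker := fun ℓ h h' =>
    not_dvd_odd σ hσ h h'
  have hcop3 : (Nat.card σ.ker).Coprime 3 :=
    Nat.Coprime.symm ((Nat.Prime.coprime_iff_not_dvd Nat.prime_three).2 (hodd 3 Nat.prime_three (by norm_num)))
  have hK : ∀ {u v : Γ}, σ u = σ v → u⁻¹ * v ∈ σ.ker := fun h => by
    rw [MonoidHom.mem_ker, map_mul, map_inv, h, inv_mul_cancel]
  -- the lifts of the sign changes on octads
  obtain ⟨e0, he0⟩ := hσs (eps O0)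
  have hO := code_of_octad O0_mem
  let χ0 : setStab O0 → Γ := fun k => ⁅lam ⟨k.1, (mem_setStab.1 k.2).1⟩, e0⁆
  have hχk : ∀ k, χ0 k ∈ σ.ker := fun k => by
    refine comm_mem_ker σ ?_
    rw [hlam', he0]
    show _ = _
    rw [← mul_inv_eq_iff_eq_mul, per_conj _ hO, (mem_setStab.1 k.2).2]
  let _ : CommGroup σ.ker :=
    { mul_comm := fun a b => Subtype.ext (Subgroup.mem_center_iff.1 (hc b.2) a.1) }
  let χ : setStab O0 →* σ.ker := MonoidHom.mk' (fun k => ⟨χ0 k, hχk k⟩) fun a b => Subtype.ext (by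
    show ⁅lam (⟨a.1, (mem_setStab.1 a.2).1⟩ * ⟨b.1, (mem_setStab.1 b.2).1⟩), e0⁆ = χ0 a * χ0 b
    rw [map_mul, Golay.Mult.commutatorElement_mul_left,
      ← (ker_commute σ hc (hχk b) _).eq, mul_inv_cancel_right]
    exact (ker_commute σ hc (hχk b) _).eq)
  have hstab : ∀ k : M24, k.1 • O0 = O0 → lam k * e0 * (lam k)⁻¹ = e0 := fun k hk => by
    have h := congrArg Subtype.val (stab_hom_trivial χ ⟨k.1, mem_setStab.2 ⟨k.2, hk⟩⟩)
    exact commutatorElement_eq_one_iff_commute.1 h |>.eq ▸ mul_inv_cancel_right _ _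
  have hsel : ∀ o : Finset GolayPt, ∃ g : M24, o ∈ octads → g.1 • O0 = o := fun o => by
    by_cases h : o ∈ octads
    · obtain ⟨g, hg⟩ := exists_smul_O0 h
      exact ⟨g, fun _ => hg⟩
    · exact ⟨1, fun h' => absurd h' h⟩
  choose gsel hgsel using hsel
  let s : Finset GolayPt → Γ := fun o => lam (gsel o) * e0 * (lam (gsel o))⁻¹
  have heq : ∀ (h : M24) {o : Finset GolayPt}, o ∈ octads → lam h * s o * (lam h)⁻¹ = s (h.1 • o) := by
    intro h o ho
    have hk := hstab ((gsel (h.1 • o))⁻¹ * h * gsel o) (by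
      show ((gsel (h.1 • o)).1⁻¹ * h.1 * (gsel o).1) • O0 = O0
      rw [mul_smul, mul_smul, hgsel o ho]
      conv_lhs => arg 2; rw [← hgsel _ (smul_octad h ho)]
      rw [inv_smul_smul])
    simp only [map_mul, map_inv] at hk
    calc lam h * s o * (lam h)⁻¹ = lam (gsel (h.1 • o)) *
          ((lam (gsel (h.1 • o)))⁻¹ * lam h * lam (gsel o) * e0 *
            ((lam (gsel (h.1 • o)))⁻¹ * lam h * lam (gsel o))⁻¹) * (lam (gsel (h.1 • o)))⁻¹ := by
          simp only [s]; group
      _ = _ := by rw [hk]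
  have hσs' : ∀ {o : Finset GolayPt}, o ∈ octads → σ (s o) = eps o := fun {o} ho => by
    show σ (lam (gsel o) * e0 * (lam (gsel o))⁻¹) = _
    rw [map_mul, map_mul, map_inv, hlam', he0, per_conj _ hO, hgsel o ho]
  have hepscomm : ∀ {a b : Finset GolayPt}, a ∈ octads → b ∈ octads → Commute (eps a) (eps b) :=
    fun {a b} ha hb => by
    show _ = _
    rw [eps_mul (code_of_octad ha) (code_of_octad hb), eps_mul (code_of_octad hb) (code_of_octad ha),
      symmDiff_comm]
  have hcommK : ∀ {a b : Finset GolayPt}, a ∈ octads → b ∈ octads → ⁅s a, s b⁆ ∈ σ.ker := fun ha hb =>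
    comm_mem_ker σ (by rw [hσs' ha, hσs' hb]; exact hepscomm ha hb)
  have hinv : ∀ (g : M24) {z : Γ}, z ∈ σ.ker → lam g * z * (lam g)⁻¹ = z := fun g z hz => by
    rw [← (ker_commute σ hc hz _).eq, mul_inv_cancel_right]
  have hlin : ∀ {o a b : Finset GolayPt}, o ∈ octads → a ∈ octads → b ∈ octads → symmDiff a b ∈ octads →
      ⁅s o, s (symmDiff a b)⁆ = ⁅s o, s a⁆ * ⁅s o, s b⁆ := by
    intro o a b ho ha hb hab
    rw [Golay.Mult.comm_congr σ hc (x' := s o) (y' := s a * s b) rfl
      (by rw [hσs' hab, map_mul σ (s a) (s b), hσs' ha, hσs' hb,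
        eps_mul (code_of_octad ha) (code_of_octad hb)])]
    rw [show ⁅s o, s a * s b⁆ = ⁅s o, s a⁆ * (s a * ⁅s o, s b⁆ * (s a)⁻¹) by
      simp only [commutatorElement_def]; group,
      ← (ker_commute σ hc (hcommK ho hb) (s a)).eq, mul_inv_cancel_right]
  have hconst : ∀ {a b a' b' : Finset GolayPt}, a ∈ octads → b ∈ octads → a' ∈ octads → b' ∈ octads →
      ((a ∩ b).card = 0 ∨ (a ∩ b).card = 2 ∨ (a ∩ b).card = 4) → (a ∩ b).card = (a' ∩ b').card →
      ⁅s a', s b'⁆ = ⁅s a, s b⁆ := by
    intro a b a' b' ha hb ha' hb' hk he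
    obtain ⟨g, rfl, rfl⟩ := pair_transitive ha hb ha' hb' hk he
    rw [← heq g ha, ← heq g hb, show ⁅lam g * s a * (lam g)⁻¹, lam g * s b * (lam g)⁻¹⁆ =
      lam g * ⁅s a, s b⁆ * (lam g)⁻¹ by simp only [commutatorElement_def]; group,
      hinv g (hcommK ha hb)]
  have hsq2 : ∀ {a b : Finset GolayPt}, a ∈ octads → b ∈ octads → ⁅s a, s b⁆ ^ 2 = 1 := fun {a b} ha hb =>
    comm_pow_eq_one_left σ hc (by rw [hσs' ha, hσs' hb]; exact hepscomm ha hb)
      (by rw [hσs' ha, sq, eps_sq (code_of_octad ha)])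
  have hone : ∀ {a b : Finset GolayPt}, a ∈ octads → b ∈ octads → ⁅s a, s b⁆ = 1 := by
    intro a b ha hb
    have key : ∀ k : Fin 3, ∀ {a b : Finset GolayPt}, a ∈ octads → b ∈ octads →
        (a ∩ b).card = [0, 4, 2].getD k.val 1 → ⁅s a, s b⁆ = 1 := by
      intro k a b ha hb hab
      obtain ⟨i1, i2, i3, p1, p2, p3, -, p8, i8, c1, c2, c3⟩ := pat_facts k
      set P := octPats.getD k.val (0, 0, 0)
      have m1 : toSet P.1 ∈ octads := octad_mem_iff.2 ⟨_, i1, p1, rfl⟩
      have m2 : toSet P.2.1 ∈ octads := octad_mem_iff.2 ⟨_, i2, p2, rfl⟩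
      have m3 : toSet P.2.2 ∈ octads := octad_mem_iff.2 ⟨_, i3, p3, rfl⟩
      have m4 : symmDiff (toSet P.2.1) (toSet P.2.2) ∈ octads :=
        octad_mem_iff.2 ⟨_, i8, p8, toSet_xor' _ _⟩
      have hk024 := (show ∀ k : Fin 3, [0, 4, 2].getD k.val 1 = 0 ∨ [0, 4, 2].getD k.val 1 = 2 ∨
        [0, 4, 2].getD k.val 1 = 4 by decide) k
      have e1 := hconst ha hb m1 m2 (hab ▸ hk024) (by rw [hab, card_inter, c1])
      have e2 := hconst ha hb m1 m3 (hab ▸ hk024) (by rw [hab, card_inter, c2])
      have e3 := hconst ha hb m1 m4 (hab ▸ hk024) (by rw [hab, ← toSet_xor', card_inter, c3])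
      rw [hlin m1 m2 m3 m4, e1, e2, ← sq, hsq2 ha hb] at e3
      exact e3.symm
    rcases M24.octad_inter_card ha hb with h | h | h | h
    · exact key ⟨0, by norm_num⟩ ha hb h
    · exact key ⟨2, by norm_num⟩ ha hb h
    · exact key ⟨1, by norm_num⟩ ha hb h
    · subst h; exact commutatorElement_self _
  -- squares and triangles
  set w := s O0 * s O0 with hw
  have hwk : w ∈ σ.ker := by rw [MonoidHom.mem_ker, map_mul, hσs' O0_mem, eps_sq hO]
  have hsqs : ∀ {o : Finset GolayPt}, o ∈ octads → s o * s o = w := by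
    intro o ho
    obtain ⟨g, rfl⟩ := exists_smul_O0 ho
    rw [← heq g O0_mem, show lam g * s O0 * (lam g)⁻¹ * (lam g * s O0 * (lam g)⁻¹) =
      lam g * (s O0 * s O0) * (lam g)⁻¹ by group, hinv g hwk]
  obtain ⟨i1, i2, i3, p1, p2, p3, p4, p8, i8, -, -, -⟩ := pat_facts ⟨0, by norm_num⟩
  set A := toSet (octPats.getD 0 (0, 0, 0)).2.1 with hAdef
  set A' := toSet (octPats.getD 0 (0, 0, 0)).2.2 with hA'def
  have mA : A ∈ octads := octad_mem_iff.2 ⟨_, i2, p2, rfl⟩
  have mA' : A' ∈ octads := octad_mem_iff.2 ⟨_, i3, p3, rfl⟩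
  have mAA : symmDiff A A' ∈ octads := octad_mem_iff.2 ⟨_, i8, p8, toSet_xor' _ _⟩
  have hA4 : (A ∩ A').card = 4 := (card_inter _ _).trans p4
  set z := s A * s A' * s (symmDiff A A') with hz
  have hzk : z ∈ σ.ker := by
    rw [MonoidHom.mem_ker, map_mul, map_mul, hσs' mA, hσs' mA', hσs' mAA,
      eps_mul (code_of_octad mA) (code_of_octad mA'), eps_sq (code_of_octad mAA)]
  have htri : ∀ {a b : Finset GolayPt}, a ∈ octads → b ∈ octads → (a ∩ b).card = 4 →
      s a * s b * s (symmDiff a b) = z := by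
    intro a b ha hb h4
    obtain ⟨g, rfl, rfl⟩ := pair_transitive mA mA' ha hb (Or.inr (Or.inr hA4)) (hA4.trans h4.symm)
    rw [← smul_symmDiff_finset, ← heq g mA, ← heq g mA', ← heq g mAA,
      show lam g * s A * (lam g)⁻¹ * (lam g * s A' * (lam g)⁻¹) *
        (lam g * s (symmDiff A A') * (lam g)⁻¹) = lam g * z * (lam g)⁻¹ by rw [hz]; group,
      hinv g hzk]
  obtain ⟨c, hck, hc3⟩ : ∃ c ∈ σ.ker, c ^ 3 = z⁻¹ := by
    obtain ⟨c, hc3⟩ := (powCoprime hcop3).surjective (⟨z, hzk⟩⁻¹ : σ.ker)
    exact ⟨c.1, c.2, congrArg Subtype.val hc3⟩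
  have hcc := ker_commute σ hc hck
  set t : Finset GolayPt → Γ := fun o => s o * c with ht
  have hz2 : z * z = w ^ 3 := by
    have k1 : Commute (s A) (s A') := commutatorElement_eq_one_iff_commute.1 (hone mA mA')
    have k2 : Commute (s A) (s (symmDiff A A')) := commutatorElement_eq_one_iff_commute.1 (hone mA mAA)
    have k3 : Commute (s A') (s (symmDiff A A')) := commutatorElement_eq_one_iff_commute.1 (hone mA' mAA)
    rw [hz, (k2.mul_left k3).symm.mul_mul_mul_comm, k1.symm.mul_mul_mul_comm, hsqs mA, hsqs mA', hsqs mAA]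
    simp [pow_succ]
  have hts : ∀ {o : Finset GolayPt}, o ∈ octads → t o * t o = 1 := by
    intro o ho
    have e : t o * t o = w * (c * c) := by
      simp only [ht]; rw [(hcc (s o)).mul_mul_mul_comm, hsqs ho]
    rw [e]
    have hk : w * (c * c) ∈ σ.ker := mul_mem hwk (mul_mem hck hck)
    have h3 : (w * (c * c)) ^ 3 = 1 := by
      rw [(ker_commute σ hc hwk _).mul_pow, ← hz2, (Commute.refl c).mul_pow, hc3]
      group
    have := (powCoprime hcop3).injective (a₁ := (⟨_, hk⟩ : σ.ker)) (a₂ := 1) (Subtype.ext (by simpa using h3))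
    exact congrArg Subtype.val this
  have htt : ∀ {a b : Finset GolayPt}, a ∈ octads → b ∈ octads → Commute (t a) (t b) := fun ha hb =>
    ((commutatorElement_eq_one_iff_commute.1 (hone ha hb)).mul_right (hcc _).symm).mul_left
      ((hcc _).mul_right (Commute.refl c))
  have hσt : ∀ {o : Finset GolayPt}, o ∈ octads → σ (t o) = eps o := fun ho => by
    simp only [ht]; rw [map_mul, hσs' ho, MonoidHom.mem_ker.1 hck, mul_one]
  have heqt : ∀ (h : M24) {o : Finset GolayPt}, o ∈ octads → lam h * t o * (lam h)⁻¹ = t (h.1 • o) :=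
    fun h {o} ho => by
    simp only [ht]; rw [← heq h ho]
    calc lam h * (s o * c) * (lam h)⁻¹ = lam h * s o * (lam h)⁻¹ * (lam h * c * (lam h)⁻¹) := by group
      _ = _ := by rw [hinv h hck]
  have htri' : ∀ {a b : Finset GolayPt}, a ∈ octads → b ∈ octads → (a ∩ b).card = 4 →
      symmDiff a b ∈ octads → t (symmDiff a b) = t a * t b := by
    intro a b ha hb h4 hab
    have h1 : t a * t b * t (symmDiff a b) = 1 := by
      have e : t a * t b * t (symmDiff a b) = s a * s b * s (symmDiff a b) * (c * c * c) := by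
        simp only [ht]
        rw [(hcc (s b)).mul_mul_mul_comm, (((hcc _).mul_left (hcc _))).mul_mul_mul_comm]
      rw [e, htri ha hb h4, show c * c * c = c ^ 3 by simp [pow_succ], hc3, mul_inv_cancel]
    calc t (symmDiff a b) = (t a * t b)⁻¹ := (inv_eq_of_mul_eq_one_right h1).symm
      _ = t a * t b := inv_eq_of_mul_eq_one_right (by
        rw [(htt ha hb).symm.mul_mul_mul_comm, hts ha, hts hb, one_mul])
  -- the elementary abelian group spanned by the twelve lifts
  obtain ⟨hbas, hlen, hu, hu1, hker0, hker1⟩ := basis_facts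
  simp only [List.all_eq_true, Bool.and_eq_true, beq_iff_eq] at hbas
  have hbm : ∀ b ∈ octBasis, toSet b ∈ octads := fun b hb => octad_mem_iff.2 ⟨b, (hbas b hb).1, (hbas b hb).2, rfl⟩
  set Lt := octBasis.map fun b => t (toSet b) with hLt
  have hxor : ∀ m m', prodAux Lt (m ^^^ m') = prodAux Lt m * prodAux Lt m' := prodAux_mul Lt
    (by
      simp only [hLt, List.mem_map]
      rintro _ ⟨a, ha, rfl⟩ _ ⟨b, hb, rfl⟩
      exact htt (hbm a ha) (hbm b hb))
    (by
      simp only [hLt, List.mem_map]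
      rintro _ ⟨a, ha, rfl⟩
      exact hts (hbm a ha))
  have hσP : ∀ m, toSet (combAux octBasis m) ∈ code ∧
      σ (prodAux Lt m) = eps (toSet (combAux octBasis m)) := by
    have key : ∀ L : List ℕ, (∀ b ∈ L, toSet b ∈ octads) → ∀ m, toSet (combAux L m) ∈ code ∧
        σ (prodAux (L.map fun b => t (toSet b)) m) = eps (toSet (combAux L m)) := by
      intro L
      induction L with
      | nil =>
        intro _ m
        refine ⟨by rw [combAux, OutCo1.toSet_zero]; exact empty_mem_code, ?_⟩
        rw [List.map_nil, prodAux, map_one, combAux, OutCo1.toSet_zero, eps, sign_eq empty_mem_code]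
        refine (mk_eq_one.2 (Or.inl (ext_frame fun i => Subtype.ext ?_))).symm
        rw [coe_mono_smul, one_smul]
        exact signedPerm_one_empty _
      | cons b bs ih =>
        intro hL m
        obtain ⟨h1, h2⟩ := ih (fun x hx => hL x (List.mem_cons_of_mem _ hx)) (m / 2)
        rw [List.map_cons, prodAux, combAux, map_mul, h2]
        have hb := hL b List.mem_cons_self
        cases m.testBit 0
        · simp only [Bool.false_eq_true, if_false, Nat.zero_xor, map_one, one_mul]
          exact ⟨h1, trivial⟩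
        · simp only [if_true, hσt hb, toSet_xor']
          exact ⟨symmDiff_mem_code (code_of_octad hb) h1, eps_mul (code_of_octad hb) h1⟩
    exact key octBasis hbm
  have h0 : prodAux Lt 0 = 1 := by
    have h := hxor 0 0
    rw [Nat.xor_self] at h
    exact mul_left_cancel (h.symm.trans (mul_one _).symm)
  let Bs : Subgroup Γ :=
    { carrier := {x | ∃ m < 4096, prodAux Lt m = x}
      one_mem' := ⟨0, by norm_num, by
        have h := hxor 0 0
        rw [Nat.xor_self] at h
        exact mul_left_cancel (h.symm.trans (mul_one _).symm)⟩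
      mul_mem' := by
        rintro _ _ ⟨m, hm, rfl⟩ ⟨m', hm', rfl⟩
        exact ⟨m ^^^ m', Nat.xor_lt_two_pow (n := 12) hm hm', hxor m m'⟩
      inv_mem' := by
        rintro _ ⟨m, hm, rfl⟩
        refine ⟨m, hm, (inv_eq_of_mul_eq_one_right ?_).symm⟩
        have h0 : prodAux Lt 0 = 1 := by
          have h := hxor 0 0
          rw [Nat.xor_self] at h
          exact mul_left_cancel (h.symm.trans (mul_one _).symm)
        rw [← hxor, Nat.xor_self, h0] }
  have hder : ∀ (steps : List (ℕ × ℕ)) (acc : List ℕ), derOK acc steps = true →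
      (∀ x ∈ acc, toSet x ∈ octads ∧ t (toSet x) ∈ Bs) →
      ∀ x ∈ derList acc steps, toSet x ∈ octads ∧ t (toSet x) ∈ Bs := by
    intro steps
    induction steps with
    | nil => exact fun acc _ h => h
    | cons st r ih =>
      obtain ⟨i, k⟩ := st
      intro acc hok hacc
      simp only [derOK, Bool.and_eq_true, decide_eq_true_eq, beq_iff_eq] at hok
      obtain ⟨⟨⟨hi, hk⟩, ⟨h4, hin⟩, h8⟩, hr⟩ := hok
      refine ih _ hr fun x hx => ?_
      rcases List.mem_append.1 hx with hx | hx
      · exact hacc x hx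
      · rw [List.mem_singleton] at hx
        subst hx
        have mi := hacc (acc.getD i 0) (by rw [List.getD_eq_getElem _ _ hi]; exact List.getElem_mem _)
        have mk' := hacc (acc.getD k 0) (by rw [List.getD_eq_getElem _ _ hk]; exact List.getElem_mem _)
        have hm : toSet (acc.getD i 0 ^^^ acc.getD k 0) ∈ octads := octad_mem_iff.2 ⟨_, hin, h8, rfl⟩
        refine ⟨hm, ?_⟩
        rw [toSet_xor'] at hm ⊢
        rw [htri' mi.1 mk'.1 (by rw [card_inter]; exact h4) hm]
        exact mul_mem mi.2 mk'.2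
  have hbase : ∀ x ∈ octBasis, toSet x ∈ octads ∧ t (toSet x) ∈ Bs := by
    have hsingle : ∀ L : List ℕ, ∀ i < L.length,
        prodAux (L.map fun b => t (toSet b)) (2 ^ i) = t (toSet (L.getD i 0)) := by
      have h0 : ∀ L : List Γ, prodAux L 0 = 1 := by
        intro L
        induction L with
        | nil => rfl
        | cons a as ih => rw [prodAux, Nat.zero_testBit, Nat.zero_div, ih]; simp
      intro L
      induction L with
      | nil => intro i hi; simp at hi
      | cons b bs ih =>
        intro i hi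
        rw [List.map_cons, prodAux]
        cases i with
        | zero => rw [pow_zero, show (1 : ℕ) / 2 = 0 from rfl, h0]; simp
        | succ i =>
          rw [Nat.pow_succ, Nat.mul_div_cancel _ (by norm_num : 0 < 2), ih i (by simpa using hi)]
          simp [Nat.testBit_zero]
    intro x hx
    refine ⟨hbm x hx, ?_⟩
    obtain ⟨i, hi, rfl⟩ := List.mem_iff_getElem.1 hx
    refine ⟨2 ^ i, Nat.pow_lt_pow_right (by norm_num) (hlen ▸ hi : i < 12), ?_⟩
    rw [hLt, hsingle octBasis i hi, List.getD_eq_getElem _ _ hi]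
  have hall : ∀ {o : Finset GolayPt}, o ∈ octads → t o ∈ Bs := by
    intro o ho
    obtain ⟨n, hn, h8, rfl⟩ := octad_mem_iff.1 ho
    have hcov := der_cover
    simp only [coverOK, List.all_eq_true, List.mem_range, Bool.or_eq_true, Bool.not_eq_true',
      List.contains_iff_mem] at hcov
    have hn' : Golay.comb (n % 4096) = n := beq_iff_eq.1 hn
    have := hcov (n % 4096) (Nat.mod_lt _ (by norm_num))
    rw [hn', h8] at this
    simp only [beq_self_eq_true, Bool.true_eq_false, false_or] at this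
    exact (hder octSteps octBasis der_ok hbase n this).2
  have hBnorm : lam.range ≤ normalizer (Bs : Set Γ) := by
    have hle : ∀ g : M24, ∀ x ∈ Bs, lam g * x * (lam g)⁻¹ ∈ Bs := by
      rintro g _ ⟨m, -, rfl⟩
      have key : ∀ L : List ℕ, (∀ b ∈ L, toSet b ∈ octads) → ∀ m,
          lam g * prodAux (L.map fun b => t (toSet b)) m * (lam g)⁻¹ ∈ Bs := by
        intro L
        induction L with
        | nil => intro _ m; rw [List.map_nil, prodAux, mul_one, mul_inv_cancel]; exact one_mem _
        | cons b bs ih =>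
          intro hL m
          rw [List.map_cons, prodAux, show ∀ u v : Γ, lam g * (u * v) * (lam g)⁻¹ =
            lam g * u * (lam g)⁻¹ * (lam g * v * (lam g)⁻¹) from fun u v => by group]
          refine mul_mem ?_ (ih (fun x hx => hL x (List.mem_cons_of_mem _ hx)) _)
          cases m.testBit 0
          · simp
          · simp only [if_true]
            rw [heqt g (hL b List.mem_cons_self)]
            exact hall (smul_octad g (hL b List.mem_cons_self))
      exact key octBasis hbm m
    rintro _ ⟨g, rfl⟩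
    rw [Subgroup.mem_normalizer_iff]
    refine fun x => ⟨fun hx => hle g x hx, fun hx => ?_⟩
    have := hle g⁻¹ _ hx
    simpa [mul_assoc] using this
  set U := Bs ⊔ lam.range with hU
  have hUdec : ∀ u ∈ U, ∃ m < 4096, ∃ g : M24, prodAux Lt m * lam g = u := by
    intro u hu'
    have hu2 : u ∈ ((Bs ⊔ lam.range : Subgroup Γ) : Set Γ) := hu'
    rw [Subgroup.coe_mul_of_right_le_normalizer_left Bs lam.range hBnorm] at hu2
    obtain ⟨b, ⟨m, hm, rfl⟩, _, ⟨g, rfl⟩, e⟩ := hu2
    exact ⟨m, hm, g, e⟩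
  -- the intersection with the kernel
  have hinter : Nat.card (σ.ker ⊓ U : Subgroup Γ) ≤ 2 := by
    have hsub : ((σ.ker ⊓ U : Subgroup Γ) : Set Γ) ⊆ {1, prodAux Lt allCoord} := by
      rintro u ⟨hu0, huU⟩
      obtain ⟨m, hm, g, rfl⟩ := hUdec u huU
      have h : σ (prodAux Lt m * lam g) = 1 := hu0
      rw [map_mul, (hσP m).2, hlam'] at h
      obtain ⟨rfl, hcs⟩ := sign_per_trivial (hσP m).1 h
      rw [map_one, mul_one]
      simp only [List.all_eq_true, List.mem_range, Bool.or_eq_true, Bool.not_eq_true', beq_iff_eq,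
        beq_eq_false_iff_ne] at hker0 hker1
      have hlt : combAux octBasis m < 2 ^ 24 := by
        have hcl : ∀ L : List ℕ, (∀ b ∈ L, b < 2 ^ 24) → ∀ m, combAux L m < 2 ^ 24 := by
          intro L
          induction L with
          | nil => intro _ m; simp [combAux]
          | cons b bs ih =>
            intro hL m
            rw [combAux]
            refine Nat.xor_lt_two_pow ?_ (ih (fun x hx => hL x (List.mem_cons_of_mem _ hx)) _)
            split
            exacts [hL b List.mem_cons_self, by norm_num]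
        exact hcl _ (fun b hb => Golay.inCode_lt (hbas b hb).1) m
      rcases hcs with e | e
      · rw [← OutCo1.toSet_zero] at e
        have := (hker0 m hm).resolve_left (not_not.2 (Golay.toSet_injOn hlt (by norm_num) e))
        left
        subst this
        exact h0
      · rw [← OutCo1.toSet_allMask] at e
        have := (hker1 m hm).resolve_left (not_not.2 (Golay.toSet_injOn hlt (by decide) e))
        right
        subst this
        rfl
    calc Nat.card (σ.ker ⊓ U : Subgroup Γ) = ((σ.ker ⊓ U : Subgroup Γ) : Set Γ).ncard :=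
          Nat.card_coe_set_eq _
      _ ≤ ({1, prodAux Lt allCoord} : Set Γ).ncard := Set.ncard_le_ncard hsub (Set.toFinite _)
      _ ≤ 2 := (Set.ncard_insert_le _ _).trans (by simp)
  -- the order of the image
  set S := U.map σ with hS
  have hcardS : Nat.card S = 2048 * 244823040 := by
    rw [← Golay.card_M24, show (2048 : ℕ) = Nat.card (Fin 2048) by simp, ← Nat.card_prod]
    have hmem : ∀ m g, σ (prodAux Lt m * lam g) ∈ S → True := fun _ _ _ => trivial
    let ext : Fin 2048 → ℕ := fun m => m.val % 2 + 4 * (m.val / 2)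
    let f : Fin 2048 × M24 → S := fun p => ⟨σ (prodAux Lt (ext p.1) * lam p.2), mem_map_of_mem σ
      (mul_mem (mem_sup_left ⟨ext p.1, by simp only [ext]; omega, rfl⟩) (mem_sup_right ⟨p.2, rfl⟩))⟩
    refine (Nat.card_eq_of_bijective f ⟨?_, ?_⟩).symm
    · rintro ⟨m, g⟩ ⟨m', g'⟩ e
      have e' : σ (prodAux Lt (ext m) * lam g) = σ (prodAux Lt (ext m') * lam g') := congrArg Subtype.val e
      have hk : σ (prodAux Lt (ext m ^^^ ext m')) * σ (lam (g * g'⁻¹)) = 1 := by
        rw [← map_mul, hxor, map_mul lam, map_inv]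
        have hself : prodAux Lt (ext m') * prodAux Lt (ext m') = 1 := by
          rw [← hxor, Nat.xor_self]
          have h := hxor 0 0
          rw [Nat.xor_self] at h
          exact mul_left_cancel (h.symm.trans (mul_one _).symm)
        have hcomm : prodAux Lt (ext m) * prodAux Lt (ext m') = prodAux Lt (ext m') * prodAux Lt (ext m) := by
          rw [← hxor, ← hxor, Nat.xor_comm]
        rw [hcomm]
        calc σ (prodAux Lt (ext m') * prodAux Lt (ext m) * (lam g * (lam g')⁻¹))
            = σ (prodAux Lt (ext m')) * (σ (prodAux Lt (ext m) * lam g)) * σ ((lam g')⁻¹) := by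
              simp only [map_mul, mul_assoc]
          _ = σ (prodAux Lt (ext m') * prodAux Lt (ext m') * (lam g' * (lam g')⁻¹)) := by
              rw [e']; simp only [map_mul, mul_assoc]
          _ = 1 := by rw [hself, mul_inv_cancel, mul_one, map_one]
      rw [(hσP _).2, hlam'] at hk
      obtain ⟨hg, hcs⟩ := sign_per_trivial (hσP _).1 hk
      simp only [List.all_eq_true, List.mem_range, Bool.or_eq_true, Bool.not_eq_true', beq_iff_eq,
        beq_eq_false_iff_ne] at hker0 hker1
      have hm : ext m ^^^ ext m' < 4096 :=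
        Nat.xor_lt_two_pow (n := 12) (by simp only [ext]; omega) (by simp only [ext]; omega)
      have hlt : combAux octBasis (ext m ^^^ ext m') < 2 ^ 24 := by
        have hcl : ∀ L : List ℕ, (∀ b ∈ L, b < 2 ^ 24) → ∀ m, combAux L m < 2 ^ 24 := by
          intro L
          induction L with
          | nil => intro _ m; simp [combAux]
          | cons b bs ih =>
            intro hL m
            rw [combAux]
            refine Nat.xor_lt_two_pow ?_ (ih (fun x hx => hL x (List.mem_cons_of_mem _ hx)) _)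
            split
            exacts [hL b List.mem_cons_self, by norm_num]
        exact hcl _ (fun b hb => Golay.inCode_lt (hbas b hb).1) _
      rcases hcs with e1 | e1
      · rw [← OutCo1.toSet_zero] at e1
        have h0 := (hker0 _ hm).resolve_left (not_not.2 (Golay.toSet_injOn hlt (by norm_num) e1))
        have hmm : ext m = ext m' := Nat.eq_of_xor_eq_zero h0
        refine Prod.ext (Fin.ext ?_) (mul_inv_eq_one.1 hg)
        show m.val = m'.val
        simp only [ext] at hmm
        omega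
      · rw [← OutCo1.toSet_allMask] at e1
        have h1 := (hker1 _ hm).resolve_left (not_not.2 (Golay.toSet_injOn hlt (by decide) e1))
        exfalso
        have ht1 : ∀ m : Fin 2048, (ext m).testBit 1 = false := fun m => by
          simp only [ext, Nat.testBit_eq_decide_div_mod_eq, decide_eq_false_iff_not]
          omega
        have := congrArg (fun n => Nat.testBit n 1) h1
        simp only [Nat.testBit_xor, ht1, hu1] at this
        simp at this
    · rintro ⟨_, u, huU, rfl⟩
      obtain ⟨m, hm, g, rfl⟩ := hUdec u huU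
      obtain ⟨m', hm', hb, he⟩ : ∃ m', m' < 4096 ∧ m'.testBit 1 = false ∧
          σ (prodAux Lt m') = σ (prodAux Lt m) := by
        cases hb : m.testBit 1
        · exact ⟨m, hm, hb, rfl⟩
        · refine ⟨m ^^^ allCoord, Nat.xor_lt_two_pow (n := 12) hm (by decide), by
            rw [Nat.testBit_xor, hb, hu1]; rfl, ?_⟩
          have hz : σ (prodAux Lt allCoord) = 1 := by
            rw [(hσP _).2, hu, show (2 ^ 24 - 1 : ℕ) = OutCo1.allMask from rfl, OutCo1.toSet_allMask,
              eps, sign_eq univ_mem_code]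
            exact mk_eq_one.2 (Or.inr rfl)
          rw [hxor, map_mul, hz, mul_one]
      have hb' : m' / 2 % 2 = 0 := by
        simp only [Nat.testBit_eq_decide_div_mod_eq, decide_eq_false_iff_not] at hb
        omega
      refine ⟨(⟨m' % 2 + 2 * (m' / 4), by omega⟩, g), Subtype.ext ?_⟩
      show σ (prodAux Lt ((m' % 2 + 2 * (m' / 4)) % 2 + 4 * ((m' % 2 + 2 * (m' / 4)) / 2)) * lam g) = _
      rw [show (m' % 2 + 2 * (m' / 4)) % 2 + 4 * ((m' % 2 + 2 * (m' / 4)) / 2) = m' by omega,
        map_mul, he, ← map_mul]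
  haveI : Fact (Nat.Prime 2) := ⟨Nat.prime_two⟩
  have hidx : ¬ 2 ∣ S.index := by
    intro h
    have := Subgroup.card_mul_index S
    rw [hcardS, card_Co1] at this
    omega
  have hle : σ.ker ⊓ ⁅S.comap σ, S.comap σ⁆ ≤ σ.ker ⊓ U := by
    refine inf_le_inf_left _ ?_
    have hSU : closure (σ '' (U : Set Γ)) = S := by
      rw [← MonoidHom.map_closure, Subgroup.closure_eq]
    rw [← hSU]
    exact Cfsg.Agent.Mult93.commutator_comap_le σ hc _ U
      (fun t ht x hx => ⟨mul_mem (mul_mem ht hx) (inv_mem ht), mul_mem (mul_mem (inv_mem ht) hx) ht⟩)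
      fun a ha b hb => mul_mem (mul_mem (mul_mem ha hb) (inv_mem ha)) (inv_mem hb)
  have h4 : ¬ 4 ∣ Nat.card σ.ker := by
    refine Cfsg.Agent.Mult93.card_ker_dvd σ hσ 2 S hidx 1 ?_
    exact lt_of_le_of_lt ((Subgroup.card_le_of_le hle).trans hinter) (by norm_num)
  have hne : Nat.card σ.ker ≠ 0 := Nat.card_pos.ne'
  have hpow : Nat.card σ.ker = 2 ^ (Nat.card σ.ker).primeFactorsList.length :=
    Nat.eq_prime_pow_of_unique_prime_dvd hne fun {d} hd hdd => by
      by_contra h
      exact hodd d hd h hdd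
  rw [hpow] at h4 ⊢
  rcases Nat.lt_or_ge (Nat.card σ.ker).primeFactorsList.length 2 with h | h
  · exact le_trans (Nat.pow_le_pow_right (by norm_num) (by omega : _ ≤ 1)) (by norm_num)
  · exact absurd (pow_dvd_pow 2 h) h4

end Cfsg.Agent.Co1Mult96
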